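import Groth.Agent.Fib44.Gerbe
import Groth.Agent.AlgSt88.SpQDescend
import Groth.Agent.AlgSt88.DiagRep
import Groth.Agent.AlgSt88.DiagDescent
import Groth.Agent.SpFP87.CovDesc
import Groth.Agent.SpFP87.FpqcBase
import Groth.Agent.SpPts86.CovSigma

/-!
A section of a gerbe over an algebraic space is flat, locally of finite presentation and surjective.
-/

set_option autoImplicit false
set_option maxHeartbeats 1000000
set_option linter.style.haveILetI false
set_option backward.isDefEq.respectTransparency false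
set_option backward.isDefEq.respectTransparency.types false
universe u

open CategoryTheory CategoryTheory.Limits AlgebraicGeometry Opposite AlgSt FibCat
open Groth.Agent.AlgSt88 Groth.Agent.SpPts86

namespace Groth.Agent.Gerb44

variable {S : Scheme.{u}}

theorem covLift_of_comp {X Y Z : AlgSp.Sp S} {a : X ⟶ Y} {b : Y ⟶ Z} (h : CovLift (a ≫ b)) :
    CovLift b := fun T g => by
  obtain ⟨R, hR, hl⟩ := h T g
  refine ⟨R, hR, fun W c hc => ?_⟩
  obtain ⟨l, hl⟩ := hl W c hc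
  exact ⟨l ≫ a, by rw [Category.assoc, hl]⟩

theorem covLift_baseChange {P X Y Z : AlgSp.Sp S} {fst : P ⟶ X} {snd : P ⟶ Y} {f : X ⟶ Z} {g : Y ⟶ Z}
    (sq : IsPullback fst snd f g) (h : CovLift g) : CovLift fst := fun T t => by
  obtain ⟨R, hR, hl⟩ := h T (t ≫ f)
  refine ⟨R, hR, fun W c hc => ?_⟩
  obtain ⟨l, hl⟩ := hl W c hc
  exact ⟨sq.lift ((AlgSp.yon S).map c ≫ t) l (by rw [Category.assoc, hl]), sq.lift_fst _ _ _⟩

theorem isLocalOnBase_surj :
    AlgSp.IsLocalOnBase (AlgSp.IsFppfCover (S := S)) AlgSp.IsSurjectiveMor := by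
  intro ι Y Yi g _ _ hg X f _ Xi p q _ sq
  refine ⟨fun h i => SpFP87.isSurjectiveMor_baseChange (sq i) h, fun h y => ?_⟩
  obtain ⟨i, yi, rfl⟩ := hg.2 y
  obtain ⟨xi, rfl⟩ := h i yi
  exact ⟨AlgSp.Points.map (q i) xi, by rw [← AlgSp.Points.map_comp, (sq i).w, AlgSp.Points.map_comp]⟩

theorem stableBC_surj : StableBC (S := S) AlgSp.IsSurjectiveMor :=
  fun _ _ _ _ _ _ _ _ _ _ _ _ sq h => SpFP87.isSurjectiveMor_baseChange sq h

theorem isLocalOnBase_flat : AlgSp.IsLocalOnBase (AlgSp.IsFppfCover (S := S)) (AlgSp.LocP @Flat) :=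
  haveI := SpFP87.flat_descendsAlong.{u}
  fppf_local_of_fpqc SpFP87.isLocalOnBase_fpqc_locP

theorem isLocalOnBase_lfp :
    AlgSp.IsLocalOnBase (AlgSp.IsFppfCover (S := S)) (AlgSp.LocP @LocallyOfFinitePresentation) :=
  fppf_local_of_fpqc SpFP87.isLocalOnBase_fpqc_locP

/-- The identity comparison between the two descriptions of a slice. -/
noncomputable def sliceIso (T : Over S) :
    BasedFunctor.comp (toOverCat T) (ofOverCat T) ≅ BasedFunctor.id (ofSch T) :=
  BasedNatIso.mkNatIso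
    (NatIso.ofComponents (fun _ => Iso.refl _)
      (fun {_ _} _ => Stk.EltObj.hom_ext ((Category.comp_id _).trans (Category.id_comp _).symm)))
    (fun _ => IsHomLift.id rfl)

theorem homOfBased_overMap {W T : Over S} (f : W ⟶ T) :
    homOfBased (BasedFunctor.comp (toOverCat W) (BasedFunctor.comp (overMap f) (ofOverCat T))) =
      (AlgSp.yon S).map f := by
  obtain ⟨ι⟩ := toOver_overMap f
  rw [homOfBased_congr (F := (AlgSp.yon S).obj W) (G := (AlgSp.yon S).obj T)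
    (Φ := BasedFunctor.comp (toOverCat W) (BasedFunctor.comp (overMap f) (ofOverCat T)))
    (Ψ := ofSpMap ((AlgSp.yon S).map f))
    (bRight ι (ofOverCat T) ≪≫ bLeft (ofSpMap ((AlgSp.yon S).map f)) (sliceIso T))]
  exact homOfBased_ofSpMap _

section Section

variable {𝒳 : AlgSt.Cat S} {U : AlgSp.Space S}

/-- Objects of a gerbe are, fppf locally on their base, pulled back from a section. -/
theorem exists_local_triv (h𝒳 : IsAlgStack Scheme.fppfPrecoverage 𝒳) (π : 𝒳 ⥤ᵇ ofSp U.obj)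
    (hπ : Gerb.LocSurjHom (QuotSh.J Scheme.fppfPrecoverage S) π) (x : ofSp U.obj ⥤ᵇ 𝒳)
    (e : BasedFunctor.comp x π ≅ BasedFunctor.id (ofSp U.obj)) {V : Over S} (v : ofSch V ⥤ᵇ 𝒳) :
    ∃ (W : Over S) (c : W ⟶ V) (h : (AlgSp.yon S).obj W ⟶ U.obj), SpFP87.fppfSurj c.left ∧
      Nonempty (BasedFunctor.comp (ofSpMap ((AlgSp.yon S).map c)) v ≅ BasedFunctor.comp (ofSpMap h) x) := by
  have hX := h𝒳.isStack.1
  have hU := Stk.isFibGrpd_ofPsh U.obj.obj
  have hx : RepByAlgSp1 x :=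
    repByAlgSp1_from_space hX ((diag_iff hX).1 h𝒳.diag) (repByAlgSp_ofSp U) x
  obtain ⟨P, q, eP, heP, ⟨αq⟩, -⟩ := exists_space_fp hU hX hx (spY V) v
  obtain ⟨E, hE, ⟨εE⟩, ⟨εE'⟩⟩ := isEquivOver_inverse heP
  have hcov : CovLift q := by
    intro T g
    obtain ⟨t, rfl⟩ := (AlgSp.yon S).map_surjective g
    let vt : overCat T ⥤ᵇ 𝒳 :=
      BasedFunctor.comp (BasedFunctor.comp (ofOverCat T) (ofSpMap ((AlgSp.yon S).map t))) v
    let ut : overCat T ⥤ᵇ ofSp U.obj := BasedFunctor.comp vt π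
    let a : 𝒳.obj := vt.obj (Fib44.idObj T)
    let a' : 𝒳.obj := x.obj (ut.obj (Fib44.idObj T))
    let b : π.obj a ⟶ π.obj a' := e.inv.toNatTrans.app (π.obj a)
    have ha : 𝒳.p.obj a = T := vt.w_obj (Fib44.idObj T)
    have hb : (ofSp U.obj).p.IsHomLift (𝟙 T) b :=
      Fib44.lift_id_of_eq _ ((π.w_obj a).trans ha) (e.inv.isHomLift' (π.obj a))
    obtain ⟨R, hR, hRP⟩ := Fib44.onCover_hom hπ a a' ha b hb
    refine ⟨R, hR, fun W f hf => ?_⟩
    obtain ⟨x₀, φ, ψ, hφ, hψ, -⟩ := hRP f hf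
    let o : (overCat T).obj := (overMap f).obj (Fib44.idObj W)
    let tf : o ⟶ Fib44.idObj T :=
      Over.homMk f ((Category.comp_id _).trans (Category.id_comp _).symm)
    have htf : (overCat T).p.IsHomLift f tf :=
      IsHomLift.of_fac' _ _ _ rfl rfl
        (by simp only [eqToHom_refl, Category.id_comp, Category.comp_id]; rfl)
    let xt : overCat T ⥤ᵇ 𝒳 := BasedFunctor.comp ut x
    have h1 : 𝒳.p.IsHomLift f (vt.map tf) := inferInstance
    have h2 : 𝒳.p.IsHomLift f (xt.map tf) := inferInstance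
    have := Fib44.isSC_of_fibGrpd 𝒳.p hX f (vt.map tf)
    have := Fib44.isSC_of_fibGrpd 𝒳.p hX f (xt.map tf)
    let χ₁ := Functor.IsCartesian.map 𝒳.p f (vt.map tf) φ
    let χ₂ := Functor.IsCartesian.map 𝒳.p f (xt.map tf) ψ
    have hχ₁ : 𝒳.p.IsHomLift (𝟙 W) χ₁ := Functor.IsCartesian.map_isHomLift 𝒳.p f (vt.map tf) φ
    have hχ₂ : 𝒳.p.IsHomLift (𝟙 W) χ₂ := Functor.IsCartesian.map_isHomLift 𝒳.p f (xt.map tf) ψ
    have := Fib44.isIso_of_fibGrpd 𝒳.p hX (𝟙 W) χ₁
    have := Fib44.isIso_of_fibGrpd 𝒳.p hX (𝟙 W) χ₂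
    let ι : (BasedFunctor.comp (overMap f) vt).obj (Fib44.idObj W) ≅
        (BasedFunctor.comp (overMap f) xt).obj (Fib44.idObj W) := (asIso χ₁).symm ≪≫ asIso χ₂
    have hι : 𝒳.p.IsHomLift (𝟙 W) ι.hom := by
      change 𝒳.p.IsHomLift (𝟙 W) (inv χ₁ ≫ χ₂)
      infer_instance
    obtain ⟨γ⟩ := AlgSt88.nonempty_iso_of_app_id hX (y := BasedFunctor.comp (overMap f) vt)
      (y' := BasedFunctor.comp (overMap f) xt) ι hι
    let A : ofSch W ⥤ᵇ ofSch V := BasedFunctor.comp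
      (BasedFunctor.comp (toOverCat W) (BasedFunctor.comp (overMap f) (ofOverCat T)))
      (ofSpMap ((AlgSp.yon S).map t))
    let B : ofSch W ⥤ᵇ ofSp U.obj := BasedFunctor.comp (toOverCat W) (BasedFunctor.comp (overMap f) ut)
    let Φ : ofSch W ⥤ᵇ fp v x := fpLift A B (bLeft (toOverCat W) γ)
    refine ⟨homOfBased (BasedFunctor.comp Φ E), ?_⟩
    have hq : q = homOfBased (BasedFunctor.comp eP (fpFst v x)) := by
      rw [homOfBased_congr αq, homOfBased_ofSpMap]
    rw [hq, ← homOfBased_comp, ← Functor.map_comp]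
    rw [homOfBased_congr (F := (AlgSp.yon S).obj W) (G := (AlgSp.yon S).obj V)
      (Φ := BasedFunctor.comp (BasedFunctor.comp Φ E) (BasedFunctor.comp eP (fpFst v x))) (Ψ := A)
      (bLeft Φ (bRight εE' (fpFst v x)))]
    change homOfBased (BasedFunctor.comp _ (ofSpMap ((AlgSp.yon S).map t))) = _
    rw [homOfBased_comp, homOfBased_overMap, homOfBased_ofSpMap, Functor.map_comp]
  obtain ⟨W, c, L, hc, hL⟩ := locLift_of_covLift hcov V (𝟙 _)
  rw [Category.comp_id] at hL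
  let p : P.obj ⟶ U.obj := homOfBased (BasedFunctor.comp eP (fpSnd v x))
  refine ⟨W, c, L ≫ p, hc, ?_⟩
  obtain ⟨αp⟩ := exists_hom_iso (BasedFunctor.comp eP (fpSnd v x))
  obtain ⟨i₁⟩ := ofSpMap_comp_iso L q
  obtain ⟨i₂⟩ := ofSpMap_comp_iso L p
  rw [hL] at i₁
  exact ⟨(bRight i₁ v).symm ≪≫ bLeft (ofSpMap L) (bRight αq v).symm ≪≫
    bLeft (ofSpMap L) (bLeft eP (fpIso v x)) ≪≫ bLeft (ofSpMap L) (bRight αp x) ≪≫ bRight i₂ x⟩

/-- A section of a gerbe over an algebraic space is flat, locally of finite presentation and surjective. -/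
theorem section_flat_lfp_surjective (h𝒳 : IsAlgStack Scheme.fppfPrecoverage 𝒳) (π : 𝒳 ⥤ᵇ ofSp U.obj)
    (hπ : Gerb.LocSurjHom (QuotSh.J Scheme.fppfPrecoverage S) π) (x : ofSp U.obj ⥤ᵇ 𝒳)
    (e : BasedFunctor.comp x π ≅ BasedFunctor.id (ofSp U.obj)) :
    RepByAlgSpWith (AlgSp.LocP @Flat) x ∧
      RepByAlgSpWith (AlgSp.LocP @LocallyOfFinitePresentation) x ∧
      RepByAlgSpWith AlgSp.IsSurjectiveMor x := by
  have hX := h𝒳.isStack.1
  have hU := Stk.isFibGrpd_ofPsh U.obj.obj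
  have hx : RepByAlgSp1 x :=
    repByAlgSp1_from_space hX ((diag_iff hX).1 h𝒳.diag) (repByAlgSp_ofSp U) x
  obtain ⟨V, v, hv, hv'⟩ := exists_space_atlas h𝒳
  obtain ⟨W, c, h, hc, ⟨γ⟩⟩ := exists_local_triv h𝒳 π hπ x e v
  obtain ⟨hcs, hcf, hcp⟩ := (SpFP87.fppfSurj_iff _).1 hc
  let w : ofSch W ⥤ᵇ 𝒳 := BasedFunctor.comp (ofSpMap ((AlgSp.yon S).map c)) v
  have hW := Stk.isFibGrpd_ofPsh (spY W).obj.obj
  have hV := Stk.isFibGrpd_ofPsh (spY V).obj.obj
  have hw₁ : RepByAlgSpWith (AlgSp.LocP @Flat) w :=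
    repByAlgSpWith_locP_comp @Flat hW hV
      (repByAlgSpWith_ofSpMap (stableBC_locP _) (respectsIso_locP _) (F := spY W) (G := spY V) _
        ((SpFP87.locP_yon_map_iff _).2 hcf)) (rep_flat_of_sm hv)
  have hw₂ : RepByAlgSpWith (AlgSp.LocP @LocallyOfFinitePresentation) w :=
    repByAlgSpWith_locP_comp @LocallyOfFinitePresentation hW hV
      (repByAlgSpWith_ofSpMap (stableBC_locP _) (respectsIso_locP _) (F := spY W) (G := spY V) _
        ((SpFP87.locP_yon_map_iff _).2 hcp)) (rep_lfp_of_sm hv)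
  have hcs' : AlgSp.IsSurjectiveMor ((AlgSp.yon S).map c) := fun y => by
    obtain ⟨t, rfl⟩ := (AlgSp.Points.schemeHomeo V).surjective y
    obtain ⟨s, rfl⟩ := hcs.surj t
    exact ⟨AlgSp.Points.schemeHomeo W s, AlgSp.Points.map_yon_map_apply c s⟩
  have hw₃ : RepByAlgSpWith AlgSp.IsSurjectiveMor w :=
    repByAlgSpWith_surj_comp hW hV
      (repByAlgSpWith_ofSpMap stableBC_surj respectsIso_surj (F := spY W) (G := spY V) _ hcs') hv'
  -- the space of automorphisms of the section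
  obtain ⟨G, d, eG, heG, ⟨αd⟩, -⟩ := exists_space_fp hU hX hx U x
  obtain ⟨E, hE, ⟨εE⟩, ⟨εE'⟩⟩ := isEquivOver_inverse heG
  have hd' : homOfBased (BasedFunctor.comp eG (fpSnd x x)) = d := by
    rw [← homOfBased_ofSpMap d, ← homOfBased_congr αd]
    exact homOfBased_congr (F := G.obj) (G := U.obj)
      (bLeft eG ((bLeft (fpSnd x x) e).symm ≪≫ (bRight (fpIso x x) π).symm ≪≫ bLeft (fpFst x x) e))
  have hds : AlgSp.IsSurjectiveMor d := by
    let Δ : ofSp U.obj ⥤ᵇ fp x x :=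
      fpLift (BasedFunctor.id (ofSp U.obj)) (BasedFunctor.id (ofSp U.obj)) (Iso.refl _)
    have hΔ : homOfBased (BasedFunctor.comp Δ E) ≫ d = 𝟙 U.obj := by
      conv_lhs => rw [← homOfBased_ofSpMap d, ← homOfBased_congr αd, ← homOfBased_comp]
      rw [homOfBased_congr (F := U.obj) (G := U.obj)
        (Φ := BasedFunctor.comp (BasedFunctor.comp Δ E) (BasedFunctor.comp eG (fpFst x x)))
        (Ψ := BasedFunctor.id (ofSp U.obj)) (bLeft Δ (bRight εE' (fpFst x x)))]
      exact homOfBased_id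
    exact fun y => ⟨AlgSp.Points.map (homOfBased (BasedFunctor.comp Δ E)) y, by
      rw [← AlgSp.Points.map_comp, hΔ, AlgSp.Points.map_id]⟩
  -- its base change to the cover
  have sq := IsPullback.of_hasPullback d h
  have sqP := sq.flip.map (sheafToPresheaf (QuotSh.J Scheme.fppfPrecoverage S) (Type (u + 1)))
  let K : AlgSp.Space S := ⟨pullback d h,
    SpFP87.isAlgSpace_of_isPullback sq G.property (spY W).property U.property.diag⟩
  let Ψ : ofSp K.obj ⥤ᵇ fp w x :=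
    BasedFunctor.comp (pshFpLift sqP.w)
      (BasedFunctor.comp (fpCongr (F := ofSpMap h) (F' := ofSpMap h) (G := ofSpMap d)
          (G' := BasedFunctor.comp eG (fpFst x x)) (Iso.refl _) αd.symm)
        (BasedFunctor.comp (fpMapSnd (ofSpMap h) (fpFst x x) eG)
          (BasedFunctor.comp (fpPaste (ofSpMap h) x x) (fpCongr γ.symm (Iso.refl x)))))
  have hΨ : IsEquivOver Ψ := isEquivOver_comp (isEquivOver_pshFpLift sqP)
    (isEquivOver_comp (isEquivOver_fpCongr _ _) (isEquivOver_comp (isEquivOver_fpMapSnd _ _ _ heG)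
      (isEquivOver_comp (isEquivOver_fpPaste _ x x) (isEquivOver_fpCongr _ _))))
  have hfst : BasedFunctor.comp Ψ (fpFst w x) = ofSpMap (pullback.snd d h) := rfl
  have hsnd : BasedFunctor.comp Ψ (fpSnd w x) =
      BasedFunctor.comp (ofSpMap (pullback.fst d h)) (BasedFunctor.comp eG (fpSnd x x)) := rfl
  have hpp : homOfBased (BasedFunctor.comp Ψ (fpSnd w x)) = pullback.fst d h ≫ d := by
    rw [hsnd, homOfBased_comp, homOfBased_ofSpMap, hd']
  have hp₁ : AlgSp.LocP @Flat (pullback.fst d h ≫ d) := by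
    rw [← hpp]
    exact prop_homOfBased (respectsIso_locP _) (spaceDescends_locP _) (F := K) (G := U)
      ((repByAlgSpWith_precomp_equiv hΨ).2 (repByAlgSpWith_fpSnd x hw₁))
  have hp₂ : AlgSp.LocP @LocallyOfFinitePresentation (pullback.fst d h ≫ d) := by
    rw [← hpp]
    exact prop_homOfBased (respectsIso_locP _) (spaceDescends_locP _) (F := K) (G := U)
      ((repByAlgSpWith_precomp_equiv hΨ).2 (repByAlgSpWith_fpSnd x hw₂))
  have hp₃ : AlgSp.IsSurjectiveMor (pullback.fst d h ≫ d) := by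
    rw [← hpp]
    exact prop_homOfBased respectsIso_surj spaceDescends_surj (F := K) (G := U)
      ((repByAlgSpWith_precomp_equiv hΨ).2 (repByAlgSpWith_fpSnd x hw₃))
  have hh : CovLift h := covLift_of_comp (a := pullback.snd d h) (by
    rw [← pullback.condition]
    exact SpFP87.covLift_of_fppf _ K.property U.property hp₃ hp₁ hp₂)
  have hfc := covLift_baseChange sq hh
  have hd₁ : AlgSp.LocP @Flat d :=
    SpFP87.locP_flat_of_covLift K.property G.property U.property hfc hp₁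
  have hd₂ : AlgSp.LocP @LocallyOfFinitePresentation d :=
    SpFP87.locP_lfp_of_covLift K.property G.property U.property hfc hp₂
  have key : ∀ {Q : MorphismProperty (AlgSp.Sp S)}, StableBC Q →
      AlgSp.IsLocalOnBase AlgSp.IsFppfCover Q → Q d → RepByAlgSpWith Q x := fun {Q} hb hl hQd =>
    repByAlgSpWith_of_repSp_cover hU hX hb hl hx (spY W) w hw₁ hw₂ hw₃
      ⟨K, Ψ, hΨ, by
        rw [hfst, homOfBased_ofSpMap]
        exact hb G.property U.property K.property (spY W).property d h _ _ sq hQd⟩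
  exact ⟨key (stableBC_locP _) isLocalOnBase_flat hd₁, key (stableBC_locP _) isLocalOnBase_lfp hd₂,
    key stableBC_surj isLocalOnBase_surj hds⟩

end Section

end Groth.Agent.Gerb44
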