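import Groth.Agent.AlgSt88.RepPost

/-!
Composition with fully faithful functors on the target.
-/

set_option autoImplicit false
set_option backward.isDefEq.respectTransparency false
set_option backward.isDefEq.respectTransparency.types false
universe w₄ v₄ w₃ v₃ w₂ v₂ w v u v₁ u₁

open CategoryTheory CategoryTheory.Limits AlgebraicGeometry AlgSt FibCat
open Groth.Agent.AlgSt88

namespace Groth.Agent.Gerb44

section Cat

variable {C : Type u₁} [Category.{v₁} C] {𝒳 : BasedCategory.{v, w} C} {𝒴 : BasedCategory.{v₂, w₂} C}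
  {𝒮 : BasedCategory.{v₃, w₃} C} {𝒯 : BasedCategory.{v₄, w₄} C}
  (F : 𝒳 ⥤ᵇ 𝒮) (G : 𝒴 ⥤ᵇ 𝒮) (b : 𝒮 ⥤ᵇ 𝒯)

/-- Composing both legs with a fully faithful functor does not change the fibre product. -/
theorem isEquivOver_fpPost_ff [b.toFunctor.Full] [b.toFunctor.Faithful] : IsEquivOver (fpPost F G b) := by
  refine IsEquivData.isEquivOver ⟨?_, ?_, ?_⟩
  · intro x y f g h
    exact fpHom_ext (congrArg (fun t => t.hom.fst) h) (congrArg (fun t => t.hom.snd) h)
  · intro x y g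
    refine ⟨fpHom g.hom.fst g.hom.snd (b.toFunctor.map_injective ?_), fpHom_ext rfl rfl⟩
    rw [b.map_comp, b.map_comp]
    exact g.hom.w
  · intro z
    refine ⟨⟨⟨z.obj.fst, z.obj.snd, b.toFunctor.preimageIso z.obj.iso⟩, ?_⟩,
      fpObjIso (Iso.refl _) (Iso.refl _) (by
        change b.map (F.map (𝟙 _)) ≫ z.obj.iso.hom =
          b.map (b.toFunctor.preimage z.obj.iso.hom) ≫ b.map (G.map (𝟙 _))
        rw [F.map_id, G.map_id, b.map_id, b.map_id, b.toFunctor.map_preimage, Category.id_comp, Category.comp_id]),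
      fp_isHomLift _ (IsHomLift.id rfl)⟩
    change 𝒮.p.IsHomLift (𝟙 (𝒳.p.obj z.obj.fst)) (b.toFunctor.preimage z.obj.iso.hom)
    haveI : 𝒯.p.IsHomLift (𝟙 (𝒳.p.obj z.obj.fst)) (b.map (b.toFunctor.preimage z.obj.iso.hom)) := by
      rw [b.toFunctor.map_preimage]; exact z.property
    exact b.isHomLift_map (𝟙 (𝒳.p.obj z.obj.fst)) (b.toFunctor.preimage z.obj.iso.hom)

end Cat

variable {S : Scheme.{u}} {𝒳 : BasedCategory.{v, w} (Over S)} {𝒴 : BasedCategory.{v₂, w₂} (Over S)}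
  {𝒵 : BasedCategory.{v₃, w₃} (Over S)} {P : MorphismProperty (AlgSp.Sp S)}

theorem repByAlgSpWith_of_postcomp_ff {f : 𝒳 ⥤ᵇ 𝒴} (b : 𝒴 ⥤ᵇ 𝒵) [b.toFunctor.Full] [b.toFunctor.Faithful]
    (h : RepByAlgSpWith P (BasedFunctor.comp f b)) : RepByAlgSpWith P f := fun U y =>
  RepOver.transport' (h U (BasedFunctor.comp y b)) (isEquivOver_fpPost_ff y f b) (Iso.refl _)

end Groth.Agent.Gerb44
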