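import Groth.Agent.Gerb44.GerbeQC
import Groth.Agent.Gerb44.PostFF
import Groth.Agent.AlgSt88.Pi0
import Groth.Agent.AlgSt88.DiagCalc
import Groth.Agent.AlgSt88.Bootstrap
import Groth.Agent.SpFP87.FlatDesc
import Groth.Agent.Fib44.Psh

/-!
An algebraic stack with flat, locally finitely presented inertia is a gerbe over the algebraic space of its
sheafified isomorphism classes.
-/

set_option autoImplicit false
set_option maxHeartbeats 1000000
set_option linter.style.haveILetI false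
set_option backward.isDefEq.respectTransparency false
set_option backward.isDefEq.respectTransparency.types false
universe u

open CategoryTheory CategoryTheory.Limits AlgebraicGeometry Opposite AlgSt FibCat
open Groth.Agent.AlgSt88

namespace Groth.Agent.Gerb44

variable {S : Scheme.{u}} {𝒳 : AlgSt.Cat S}

/-- The sheaf of isomorphism classes. -/
noncomputable def classSheaf (hX : IsFibGrpd 𝒳.p) : AlgSp.Sp S :=
  (presheafToSheaf (QuotSh.J Scheme.fppfPrecoverage S) (Type (u + 1))).obj (pi0 𝒳 hX)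

/-- The unit of the sheafification of isomorphism classes. -/
noncomputable def classUnit (hX : IsFibGrpd 𝒳.p) : pi0 𝒳 hX ⟶ (classSheaf hX).obj :=
  toSheafify (QuotSh.J Scheme.fppfPrecoverage S) (pi0 𝒳 hX)

/-- The map to the sheaf of isomorphism classes. -/
noncomputable def toClass (hX : IsFibGrpd 𝒳.p) : 𝒳 ⥤ᵇ ofSp (classSheaf hX) :=
  BasedFunctor.comp (toPi0 hX) (Stk.ofPshMap (classUnit hX))

theorem isGerbeOver_toClass (hX : IsFibGrpd 𝒳.p) :
    Gerb.IsGerbeOver (QuotSh.J Scheme.fppfPrecoverage S) (toClass hX) := by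
  have hsurj : Presheaf.IsLocallySurjective (QuotSh.J Scheme.fppfPrecoverage S) (classUnit hX) := by
    unfold classUnit; infer_instance
  have hinj : Presheaf.IsLocallyInjective (QuotSh.J Scheme.fppfPrecoverage S) (classUnit hX) := by
    unfold classUnit; infer_instance
  refine ⟨fun y => ?_, fun a a' b hb => ?_⟩
  · refine ⟨_, Presheaf.imageSieve_mem (QuotSh.J Scheme.fppfPrecoverage S) (classUnit hX) (U := op y.base) y.sec,
      fun V f hf => ?_⟩
    obtain ⟨⟨q⟩, hq⟩ := hf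
    induction q using Quot.ind with
    | _ a =>
      obtain ⟨x, hx⟩ := a
      change 𝒳.p.obj x = V at hx
      subst hx
      exact ⟨x, ⟨f, hq.symm⟩, IsHomLift.of_fac' (ofSp (classSheaf hX)).p f _ rfl rfl
        ((Category.id_comp _).trans (Category.comp_id _)).symm⟩
  · have hb0 := @IsHomLift.codomain_eq _ _ _ _ (ofSp (classSheaf hX)).p _ _ _ _ (𝟙 (𝒳.p.obj a)) b hb
    have ha' : 𝒳.p.obj a' = 𝒳.p.obj a := ((toClass hX).w_obj a').symm.trans hb0
    have hbh : b.hom = eqToHom ha'.symm := by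
      have := @IsHomLift.fac' _ _ _ _ (ofSp (classSheaf hX)).p _ _ _ _ (𝟙 (𝒳.p.obj a)) b hb
      exact this.trans (by simp)
    let c : (pi0 𝒳 hX).obj (op (𝒳.p.obj a)) := ⟨Quot.mk _ ⟨a, rfl⟩⟩
    let c' : (pi0 𝒳 hX).obj (op (𝒳.p.obj a)) := ⟨Quot.mk _ ⟨a', ha'⟩⟩
    have hres : (pi0 𝒳 hX).map (eqToHom ha'.symm).op ⟨Quot.mk _ ⟨a', rfl⟩⟩ = c' :=
      congrArg ULift.up (piRestr_eq hX (b := ⟨a', ha'⟩) ⟨𝟙 a', by simp⟩)
    have hcc : (classUnit hX).app (op (𝒳.p.obj a)) c = (classUnit hX).app (op (𝒳.p.obj a)) c' := by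
      rw [← hres, NatTrans.naturality_apply, ← hbh]
      exact b.map_sec.symm
    refine ⟨_, Presheaf.equalizerSieve_mem (QuotSh.J Scheme.fppfPrecoverage S) (classUnit hX) c c' hcc,
      fun V f hf => ?_⟩
    obtain ⟨x₀, hx₀⟩ := exists_isRestr hX f ⟨a, rfl⟩
    obtain ⟨x₁, hx₁⟩ := exists_isRestr hX f ⟨a', ha'⟩
    have hh : Quot.mk IsoOver x₀ = Quot.mk IsoOver x₁ := by
      rw [← piRestr_eq hX hx₀, ← piRestr_eq hX hx₁]
      exact congrArg ULift.down hf
    obtain ⟨τ, hτ⟩ := isoOver_of_quot_eq hX hh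
    obtain ⟨φ, hφ⟩ := hx₀
    obtain ⟨ψ, hψ⟩ := hx₁
    have h1 : 𝒳.p.IsHomLift f φ := IsHomLift.of_fac' _ _ _ x₀.2 rfl hφ
    have h2 : 𝒳.p.IsHomLift f (τ ≫ ψ) := IsHomLift.of_fac' _ _ _ x₀.2 ha' (by simp [hτ, hψ])
    refine ⟨x₀.1, φ, τ ≫ ψ, h1, h2, Stk.EltObj.hom_ext ?_⟩
    change 𝒳.p.map φ ≫ b.hom = 𝒳.p.map (τ ≫ ψ)
    rw [hbh, hφ, Functor.map_comp, hτ, hψ]
    simp

variable (hX : IsFibGrpd 𝒳.p)

theorem full_toClassProd : (fpToProd (toClass hX) (toClass hX)).toFunctor.Full where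
  map_surjective {a b} g := by
    refine ⟨fpHom g.hom.fst g.hom.snd (Stk.EltObj.hom_ext ?_), fpHom_ext rfl rfl⟩
    have hb := @IsHomLift.fac' _ _ _ _ (ofSp (classSheaf hX)).p _ _ _ _ (𝟙 _) b.obj.iso.hom b.property
    have ha := @IsHomLift.fac' _ _ _ _ (ofSp (classSheaf hX)).p _ _ _ _ (𝟙 _) a.obj.iso.hom a.property
    change 𝒳.p.map g.hom.fst ≫ (ofSp (classSheaf hX)).p.map b.obj.iso.hom =
      (ofSp (classSheaf hX)).p.map a.obj.iso.hom ≫ 𝒳.p.map g.hom.snd
    have hw := g.hom.w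
    change 𝒳.p.map g.hom.fst ≫ ((fpToProd (toClass hX) (toClass hX)).obj b).obj.iso.hom =
      ((fpToProd (toClass hX) (toClass hX)).obj a).obj.iso.hom ≫ 𝒳.p.map g.hom.snd at hw
    have hb' := @IsHomLift.fac' _ _ _ _ (selfOver (Over S)).p _ _ _ _ (𝟙 _)
      ((fpToProd (toClass hX) (toClass hX)).obj b).obj.iso.hom ((fpToProd (toClass hX) (toClass hX)).obj b).property
    have ha' := @IsHomLift.fac' _ _ _ _ (selfOver (Over S)).p _ _ _ _ (𝟙 _)
      ((fpToProd (toClass hX) (toClass hX)).obj a).obj.iso.hom ((fpToProd (toClass hX) (toClass hX)).obj a).property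
    rw [ha, hb]
    change _ = _ at hb'
    rw [show ((fpToProd (toClass hX) (toClass hX)).obj b).obj.iso.hom = _ from hb',
      show ((fpToProd (toClass hX) (toClass hX)).obj a).obj.iso.hom = _ from ha'] at hw
    simp only [Category.id_comp, eqToHom_trans] at hw ⊢
    exact hw

theorem faithful_toClassProd : (fpToProd (toClass hX) (toClass hX)).toFunctor.Faithful :=
  ⟨fun h => fpHom_ext (congrArg (fun t => t.hom.fst) h) (congrArg (fun t => t.hom.snd) h)⟩

theorem locSurjObj_diag {𝒴 : AlgSt.Cat S} {π : 𝒳 ⥤ᵇ 𝒴}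
    (h : Gerb.LocSurjHom (QuotSh.J Scheme.fppfPrecoverage S) π) :
    Gerb.LocSurjObj (QuotSh.J Scheme.fppfPrecoverage S) (diag π) := by
  intro o
  obtain ⟨R, hR, hl⟩ := h o.obj.fst o.obj.snd o.obj.iso.hom o.property
  refine ⟨R, hR, fun V f hf => ?_⟩
  obtain ⟨x₀, φ, ψ, hφ, hψ, hw⟩ := hl f hf
  exact ⟨x₀, fpHom φ ψ (hw.trans (Category.id_comp _).symm), fp_isHomLift _ hφ⟩

theorem exists_lift_functor {𝒴 : AlgSt.Cat S} (hY : IsFibGrpd 𝒴.p) {f : 𝒳 ⥤ᵇ 𝒴} (hX : IsFibGrpd 𝒳.p)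
    (hf : Gerb.LocSurjObj (QuotSh.J Scheme.fppfPrecoverage S) f) (T : Over S) (s : overCat T ⥤ᵇ 𝒴) :
    ∃ R ∈ (QuotSh.J Scheme.fppfPrecoverage S) T, ∀ ⦃V : Over S⦄ (c : V ⟶ T), R.arrows c →
      ∃ x : overCat V ⥤ᵇ 𝒳, Nonempty (BasedFunctor.comp x f ≅ BasedFunctor.comp (overMap c) s) := by
  obtain ⟨R, hR, hl⟩ := hf (s.obj (Fib44.idObj T))
  have hb : 𝒴.p.obj (s.obj (Fib44.idObj T)) = T := s.w_obj _
  refine ⟨R.pullback (eqToHom hb.symm), (QuotSh.J _ S).pullback_stable _ hR, fun V c hc => ?_⟩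
  obtain ⟨ξ, φ, hφ⟩ := hl (c ≫ eqToHom hb.symm) hc
  haveI := hφ
  have hξ : 𝒳.p.obj ξ = V :=
    (f.w_obj ξ).symm.trans (IsHomLift.domain_eq 𝒴.p (c ≫ eqToHom hb.symm) φ)
  obtain ⟨ε, hε⟩ := classify_mk_id hX ξ hξ
  haveI := hε
  haveI : 𝒴.p.IsHomLift c φ :=
    IsHomLift.of_fac' _ _ _ (IsHomLift.domain_eq 𝒴.p (c ≫ eqToHom hb.symm) φ) hb
      (by rw [IsHomLift.fac' 𝒴.p (c ≫ eqToHom hb.symm) φ]; simp)
  exact ⟨classify hX ξ hξ, nonempty_iso_of_lift hY (BasedFunctor.comp (classify hX ξ hξ) f) s c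
    (f.map ε.hom ≫ φ) inferInstance⟩

theorem repFppf_diag_toClass (h : IsAlgStack Scheme.fppfPrecoverage 𝒳)
    (hI : LocQ (AlgSp.LocP @Flat) (inertiaToBase (toSelf 𝒳)) ∧
      LocQ (AlgSp.LocP @LocallyOfFinitePresentation) (inertiaToBase (toSelf 𝒳))) :
    RepFppf (diag (toClass h.isStack.1)) := by
  have hX := h.isStack.1
  have hS := isAlgStack_selfOver (S := S)
  have hXX := isAlgStack_fp hS.isStack hS.diag h h (toSelf 𝒳) (toSelf 𝒳)
  let π := toClass hX
  let incl := fpToProd π π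
  haveI := full_toClassProd hX
  haveI := faithful_toClassProd hX
  let γ : BasedFunctor.comp (diag π) incl ≅ diag (toSelf 𝒳) :=
    fpNatIso (Φ := BasedFunctor.comp (diag π) incl) (Ψ := diag (toSelf 𝒳)) (Iso.refl _) (Iso.refl _) (fun x => by
      refine self_hom_ext (𝟙 (𝒳.p.obj x)) ?_ ?_
      · change (selfOver _).p.IsHomLift _ ((toSelf 𝒳).map (𝟙 x) ≫ _)
        rw [(toSelf 𝒳).map_id, Category.id_comp]
        exact ((diag (toSelf 𝒳)).obj x).property
      · change (selfOver _).p.IsHomLift _ (_ ≫ (toSelf 𝒳).map (𝟙 x))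
        rw [(toSelf 𝒳).map_id, Category.comp_id]
        exact ((BasedFunctor.comp (diag π) incl).obj x).property)
  have hr : RepByAlgSp1 (diag π) := repByAlgSpWith_top_iff.1 (repByAlgSpWith_of_postcomp_ff incl
    (repByAlgSpWith_of_iso γ.symm (repByAlgSpWith_top_iff.2 h.diag)))
  have hP := isFibGrpd_fp hX hX (Stk.isFibGrpd_ofPsh (classSheaf hX).obj) π π
  let D := diag (toSelf 𝒳)
  have hFF := isAlgStack_fp hXX.isStack hXX.diag h h D D
  obtain ⟨G, hG, -, -⟩ := isEquivOver_inverse (isEquivOver_inertiaToFp hX (toSelf 𝒳))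
  have hIn := isAlgStack_of_equiv hG hFF
  have hIr : RepByAlgSp1 (inertiaToBase (toSelf 𝒳)) :=
    repByAlgSpWith_top_iff.1 (repByAlgSpWith_inertiaToBase hX _ (repByAlgSpWith_top_iff.2 h.diag))
  have fromInertia : ∀ {P : MorphismProperty (AlgSp.Sp S)},
      RepByAlgSpWith P (inertiaToBase (toSelf 𝒳)) → RepByAlgSpWith P (fpFst D D) := fun hP =>
    (repByAlgSpWith_precomp_equiv (isEquivOver_inertiaToFp hX (toSelf 𝒳))).1
      (repByAlgSpWith_of_iso (f := inertiaToBase (toSelf 𝒳)) (Iso.refl _) hP)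
  let Φ := BasedFunctor.comp (fpPost (diag π) (diag π) incl) (fpCongr (F' := D) (G' := D) γ γ)
  have hΦ : IsEquivOver Φ := isEquivOver_comp (isEquivOver_fpPost_ff _ _ incl) (isEquivOver_fpCongr γ γ)
  have tr : ∀ {P : MorphismProperty (AlgSp.Sp S)}, RepByAlgSpWith P (fpFst D D) →
      RepByAlgSpWith P (fpFst (diag π) (diag π)) := fun hP =>
    repByAlgSpWith_of_iso (f := BasedFunctor.comp Φ (fpFst D D)) (Iso.refl _)
      ((repByAlgSpWith_precomp_equiv hΦ).2 hP)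
  have hs : Sj (fpFst D D) := by
    refine sj_of_isSurjective hFF.isStack.1 hX (repByAlgSp1_fpFst D h.diag) ?_
    let i : 𝒳 ⥤ᵇ 𝒳 := BasedFunctor.id 𝒳
    exact surjective_of_comp (a := fpLift i i (Iso.refl (BasedFunctor.comp i D))) (b := fpFst D D)
      (fun p => ⟨p, points_map_id p⟩)
  have hl := exists_lift_functor hP hX (locSurjObj_diag (isGerbeOver_toClass hX).2)
  exact ⟨repByAlgSpWith_of_fpFst_locally hX hP isLocalOnBase_flat hr hl (tr (fromInertia
      ((locQ_iff_repByAlgSpWith smoothLocal_flat (stableBC_locP _) isLocalOnBase_flat hIn h hIr).1 hI.1))),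
    repByAlgSpWith_of_fpFst_locally hX hP isLocalOnBase_lfp hr hl (tr (fromInertia
      ((locQ_iff_repByAlgSpWith smoothLocal_lfp (stableBC_locP _) isLocalOnBase_lfp hIn h hIr).1 hI.2))),
    repByAlgSpWith_of_fpFst_locally hX hP isLocalOnBase_surj hr hl (tr hs)⟩

theorem isAlgSpace_classSheaf (h : IsAlgStack Scheme.fppfPrecoverage 𝒳)
    (hI : LocQ (AlgSp.LocP @Flat) (inertiaToBase (toSelf 𝒳)) ∧
      LocQ (AlgSp.LocP @LocallyOfFinitePresentation) (inertiaToBase (toSelf 𝒳))) :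
    AlgSp.IsAlgSpace (classSheaf h.isStack.1) := by
  have hX := h.isStack.1
  have hΔ := repFppf_diag_toClass h hI
  let π := toClass hX
  let C := classSheaf hX
  obtain ⟨V, y, hy, hy'⟩ := exists_space_atlas h
  have hV := Stk.isFibGrpd_ofPsh (spY V).obj.obj
  let m : ofSch V ⥤ᵇ ofSp C := BasedFunctor.comp y π
  let q : (AlgSp.yon S).obj V ⟶ C := homOfBased m
  obtain ⟨γ⟩ := exists_hom_iso m
  have hC : Stk.IsStack (QuotSh.J Scheme.fppfPrecoverage S) (ofSp C) :=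
    (Fib44.isStack_ofPsh_iff _).2 ((isSheaf_iff_isSheaf_of_type _ _).1 C.property)
  have hVs := (isDM_ofSp (spY V)).1.isStack
  have hH : Stk.IsStack (QuotSh.J Scheme.fppfPrecoverage S) (fp m m) :=
    Fib44.isStack_fp hVs hVs (Fib44.isPrestack_of_isStack hC)
  have thin : ∀ {a b : (fp m m).obj} (f g : a ⟶ b), (fp m m).p.map f = (fp m m).p.map g → f = g := by
    intro a b f g e
    refine fpHom_ext (Stk.EltObj.hom_ext e) (Stk.EltObj.hom_ext ?_)
    change (ofSch V).p.map ((fpSnd m m).map f) = (ofSch V).p.map ((fpSnd m m).map g)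
    rw [p_map_eq, p_map_eq, e]
  obtain ⟨R₀, e₀, he₀⟩ :=
    repByAlgSp1_of_diag hX h.diag hV (repByAlgSp_ofSp (spY V)) (repByAlgSp_ofSp (spY V)) y y
  let g : fp y y ⥤ᵇ fp m m := fpPost y y π
  have hg : ∀ {P : MorphismProperty (AlgSp.Sp S)}, RepByAlgSpWith P (diag π) →
      RepByAlgSpWith P (BasedFunctor.comp e₀ g) := fun hP =>
    (repByAlgSpWith_precomp_equiv he₀).2 (repByAlgSpWith_fpPost y y hP)
  obtain ⟨R, e, he⟩ := repByAlgSp_of_setoid_cover hH thin R₀ (BasedFunctor.comp e₀ g) (hg hΔ.flat) (hg hΔ.lfp) (hg hΔ.surj)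
  let K := pullback q q
  have sqP := (IsPullback.of_hasPullback q q).map (sheafToPresheaf (QuotSh.J Scheme.fppfPrecoverage S) (Type (u + 1)))
  let ψ : ofSp K ⥤ᵇ fp m m :=
    BasedFunctor.comp (pshFpLift sqP.w) (fpCongr (F := ofSpMap q) (G := ofSpMap q) (F' := m) (G' := m) γ.symm γ.symm)
  have hψ : IsEquivOver ψ := isEquivOver_comp (isEquivOver_pshFpLift sqP) (isEquivOver_fpCongr _ _)
  obtain ⟨ψ', hψ', -, ⟨β⟩⟩ := isEquivOver_inverse hψ
  have hK : AlgSp.IsAlgSpace K := by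
    haveI := isIso_homOfBased (F := R.obj) (G := K) (isEquivOver_comp he hψ')
    exact R.property.of_iso (asIso (homOfBased (F := R.obj) (G := K) (BasedFunctor.comp e ψ')))
  let Kq : AlgSp.Space S := ⟨K, hK⟩
  let A : ofSp R₀.obj ⥤ᵇ ofSp Kq.obj := BasedFunctor.comp (BasedFunctor.comp e₀ g) ψ'
  let a : R₀.obj ⟶ K := homOfBased (F := R₀.obj) (G := K) A
  have hA : ∀ {P : MorphismProperty (AlgSp.Sp S)}, RepByAlgSpWith P (diag π) → RepByAlgSpWith P A :=
    fun hP => (repByAlgSpWith_postcomp_equiv hψ').2 (hg hP)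
  have haf : AlgSp.LocP @Flat a := prop_homOfBased (F := R₀) (G := Kq) (respectsIso_locP _) (spaceDescends_locP _) (hA hΔ.flat)
  have hap : AlgSp.LocP @LocallyOfFinitePresentation a :=
    prop_homOfBased (F := R₀) (G := Kq) (respectsIso_locP _) (spaceDescends_locP _) (hA hΔ.lfp)
  have has : AlgSp.IsSurjectiveMor a :=
    prop_homOfBased (F := R₀) (G := Kq) respectsIso_surj spaceDescends_surj (hA hΔ.surj)
  have hcov : SpPts86.CovLift a := SpFP87.covLift_of_fppf a R₀.property hK has haf hap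
  let s : K ⟶ (AlgSp.yon S).obj V := pullback.snd q q
  let P₂ : ofSp R₀.obj ⥤ᵇ ofSp (spY V).obj := BasedFunctor.comp e₀ (fpSnd y y)
  have has' : a ≫ s = homOfBased (F := R₀.obj) (G := (spY V).obj) P₂ := by
    conv_lhs => rw [show s = homOfBased (ofSpMap s) from (homOfBased_ofSpMap s).symm]
    rw [← homOfBased_comp]
    exact homOfBased_congr (bLeft (BasedFunctor.comp e₀ g) (bRight β (fpSnd m m)))
  have hsm : AlgSp.LocP @Smooth (a ≫ s) := by
    rw [has']
    exact prop_homOfBased (F := R₀) (G := spY V) (respectsIso_locP _) (spaceDescends_locP _)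
      ((repByAlgSpWith_precomp_equiv he₀).2 (repByAlgSpWith_fpSnd y hy))
  have hV' := AlgSp.IsAlgSpace.yon_obj V
  have hq : SpFP87.LocLift q := by
    refine SpPts86.locLift_of_covLift fun T t => ?_
    obtain ⟨R₁, hR₁, hl⟩ := exists_lift_functor hC.1 hX (isGerbeOver_toClass hX).1 T
      (BasedFunctor.comp (ofOverCat T) (ofSpMap t))
    obtain ⟨z1, z2, z3⟩ := (RepFppf.of_atlas hy hy').locQ (isDM_ofSp (spY V)).1 h
    have hls := locSurjObj_of_flat_lfp_surjective (isDM_ofSp (spY V)).1 h z1 z2 z3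
    choose x hx using hl
    choose R₂ hR₂ hl₂ using fun (W : Over S) (c : W ⟶ T) (hc : R₁.arrows c) =>
      exists_lift_functor hX hV hls W (x c hc)
    refine ⟨Sieve.bind R₁.arrows fun W c hc => R₂ W c hc,
      (QuotSh.J _ S).bind_covering hR₁ fun W c hc => hR₂ W c hc, ?_⟩
    rintro W' _ ⟨W, d, c, hc, hd, rfl⟩
    obtain ⟨ι⟩ := hx c hc
    obtain ⟨x', ⟨κ⟩⟩ := hl₂ W c hc d hd
    obtain ⟨ω⟩ : Nonempty (BasedFunctor.comp (overMap d) (overMap c) ≅ overMap (d ≫ c)) :=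
      nonempty_iso_of_app_id (isFibGrpd_overCat T) (Over.isoMk (Iso.refl _) (by simp; rfl))
        (IsHomLift.of_fac' _ _ _ rfl rfl (by simp [overCat]; rfl))
    let r := BasedFunctor.comp (ofOverCat T) (ofSpMap t)
    refine ⟨homOfBased (F := (AlgSp.yon S).obj W') (G := (AlgSp.yon S).obj V) (BasedFunctor.comp (toOverCat W') x'), ?_⟩
    have h1 : BasedFunctor.comp (BasedFunctor.comp (toOverCat W') x') m ≅
        BasedFunctor.comp (BasedFunctor.comp (toOverCat W') (BasedFunctor.comp (overMap (d ≫ c)) (ofOverCat T)))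
          (ofSpMap t) :=
      bLeft (toOverCat W') (bRight κ π ≪≫ bLeft (overMap d) ι ≪≫ bRight ω r)
    rw [← homOfBased_comp, homOfBased_congr h1, homOfBased_comp, homOfBased_overMap, homOfBased_ofSpMap]
  exact SpPts86.isAlgSpace_of_space_kernelPair hq (IsPullback.of_hasPullback q q) hK
    (SpFP87.locP_flat_of_covLift R₀.property hK hV' hcov (flat_of_smooth' hsm))
    (SpFP87.locP_lfp_of_covLift R₀.property hK hV' hcov (lfp_of_smooth' hsm))

end Groth.Agent.Gerb44
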