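import Groth.Agent.Gerb44.AlgGerbe
/-! An algebraic stack is a gerbe exactly when its inertia is flat and locally finitely presented. -/

set_option autoImplicit false
set_option linter.style.haveILetI false
set_option backward.isDefEq.respectTransparency false
set_option backward.isDefEq.respectTransparency.types false
universe u
open CategoryTheory CategoryTheory.Limits AlgebraicGeometry Opposite AlgSt FibCat
open Groth.Agent.AlgSt88
namespace Groth.Agent.Gerb44
variable {S : Scheme.{u}} {𝒳 : AlgSt.Cat S}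

theorem map_aut_ofSp {F : AlgSp.Sp S} (π : 𝒳 ⥤ᵇ ofSp F) (x : InertiaObj (toSelf 𝒳)) :
    π.map x.aut.hom = 𝟙 _ := by
  haveI := aut_isHomLift x
  haveI : (ofSp F).p.IsHomLift (𝟙 (𝒳.p.obj x.pt)) (π.map x.aut.hom) :=
    BasedFunctor.preserves_isHomLift π _ x.aut.hom
  refine Stk.EltObj.hom_ext ?_
  have := IsHomLift.fac' (ofSp F).p (𝟙 (𝒳.p.obj x.pt)) (π.map x.aut.hom)
  exact this.trans (by simp)

noncomputable def inertiaOfSelf {F : AlgSp.Sp S} (π : 𝒳 ⥤ᵇ ofSp F) : inertia (toSelf 𝒳) ⥤ᵇ inertia π where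
  toFunctor :=
    { obj := fun x => ⟨x.pt, x.aut, map_aut_ofSp π x⟩
      map := fun g => ⟨g.hom, g.comm⟩ }
  w := rfl

theorem isEquivOver_inertiaOfSelf {F : AlgSp.Sp S} (π : 𝒳 ⥤ᵇ ofSp F) : IsEquivOver (inertiaOfSelf π) := by
  refine IsEquivData.isEquivOver ⟨fun a b e => InertiaObj.hom_ext (congrArg (fun g => g.hom) e),
    fun {x y} g => ⟨⟨g.hom, g.comm⟩, rfl⟩, fun z => ?_⟩
  haveI := aut_isHomLift z
  exact ⟨⟨z.pt, z.aut, (IsHomLift.fac' 𝒳.p (𝟙 (𝒳.p.obj z.pt)) z.aut.hom).trans (by simp; rfl)⟩,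
    Iso.refl _, IsHomLift.id rfl⟩

theorem isAlgGerbe_iff (h : IsAlgStack Scheme.fppfPrecoverage 𝒳) :
    Gerb.IsAlgGerbe Scheme.fppfPrecoverage 𝒳 ↔
      LocQ (AlgSp.LocP @Flat) (inertiaToBase (toSelf 𝒳)) ∧
        LocQ (AlgSp.LocP @LocallyOfFinitePresentation) (inertiaToBase (toSelf 𝒳)) := by
  constructor
  · rintro ⟨X, π, hπ⟩
    have hX := h.isStack.1
    have hD := gerbe_diag_repFppf h (isDM_ofSp X).1 hπ
    have hS := isAlgStack_selfOver (S := S)
    have hXX := isAlgStack_fp hS.isStack hS.diag h h (toSelf 𝒳) (toSelf 𝒳)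
    have hFF := isAlgStack_fp hXX.isStack hXX.diag h h (diag (toSelf 𝒳)) (diag (toSelf 𝒳))
    obtain ⟨G, hG, -, -⟩ := isEquivOver_inverse (isEquivOver_inertiaToFp hX (toSelf 𝒳))
    have hI := isAlgStack_of_equiv hG hFF
    have hE := isEquivOver_inertiaOfSelf π
    have tr : ∀ {P : MorphismProperty (AlgSp.Sp S)}, RepByAlgSpWith P (inertiaToBase π) →
        RepByAlgSpWith P (inertiaToBase (toSelf 𝒳)) := fun hP =>
      repByAlgSpWith_of_iso (f := BasedFunctor.comp (inertiaOfSelf π) (inertiaToBase π)) (Iso.refl _)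
        ((repByAlgSpWith_precomp_equiv hE).2 hP)
    exact (RepFppf.locQ ⟨tr (repByAlgSpWith_inertiaToBase hX π hD.flat),
      tr (repByAlgSpWith_inertiaToBase hX π hD.lfp), tr (repByAlgSpWith_inertiaToBase hX π hD.surj)⟩ hI h).2
  · intro hI
    exact ⟨⟨_, isAlgSpace_classSheaf h hI⟩, toClass h.isStack.1, isGerbeOver_toClass h.isStack.1⟩

end Groth.Agent.Gerb44
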