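import Groth.Agent.AlgSt88.FamilyCover
import Groth.Agent.SpFP87.Covers
import Groth.Agent.Fib44.Gerbe
import Groth.Agent.Fib44.GerbeFunctor

/-!
Surjective flat morphisms of finite presentation between stacks lift objects locally.
-/

set_option autoImplicit false
set_option backward.isDefEq.respectTransparency false
set_option backward.isDefEq.respectTransparency.types false

universe u

open CategoryTheory CategoryTheory.Functor AlgebraicGeometry FibCat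

namespace Groth.Agent.Gerb44

variable {S : Scheme.{u}} {𝒳 𝒴 : AlgSt.Cat S}

theorem locSurjObj_of_flat_lfp_surjective (h𝒳 : AlgSt.IsAlgStack Scheme.fppfPrecoverage 𝒳)
    (h𝒴 : AlgSt.IsAlgStack Scheme.fppfPrecoverage 𝒴) {g : 𝒳 ⥤ᵇ 𝒴} (hs : AlgSt.IsSurjective g)
    (hf : AlgSt.LocQ (AlgSp.LocP @Flat) g) (hp : AlgSt.LocQ (AlgSp.LocP @LocallyOfFinitePresentation) g) :
    Gerb.LocSurjObj (QuotSh.J Scheme.fppfPrecoverage S) g := by
  intro y
  have hX := h𝒳.1.1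
  have hY := h𝒴.1.1
  let c : overCat (𝒴.p.obj y) ⥤ᵇ 𝒴 := AlgSt88.classify hY y rfl
  obtain ⟨ε, hε⟩ := AlgSt88.classify_mk_id hY y rfl
  obtain ⟨ι, V, k, j, hmem, hlift⟩ := AlgSt88.exists_fppf_cover_lifting (J := PUnit.{u + 1}) h𝒴 (fun _ => h𝒳)
    (fun _ => g) (fun _ => hf) (fun _ => hp)
    (fun q => ⟨PUnit.unit, hs q⟩) (𝒴.p.obj y) c
  obtain ⟨hsurj, hfl⟩ := (Scheme.ofArrows_mem_precoverage_iff _).1 hmem
  refine ⟨Sieve.ofArrows V k, SpFP87.ofArrows_mem_of_fppf V k hfl hsurj, ?_⟩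
  rintro W f ⟨Z, h, m, ⟨i⟩, rfl⟩
  obtain ⟨x', ⟨e⟩⟩ := hlift i
  let o : (overCat (V i)).obj := Over.mk (𝟙 (V i))
  let t : (AlgSt.overMap (k i)).obj o ⟶ (Over.mk (𝟙 (𝒴.p.obj y)) : (overCat (𝒴.p.obj y)).obj) :=
    Over.homMk (k i) ((Category.comp_id _).trans (Category.id_comp _).symm)
  have ht : (overCat (𝒴.p.obj y)).p.IsHomLift (k i) t :=
    IsHomLift.of_fac' _ _ _ rfl rfl (by simp only [eqToHom_refl, Category.id_comp, Category.comp_id]; rfl)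
  have ht' : 𝒴.p.IsHomLift (k i) (c.map t) := inferInstance
  have he : 𝒴.p.IsHomLift (𝟙 (V i)) (e.hom.toNatTrans.app o) := e.hom.isHomLift' o
  let χ : g.obj (x'.obj o) ⟶ y :=
    (e.hom.toNatTrans.app o : g.obj (x'.obj o) ⟶ c.obj ((AlgSt.overMap (k i)).obj o)) ≫ c.map t ≫ ε.hom
  have hχ : 𝒴.p.IsHomLift (k i) χ := inferInstance
  obtain ⟨x, φ, hφ⟩ := Fib44.exists_lift' 𝒳.p hX (x'.w_obj o) h
  exact ⟨x, g.map φ ≫ χ, inferInstance⟩

end Groth.Agent.Gerb44
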