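import Groth.Agent.Gerb44.GerbeSection
import Groth.Agent.Gerb44.LocSurj
import Groth.Agent.AlgSt88.DiagRep2
import Groth.Agent.AlgSt88.AtlasFp
import Groth.Agent.AlgSt88.SpaceDM
import Groth.Agent.AlgSt88.Top

/-!
Gerbes of algebraic stacks: the structure morphism and its diagonal are surjective, flat and locally of
finite presentation.
-/

set_option autoImplicit false
set_option maxHeartbeats 1000000
set_option linter.style.haveILetI false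
set_option backward.isDefEq.respectTransparency false
set_option backward.isDefEq.respectTransparency.types false
universe u

open CategoryTheory CategoryTheory.Limits AlgebraicGeometry Opposite AlgSt FibCat
open Groth.Agent.AlgSt88 Groth.Agent.SpPts86

namespace Groth.Agent.Gerb44

variable {S : Scheme.{u}} {𝒳 𝒴 𝒵 : AlgSt.Cat S}

/-- A morphism over `f` between values at the identities gives an isomorphism of functors. -/
theorem nonempty_iso_of_lift (h : IsFibGrpd 𝒵.p) {W T : Over S} (z' : overCat W ⥤ᵇ 𝒵) (z : overCat T ⥤ᵇ 𝒵)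
    (f : W ⟶ T) (g : z'.obj (Fib44.idObj W) ⟶ z.obj (Fib44.idObj T)) (hg : 𝒵.p.IsHomLift f g) :
    Nonempty (z' ≅ BasedFunctor.comp (overMap f) z) := by
  let o : (overCat T).obj := (overMap f).obj (Fib44.idObj W)
  let tf : o ⟶ Fib44.idObj T :=
    Over.homMk f ((Category.comp_id _).trans (Category.id_comp _).symm)
  have htf : (overCat T).p.IsHomLift f tf :=
    IsHomLift.of_fac' _ _ _ rfl rfl
      (by simp only [eqToHom_refl, Category.id_comp, Category.comp_id]; rfl)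
  have h1 : 𝒵.p.IsHomLift f (z.map tf) := inferInstance
  have := Fib44.isSC_of_fibGrpd 𝒵.p h f (z.map tf)
  let χ := Functor.IsCartesian.map 𝒵.p f (z.map tf) g
  have hχ : 𝒵.p.IsHomLift (𝟙 W) χ := Functor.IsCartesian.map_isHomLift 𝒵.p f (z.map tf) g
  have := Fib44.isIso_of_fibGrpd 𝒵.p h (𝟙 W) χ
  exact AlgSt88.nonempty_iso_of_app_id h (y := z') (y' := BasedFunctor.comp (overMap f) z) (asIso χ) hχ

theorem hcan_lfp {U V W : Over S} (a : (AlgSp.yon S).obj U ⟶ (AlgSp.yon S).obj V)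
    (b : (AlgSp.yon S).obj V ⟶ (AlgSp.yon S).obj W) (h1 : AlgSp.LocP @Flat a)
    (h2 : AlgSp.LocP @LocallyOfFinitePresentation a) (h3 : AlgSp.IsSurjectiveMor a)
    (h : AlgSp.LocP @LocallyOfFinitePresentation (a ≫ b)) : AlgSp.LocP @LocallyOfFinitePresentation b :=
  SpFP87.locP_lfp_of_covLift (AlgSp.IsAlgSpace.yon_obj U) (AlgSp.IsAlgSpace.yon_obj V)
    (AlgSp.IsAlgSpace.yon_obj W)
    (SpFP87.covLift_of_fppf a (AlgSp.IsAlgSpace.yon_obj U) (AlgSp.IsAlgSpace.yon_obj V) h3 h1 h2) h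

theorem locQ_congr {P : MorphismProperty (AlgSp.Sp S)} {f g : 𝒳 ⥤ᵇ 𝒴} (α : f ≅ g) (h : LocQ P f) :
    LocQ P g := by
  obtain ⟨U, V, x, y, k, β, h1, h2, h3, h4⟩ := h
  exact ⟨U, V, x, y, k, bLeft x α.symm ≪≫ β, h1, h2, h3, h4⟩

/-- Surjective, flat, finitely presented and representable. -/
structure RepFppf {𝒳 𝒴 : AlgSt.Cat S} (f : 𝒳 ⥤ᵇ 𝒴) : Prop where
  flat : RepByAlgSpWith (AlgSp.LocP @Flat) f
  lfp : RepByAlgSpWith (AlgSp.LocP @LocallyOfFinitePresentation) f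
  surj : RepByAlgSpWith AlgSp.IsSurjectiveMor f

namespace RepFppf

theorem rep {f : 𝒳 ⥤ᵇ 𝒴} (h : RepFppf f) : RepByAlgSp1 f := repByAlgSp1_of_with h.flat

theorem comp (hX : IsFibGrpd 𝒳.p) (hY : IsFibGrpd 𝒴.p) {f : 𝒳 ⥤ᵇ 𝒴} {g : 𝒴 ⥤ᵇ 𝒵} (hf : RepFppf f)
    (hg : RepFppf g) : RepFppf (BasedFunctor.comp f g) :=
  ⟨repByAlgSpWith_locP_comp @Flat hX hY hf.flat hg.flat,
    repByAlgSpWith_locP_comp @LocallyOfFinitePresentation hX hY hf.lfp hg.lfp,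
    repByAlgSpWith_surj_comp hX hY hf.surj hg.surj⟩

theorem of_iso {f g : 𝒳 ⥤ᵇ 𝒴} (α : f ≅ g) (hf : RepFppf f) : RepFppf g :=
  ⟨repByAlgSpWith_of_iso α hf.flat, repByAlgSpWith_of_iso α hf.lfp, repByAlgSpWith_of_iso α hf.surj⟩

theorem fpSnd' {f : 𝒳 ⥤ᵇ 𝒴} (g : 𝒵 ⥤ᵇ 𝒴) (h : RepFppf f) : RepFppf (FibCat.fpSnd f g) :=
  ⟨repByAlgSpWith_fpSnd g h.flat, repByAlgSpWith_fpSnd g h.lfp, repByAlgSpWith_fpSnd g h.surj⟩

theorem fpFst' {f : 𝒳 ⥤ᵇ 𝒴} (g : 𝒵 ⥤ᵇ 𝒴) (h : RepFppf f) : RepFppf (FibCat.fpFst g f) :=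
  ⟨repByAlgSpWith_fpFst g h.flat, repByAlgSpWith_fpFst g h.lfp, repByAlgSpWith_fpFst g h.surj⟩

theorem isSurjective {f : 𝒳 ⥤ᵇ 𝒴} (h : RepFppf f) (hY : IsFibGrpd 𝒴.p) : AlgSt.IsSurjective f :=
  isSurjective_of_sj hY h.surj

theorem locQ {f : 𝒳 ⥤ᵇ 𝒴} (h : RepFppf f) (h𝒳 : IsAlgStack Scheme.fppfPrecoverage 𝒳)
    (h𝒴 : IsAlgStack Scheme.fppfPrecoverage 𝒴) :
    AlgSt.IsSurjective f ∧ LocQ (AlgSp.LocP @Flat) f ∧
      LocQ (AlgSp.LocP @LocallyOfFinitePresentation) f :=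
  ⟨h.isSurjective h𝒴.isStack.1,
    (locQ_iff_repByAlgSpWith smoothLocal_flat (stableBC_locP _) isLocalOnBase_flat h𝒳 h𝒴 h.rep).2 h.flat,
    (locQ_iff_repByAlgSpWith smoothLocal_lfp (stableBC_locP _) isLocalOnBase_lfp h𝒳 h𝒴 h.rep).2 h.lfp⟩

theorem of_atlas {V : Over S} {v : ofSch V ⥤ᵇ 𝒳} (h : Sm v) (h' : Sj v) : RepFppf v :=
  ⟨rep_flat_of_sm h, rep_lfp_of_sm h, h'⟩

theorem of_fppfSurj {W V : Over S} (c : W ⟶ V) (hc : SpFP87.fppfSurj c.left) :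
    RepFppf (ofSpMap ((AlgSp.yon S).map c)) := by
  obtain ⟨hcs, hcf, hcp⟩ := (SpFP87.fppfSurj_iff _).1 hc
  have hcs' : AlgSp.IsSurjectiveMor ((AlgSp.yon S).map c) := fun y => by
    obtain ⟨t, rfl⟩ := (AlgSp.Points.schemeHomeo V).surjective y
    obtain ⟨s, rfl⟩ := hcs.surj t
    exact ⟨AlgSp.Points.schemeHomeo W s, AlgSp.Points.map_yon_map_apply c s⟩
  exact ⟨repByAlgSpWith_ofSpMap (stableBC_locP _) (respectsIso_locP _) (F := spY W) (G := spY V) _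
      ((SpFP87.locP_yon_map_iff _).2 hcf),
    repByAlgSpWith_ofSpMap (stableBC_locP _) (respectsIso_locP _) (F := spY W) (G := spY V) _
      ((SpFP87.locP_yon_map_iff _).2 hcp),
    repByAlgSpWith_ofSpMap stableBC_surj respectsIso_surj (F := spY W) (G := spY V) _ hcs'⟩

end RepFppf

/-- A morphism composing to an fppf morphism after an fppf morphism is fppf. -/
theorem locQ_of_rep_precomp (h𝒳 : IsAlgStack Scheme.fppfPrecoverage 𝒳)
    (h𝒴 : IsAlgStack Scheme.fppfPrecoverage 𝒴) (h𝒵 : IsAlgStack Scheme.fppfPrecoverage 𝒵)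
    {s : 𝒳 ⥤ᵇ 𝒴} {f : 𝒴 ⥤ᵇ 𝒵} {z : 𝒳 ⥤ᵇ 𝒵} (α : z ≅ BasedFunctor.comp s f)
    (hs : RepFppf s) (hz : RepFppf z) :
    AlgSt.IsSurjective f ∧ LocQ (AlgSp.LocP @Flat) f ∧
      LocQ (AlgSp.LocP @LocallyOfFinitePresentation) f := by
  obtain ⟨z1, z2, z3⟩ := hz.locQ h𝒳 h𝒵
  obtain ⟨s1, s2, s3⟩ := hs.locQ h𝒳 h𝒴
  refine ⟨fun p => ?_, locQ_flat_of_precomp h𝒳 h𝒴 h𝒵 s2 s1 (locQ_congr α z2),
    locQ_of_precomp smoothLocal_lfp (fun a b h1 h2 h3 h => hcan_lfp a b h1 h2 h3 h) h𝒳 h𝒴 h𝒵 s2 s3 s1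
      (locQ_congr α z3)⟩
  obtain ⟨q, rfl⟩ := z1 p
  exact ⟨Points.map s q, by rw [← points_map_comp]; exact (points_map_congr α q).symm⟩

/-- The base change of a gerbe is a gerbe. -/
theorem isGerbeOver_fpFst {J : GrothendieckTopology (Over S)} (hX : IsFibGrpd 𝒳.p) (hY : IsFibGrpd 𝒴.p)
    (hZ : IsFibGrpd 𝒵.p) {f : 𝒳 ⥤ᵇ 𝒴} (g : 𝒵 ⥤ᵇ 𝒴) (hf : Gerb.IsGerbeOver J f) :
    Gerb.IsGerbeOver J (fpFst g f) :=
  Fib44.isGerbeOver_baseChange hX hY (isFibGrpd_fp hZ hX hY g f) hZ (Fib44.isTwoCartOver_fp g f) hf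

/-- A gerbe has sections fppf locally on an atlas of the target. -/
theorem exists_local_section (h𝒳 : IsAlgStack Scheme.fppfPrecoverage 𝒳)
    (h𝒴 : IsAlgStack Scheme.fppfPrecoverage 𝒴) {f : 𝒳 ⥤ᵇ 𝒴}
    (hf : Gerb.IsGerbeOver (QuotSh.J Scheme.fppfPrecoverage S) f) :
    ∃ (W : Over S) (z : ofSch W ⥤ᵇ 𝒴) (s : ofSch W ⥤ᵇ 𝒳), RepFppf z ∧
      Nonempty (z ≅ BasedFunctor.comp s f) := by
  obtain ⟨V, y, hy, hy'⟩ := exists_space_atlas h𝒴
  have hV := (isDM_ofSp (spY V)).1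
  have hP := isAlgStack_fp h𝒴.isStack h𝒴.diag hV h𝒳 y f
  have hπ := isGerbeOver_fpFst h𝒳.isStack.1 h𝒴.isStack.1 hV.isStack.1 y hf
  let π := fpFst y f
  obtain ⟨A, a, ha, ha'⟩ := exists_space_atlas hP
  have hA := (isDM_ofSp (spY A)).1
  obtain ⟨a1, a2, a3⟩ := (RepFppf.of_atlas ha ha').locQ hA hP
  have haO := locSurjObj_of_flat_lfp_surjective hA hP a1 a2 a3
  let K : ofSch A ⥤ᵇ ofSch V := BasedFunctor.comp a π
  have hcov : CovLift (homOfBased K) := by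
    intro T g
    obtain ⟨t, rfl⟩ := (AlgSp.yon S).map_surjective g
    let y₀ : overCat T ⥤ᵇ ofSch V := BasedFunctor.comp (ofOverCat T) (ofSpMap ((AlgSp.yon S).map t))
    let ε : (ofSch V).obj := y₀.obj (Fib44.idObj T)
    have hε : (ofSch V).p.obj ε = T := y₀.w_obj (Fib44.idObj T)
    have hcovO : Fib44.OnCover (QuotSh.J Scheme.fppfPrecoverage S) T fun _ f =>
        ∃ (o : (ofSch A).obj) (g : K.obj o ⟶ ε), (ofSch V).p.IsHomLift f g := by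
      refine (Fib44.onCover_obj hπ.1 ε hε).trans ?_
      rintro W' k ⟨p, g, hg⟩
      have hp : (fp y f).p.obj p = W' := (π.w_obj p).symm.trans (IsHomLift.domain_eq (ofSch V).p k g)
      refine (Fib44.onCover_obj haO p hp).mono ?_
      rintro W'' l ⟨o, m, hm⟩
      have h1 : (ofSch V).p.IsHomLift l (π.map m) := BasedFunctor.preserves_isHomLift π l m
      haveI := hg
      exact ⟨o, π.map m ≫ g, @IsHomLift.comp _ _ _ _ (ofSch V).p _ _ _ _ _ _ _ _ _ _ h1 hg⟩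
    obtain ⟨R, hR, hRP⟩ := hcovO
    refine ⟨R, hR, fun W k hk => ?_⟩
    obtain ⟨o, g, hg⟩ := hRP k hk
    have ho : (ofSch A).p.obj o = W := (K.w_obj o).symm.trans (IsHomLift.domain_eq (ofSch V).p k g)
    let C : overCat W ⥤ᵇ ofSch A := classify hA.isStack.1 o ho
    obtain ⟨ε', hε'⟩ := classify_mk_id hA.isStack.1 o ho
    have h1 : (ofSch V).p.IsHomLift (𝟙 W) (K.map ε'.hom) := BasedFunctor.preserves_isHomLift K (𝟙 W) ε'.hom
    have h2 : (ofSch V).p.IsHomLift k (K.map ε'.hom ≫ g) := by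
      have := @IsHomLift.comp _ _ _ _ (ofSch V).p _ _ _ _ _ _ _ _ _ _ h1 hg
      rwa [Category.id_comp] at this
    obtain ⟨γ⟩ := nonempty_iso_of_lift hV.isStack.1 (BasedFunctor.comp C K) y₀ k (K.map ε'.hom ≫ g) h2
    refine ⟨homOfBased (BasedFunctor.comp (toOverCat W) C), ?_⟩
    rw [← homOfBased_comp, ← Functor.map_comp]
    rw [homOfBased_congr (F := (AlgSp.yon S).obj W) (G := (AlgSp.yon S).obj V)
      (Φ := BasedFunctor.comp (BasedFunctor.comp (toOverCat W) C) K)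
      (Ψ := BasedFunctor.comp (toOverCat W) (BasedFunctor.comp (overMap k) y₀)) (bLeft (toOverCat W) γ)]
    change homOfBased (BasedFunctor.comp
      (BasedFunctor.comp (toOverCat W) (BasedFunctor.comp (overMap k) (ofOverCat T)))
      (ofSpMap ((AlgSp.yon S).map t))) = _
    rw [homOfBased_comp, homOfBased_overMap, homOfBased_ofSpMap, Functor.map_comp]
  obtain ⟨W, c, L, hc, hL⟩ := locLift_of_covLift hcov V (𝟙 _)
  rw [Category.comp_id] at hL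
  obtain ⟨κ⟩ := exists_hom_iso K
  obtain ⟨i⟩ := ofSpMap_comp_iso L (homOfBased K)
  rw [hL] at i
  refine ⟨W, BasedFunctor.comp (ofSpMap ((AlgSp.yon S).map c)) y,
    BasedFunctor.comp (ofSpMap L) (BasedFunctor.comp a (fpSnd y f)),
    (RepFppf.of_fppfSurj c hc).comp (Stk.isFibGrpd_ofPsh _) hV.isStack.1 (RepFppf.of_atlas hy hy'),
    ⟨(bRight i y).symm ≪≫ bLeft (ofSpMap L) (bRight κ y).symm ≪≫
      bLeft (ofSpMap L) (bLeft a (fpIso y f))⟩⟩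

/-- Sections of a gerbe over an algebraic space, bundled. -/
theorem repFppf_section {U : AlgSp.Space S} (h𝒳 : IsAlgStack Scheme.fppfPrecoverage 𝒳) (π : 𝒳 ⥤ᵇ ofSp U.obj)
    (hπ : Gerb.IsGerbeOver (QuotSh.J Scheme.fppfPrecoverage S) π) (x : ofSp U.obj ⥤ᵇ 𝒳)
    (e : BasedFunctor.comp x π ≅ BasedFunctor.id (ofSp U.obj)) : RepFppf x :=
  let h := section_flat_lfp_surjective h𝒳 π hπ.2 x e
  ⟨h.1, h.2.1, h.2.2⟩

/-- The structure morphism of a gerbe is surjective, flat and locally of finite presentation. -/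
theorem gerbe_surjective_flat_lfp (h𝒳 : IsAlgStack Scheme.fppfPrecoverage 𝒳)
    (h𝒴 : IsAlgStack Scheme.fppfPrecoverage 𝒴) {f : 𝒳 ⥤ᵇ 𝒴}
    (hf : Gerb.IsGerbeOver (QuotSh.J Scheme.fppfPrecoverage S) f) :
    AlgSt.IsSurjective f ∧ LocQ (AlgSp.LocP @Flat) f ∧
      LocQ (AlgSp.LocP @LocallyOfFinitePresentation) f := by
  obtain ⟨W, z, s, hz, ⟨α⟩⟩ := exists_local_section h𝒳 h𝒴 hf
  have hW := (isDM_ofSp (spY W)).1
  have hP := isAlgStack_fp h𝒴.isStack h𝒴.diag hW h𝒳 z f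
  have hπ := isGerbeOver_fpFst h𝒳.isStack.1 h𝒴.isStack.1 hW.isStack.1 z hf
  let σ : ofSch W ⥤ᵇ fp z f := fpLift (BasedFunctor.id (ofSch W)) s α
  have hσ : RepFppf σ := repFppf_section (U := spY W) hP (fpFst z f) hπ σ (Iso.refl _)
  have hs : RepFppf s := (hσ.comp hW.isStack.1 hP.isStack.1 (hz.fpSnd' f)).of_iso (Iso.refl _)
  exact locQ_of_rep_precomp hW h𝒳 h𝒴 α hs hz

/-- The base change of a section along the projection of a base change of `π` is the pulled back section. -/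
theorem repByAlgSpWith_fpFst_of_section {P : MorphismProperty (AlgSp.Sp S)} {𝒜 ℬ 𝒯 : AlgSt.Cat S}
    {π : 𝒜 ⥤ᵇ ℬ} {D : ℬ ⥤ᵇ 𝒜} (e : BasedFunctor.comp D π ≅ BasedFunctor.id ℬ) (u : 𝒯 ⥤ᵇ ℬ)
    (h : RepByAlgSpWith P (fpLift (BasedFunctor.id 𝒯) (BasedFunctor.comp u D) (bLeft u e).symm)) :
    RepByAlgSpWith P (fpFst (fpSnd u π) D) := by
  let σ : 𝒯 ⥤ᵇ fp u π := fpLift (BasedFunctor.id 𝒯) (BasedFunctor.comp u D) (bLeft u e).symm
  let F1 := fpFst (fpSnd u π) D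
  let F2 := fpSnd (fpSnd u π) D
  let K : fp (fpSnd u π) D ⥤ᵇ 𝒯 :=
    BasedFunctor.comp (fpSwap (fpSnd u π) D)
      (BasedFunctor.comp (fpMapSnd D (fpFst π u) (fpSwap u π))
        (BasedFunctor.comp (fpPaste D π u)
          (BasedFunctor.comp (fpCongr e (Iso.refl u))
            (BasedFunctor.comp (fpSwap (BasedFunctor.id ℬ) u) (fpFst u (BasedFunctor.id ℬ))))))
  have hK : IsEquivOver K := isEquivOver_comp isEquivOver_fpSwap
    (isEquivOver_comp (isEquivOver_fpMapSnd _ _ _ isEquivOver_fpSwap)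
      (isEquivOver_comp (isEquivOver_fpPaste _ _ _)
        (isEquivOver_comp (isEquivOver_fpCongr _ _)
          (isEquivOver_comp isEquivOver_fpSwap (isEquivOver_fpFst u (isEquivOver_id ℬ))))))
  let b : BasedFunctor.comp (BasedFunctor.comp K σ) (fpSnd u π) ≅ BasedFunctor.comp F1 (fpSnd u π) :=
    bRight (bLeft F1 (fpIso u π) ≪≫ bRight (fpIso (fpSnd u π) D) π ≪≫ bLeft F2 e) D ≪≫
      (fpIso (fpSnd u π) D).symm
  refine repByAlgSpWith_of_iso (f := BasedFunctor.comp K σ) ?_ ((repByAlgSpWith_precomp_equiv hK).2 h)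
  refine fpNatIso (Φ := BasedFunctor.comp K σ) (Ψ := F1) (Iso.refl _) b (fun a => ?_)
  change u.map (𝟙 _) ≫ a.obj.fst.obj.iso.hom =
    e.inv.toNatTrans.app (u.obj a.obj.fst.obj.fst) ≫
      π.map (D.map (a.obj.fst.obj.iso.hom ≫ π.map a.obj.iso.hom ≫ e.hom.toNatTrans.app a.obj.snd) ≫
        a.obj.iso.inv)
  have hn : ∀ {p q : ℬ.obj} (m : p ⟶ q),
      e.inv.toNatTrans.app p ≫ π.map (D.map m) = m ≫ e.inv.toNatTrans.app q :=
    fun m => (e.inv.toNatTrans.naturality m).symm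
  have hid : e.hom.toNatTrans.app a.obj.snd ≫ e.inv.toNatTrans.app a.obj.snd = 𝟙 _ :=
    (Fib44.isoApp e a.obj.snd).hom_inv_id
  rw [AlgSt88.map_id' u, Category.id_comp, π.map_comp, ← Category.assoc, hn]
  simp only [Category.assoc]
  erw [reassoc_of% hid, ← π.map_comp, Iso.hom_inv_id]
  simp

/-- The diagonal of a gerbe is surjective, flat and locally of finite presentation. -/
theorem gerbe_diag_repFppf (h𝒳 : IsAlgStack Scheme.fppfPrecoverage 𝒳)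
    (h𝒴 : IsAlgStack Scheme.fppfPrecoverage 𝒴) {f : 𝒳 ⥤ᵇ 𝒴}
    (hf : Gerb.IsGerbeOver (QuotSh.J Scheme.fppfPrecoverage S) f) : RepFppf (FibCat.diag f) := by
  have hF := isAlgStack_fp h𝒴.isStack h𝒴.diag h𝒳 h𝒳 f f
  have hgF := isGerbeOver_fpFst h𝒳.isStack.1 h𝒴.isStack.1 h𝒳.isStack.1 f hf
  obtain ⟨V, v, hv, hv'⟩ := exists_space_atlas h𝒳
  have hV := (isDM_ofSp (spY V)).1
  have hP := isAlgStack_fp h𝒳.isStack h𝒳.diag hV hF v (fpFst f f)
  have hπ := isGerbeOver_fpFst hF.isStack.1 h𝒳.isStack.1 hV.isStack.1 v hgF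
  let e : BasedFunctor.comp (FibCat.diag f) (fpFst f f) ≅ BasedFunctor.id 𝒳 := Iso.refl _
  let σ : ofSch V ⥤ᵇ fp v (fpFst f f) :=
    fpLift (BasedFunctor.id (ofSch V)) (BasedFunctor.comp v (FibCat.diag f)) (bLeft v e).symm
  have hσ : RepFppf σ := repFppf_section (U := spY V) hP (fpFst v (fpFst f f)) hπ σ (Iso.refl _)
  have hz := (RepFppf.of_atlas hv hv').fpSnd' (fpFst f f)
  have hD : RepByAlgSp1 (FibCat.diag f) := repByAlgSp1_diag h𝒳.diag h𝒴.diag f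
  have key : ∀ {Q : MorphismProperty (AlgSp.Sp S)}, StableBC Q → AlgSp.IsLocalOnBase AlgSp.IsFppfCover Q →
      RepByAlgSpWith Q σ → RepByAlgSpWith Q (FibCat.diag f) := fun {Q} hb hl h =>
    repByAlgSpWith_of_fpFst h𝒳.isStack.1 hF.isStack.1 hP.isStack.1 hb hl hD _ hz.flat hz.lfp hz.surj
      (repByAlgSpWith_fpFst_of_section e v h)
  exact ⟨key (stableBC_locP _) isLocalOnBase_flat hσ.flat, key (stableBC_locP _) isLocalOnBase_lfp hσ.lfp,
    key stableBC_surj isLocalOnBase_surj hσ.surj⟩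

end Groth.Agent.Gerb44
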