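import Groth.Agent.Fib44.GerbeBand
import Groth.Agent.Gerb44.GerbeFlat
import Groth.Agent.AlgSt88.Inertia
import Groth.Agent.AlgSt88.EquivCrit
import Groth.Agent.AlgSt88.PshRep
import Groth.Prelude.Def_StGerb2
import Groth.Prelude.Def_AlgSpGpd

/-!
The sheaf of automorphisms of a section of a stack over a space, as a group object.
-/

set_option autoImplicit false
set_option maxHeartbeats 1000000
set_option linter.style.haveILetI false
set_option backward.isDefEq.respectTransparency false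
set_option backward.isDefEq.respectTransparency.types false
universe u

open CategoryTheory CategoryTheory.Limits MonoidalCategory CartesianMonoidalCategory AlgebraicGeometry
  Opposite AlgSt FibCat
open Groth.Agent.AlgSt88

namespace Groth.Agent.Gerb44

variable {S : Scheme.{u}} {B : AlgSp.Sp S} {𝒳 : AlgSt.Cat S} (x : ofSp B ⥤ᵇ 𝒳)

/-- The automorphisms over the identity of the values of `x` on all sections over `T`. -/
abbrev AutTot (T : Over S) : Type (u + 1) :=
  Σ b : B.obj.obj (op T), Gerb.AutO (x.obj ⟨T, b⟩)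

/-- `z'` is the restriction of `z` along `f`. -/
def IsResAlong {T' T : Over S} (f : T' ⟶ T) (z : AutTot x T) (z' : AutTot x T') : Prop :=
  ∃ h : B.obj.map f.op z.1 = z'.1,
    Fib44.IsRes (x.map (⟨f, h⟩ : (⟨T', z'.1⟩ : (ofSp B).obj) ⟶ ⟨T, z.1⟩)) z.2 z'.2

theorem existsUnique_resAlong (hX : IsFibGrpd 𝒳.p) {T' T : Over S} (f : T' ⟶ T) (z : AutTot x T) :
    ∃! z' : AutTot x T', IsResAlong x f z z' := by
  obtain ⟨β, hβ⟩ := Fib44.exists_res hX
    (x.map (⟨f, rfl⟩ : (⟨T', B.obj.map f.op z.1⟩ : (ofSp B).obj) ⟶ ⟨T, z.1⟩)) z.2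
  refine ⟨⟨_, β⟩, ⟨rfl, hβ⟩, ?_⟩
  rintro ⟨b', β'⟩ ⟨h, h'⟩
  obtain rfl : B.obj.map f.op z.1 = b' := h
  obtain rfl : β' = β := Fib44.IsRes.unique hX h' hβ
  rfl

theorem isResAlong_id {T : Over S} (z : AutTot x T) : IsResAlong x (𝟙 T) z z := by
  refine ⟨B.obj.map_id_apply _ _, ?_⟩
  change _ ≫ x.map (𝟙 (⟨T, z.1⟩ : (ofSp B).obj)) = x.map (𝟙 _) ≫ _
  rw [x.toFunctor.map_id, Category.comp_id, Category.id_comp]

theorem IsResAlong.comp {T'' T' T : Over S} {g : T'' ⟶ T'} {f : T' ⟶ T} {z : AutTot x T}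
    {z' : AutTot x T'} {z'' : AutTot x T''} (h : IsResAlong x f z z') (h' : IsResAlong x g z' z'') :
    IsResAlong x (g ≫ f) z z'' := by
  obtain ⟨e, he⟩ := h
  obtain ⟨e', he'⟩ := h'
  refine ⟨by rw [op_comp, Functor.map_comp_apply, e, e'], ?_⟩
  let m' : (⟨T'', z''.1⟩ : (ofSp B).obj) ⟶ ⟨T', z'.1⟩ := ⟨g, e'⟩
  let m : (⟨T', z'.1⟩ : (ofSp B).obj) ⟶ ⟨T, z.1⟩ := ⟨f, e⟩
  have := Fib44.IsRes.comp he he'
  rw [← x.toFunctor.map_comp] at this
  exact this

variable (hX : IsFibGrpd 𝒳.p)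

/-- Restriction of automorphisms. -/
noncomputable def autMapPsh {T' T : Over S} (f : T' ⟶ T) (z : AutTot x T) : AutTot x T' :=
  (existsUnique_resAlong x hX f z).choose

theorem autMapPsh_spec {T' T : Over S} (f : T' ⟶ T) (z : AutTot x T) :
    IsResAlong x f z (autMapPsh x hX f z) :=
  (existsUnique_resAlong x hX f z).choose_spec.1

theorem autMapPsh_eq {T' T : Over S} {f : T' ⟶ T} {z : AutTot x T} {z' : AutTot x T'}
    (h : IsResAlong x f z z') : autMapPsh x hX f z = z' :=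
  ((existsUnique_resAlong x hX f z).choose_spec.2 z' h).symm

/-- The presheaf of automorphisms of `x`. -/
noncomputable def autPsh : AlgSp.PSp S where
  obj T := AutTot x T.unop
  map {T T'} f := TypeCat.ofHom (autMapPsh x hX f.unop)
  map_id T := by
    apply ConcreteCategory.hom_ext
    intro z
    exact autMapPsh_eq x hX (isResAlong_id x z)
  map_comp {T T' T''} f g := by
    apply ConcreteCategory.hom_ext
    intro z
    exact autMapPsh_eq x hX
      (IsResAlong.comp x (autMapPsh_spec x hX f.unop z) (autMapPsh_spec x hX g.unop _))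

/-- The projection to `B`. -/
noncomputable def autPr : autPsh x hX ⟶ B.obj where
  app T := TypeCat.ofHom fun z => z.1
  naturality T T' f := by
    apply ConcreteCategory.hom_ext
    intro z
    exact ((autMapPsh_spec x hX f.unop z).fst).symm

variable (π : 𝒳 ⥤ᵇ ofSp B)

theorem map_autO_eq_id {ξ : 𝒳.obj} (α : Gerb.AutO ξ) : π.map α.hom.1 = 𝟙 (π.obj ξ) := by
  refine Stk.EltObj.hom_ext ?_
  have h : (ofSp B).p.IsHomLift (𝟙 ((ofSp B).p.obj (π.obj ξ))) (π.map α.hom.1) :=
    Gerb.isHomLift_map_autO π ξ α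
  have := @IsHomLift.fac' _ _ _ _ (ofSp B).p _ _ _ _ _ (π.map α.hom.1) h
  refine this.trans ?_
  simp

/-- An automorphism over the identity as an object of the relative inertia. -/
def inertiaOf {ξ : 𝒳.obj} (α : Gerb.AutO ξ) : InertiaObj π where
  pt := ξ
  aut :=
    { hom := α.hom.1
      inv := α.inv.1
      hom_inv_id := congrArg Subtype.val α.hom_inv_id
      inv_hom_id := congrArg Subtype.val α.inv_hom_id }
  map_aut := map_autO_eq_id π α

/-- The objects of the pullback of the inertia attached to automorphisms. -/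
noncomputable def autToFp : Stk.ofPsh (autPsh x hX) ⥤ᵇ fp x (inertiaToBase π) where
  toFunctor :=
    { obj := fun a => ⟨{ fst := ⟨a.base, a.sec.1⟩
                         snd := inertiaOf π a.sec.2
                         iso := Iso.refl _ }, IsHomLift.id (x.w_obj _)⟩
      map := fun {a a'} f =>
        have hr : IsResAlong x f.hom a'.sec a.sec :=
          (congrArg (IsResAlong x f.hom a'.sec) f.map_sec).mp (autMapPsh_spec x hX f.hom a'.sec)
        ObjectProperty.homMk
          { fst := ⟨f.hom, hr.fst⟩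
            snd := ⟨x.map (⟨f.hom, hr.fst⟩ : (⟨a.base, a.sec.1⟩ : (ofSp B).obj) ⟶ ⟨a'.base, a'.sec.1⟩),
              hr.snd⟩
            w := (Category.comp_id _).trans (Category.id_comp _).symm }
      map_id := fun a => by
        refine ObjectProperty.hom_ext _ ?_
        refine CategoricalPullback.hom_ext (Stk.EltObj.hom_ext rfl) (InertiaObj.hom_ext ?_)
        exact x.toFunctor.map_id _
      map_comp := fun {a a' a''} f g => by
        refine ObjectProperty.hom_ext _ ?_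
        refine CategoricalPullback.hom_ext (Stk.EltObj.hom_ext rfl) (InertiaObj.hom_ext ?_)
        have hr : IsResAlong x f.hom a'.sec a.sec :=
          (congrArg (IsResAlong x f.hom a'.sec) f.map_sec).mp (autMapPsh_spec x hX f.hom a'.sec)
        have hr' : IsResAlong x g.hom a''.sec a'.sec :=
          (congrArg (IsResAlong x g.hom a''.sec) g.map_sec).mp (autMapPsh_spec x hX g.hom a''.sec)
        exact x.toFunctor.map_comp
          (⟨f.hom, hr.fst⟩ : (⟨a.base, a.sec.1⟩ : (ofSp B).obj) ⟶ ⟨a'.base, a'.sec.1⟩)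
          (⟨g.hom, hr'.fst⟩ : (⟨a'.base, a'.sec.1⟩ : (ofSp B).obj) ⟶ ⟨a''.base, a''.sec.1⟩) }
  w := rfl

theorem isEquivOver_autToFp : IsEquivOver (autToFp x hX π) := by
  refine IsEquivData.isEquivOver ⟨fun {a a'} f g h => Stk.EltObj.hom_ext
      (congrArg (fun k : (autToFp x hX π).obj a ⟶ (autToFp x hX π).obj a' => k.hom.fst.hom) h),
    fun {a a'} k => ?_, fun y => ?_⟩
  · have hw : x.map k.hom.fst = k.hom.snd.hom := by
      have := k.hom.w
      change x.map k.hom.fst ≫ 𝟙 _ = 𝟙 _ ≫ k.hom.snd.hom at this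
      rwa [Category.comp_id, Category.id_comp] at this
    have hr : IsResAlong x k.hom.fst.hom a'.sec a.sec := by
      refine ⟨k.hom.fst.map_sec, ?_⟩
      change a.sec.2.hom.1 ≫ x.map k.hom.fst = x.map k.hom.fst ≫ a'.sec.2.hom.1
      rw [hw]
      exact k.hom.snd.comm
    refine ⟨⟨k.hom.fst.hom, autMapPsh_eq x hX hr⟩, ObjectProperty.hom_ext _
      (CategoricalPullback.hom_ext (Stk.EltObj.hom_ext rfl) (InertiaObj.hom_ext hw))⟩
  · obtain ⟨⟨b, ⟨ξ, σ, hσ⟩, i⟩, hy⟩ := y
    change 𝒳.p.IsHomLift (𝟙 b.base) i.hom at hy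
    obtain ⟨T, s⟩ := b
    have hxT : 𝒳.p.obj (x.obj ⟨T, s⟩) = T := x.w_obj _
    have hξ : 𝒳.p.obj ξ = T := @IsHomLift.codomain_eq _ _ _ _ 𝒳.p _ _ _ _ _ i.hom hy
    have hσl : 𝒳.p.IsHomLift (𝟙 T) σ.hom := by
      have h1 : (π.map σ.hom).hom = (𝟙 (π.obj ξ) : π.obj ξ ⟶ π.obj ξ).hom :=
        congrArg Stk.EltObj.Hom.hom hσ
      have h2 := Functor.congr_hom π.w σ.hom
      change (π.map σ.hom).hom = eqToHom _ ≫ 𝒳.p.map σ.hom ≫ eqToHom _ at h2
      rw [h1] at h2
      refine IsHomLift.of_fac' _ _ _ hξ hξ ?_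
      rw [← cancel_epi (eqToHom (π.w_obj ξ)), ← cancel_mono (eqToHom (π.w_obj ξ).symm)]
      simp only [Category.assoc]
      erw [← h2]
      simp
    haveI := hy
    haveI := hσl
    haveI : IsIso i.hom := inferInstance
    have hi : 𝒳.p.IsHomLift (𝟙 T) i.inv := inferInstance
    have hl : 𝒳.p.IsHomLift (𝟙 T) (i.hom ≫ σ.hom ≫ i.inv) := inferInstance
    obtain ⟨α, hα⟩ := Fib44.exists_autO hX (i.hom ≫ σ.hom ≫ i.inv)
      (Fib44.lift_id_of_eq 𝒳.p hxT.symm hl)
    have hα' : α.hom.1 = i.hom ≫ σ.hom ≫ i.inv := hα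
    let z₀ : (Stk.ofPsh (autPsh x hX)).obj := ⟨T, (⟨s, α⟩ : AutTot x T)⟩
    let si : inertiaOf π α ≅ (⟨ξ, σ, hσ⟩ : InertiaObj π) :=
      { hom := ⟨i.hom, by
          change α.hom.1 ≫ i.hom = i.hom ≫ σ.hom
          rw [hα']; simp⟩
        inv := ⟨i.inv, by
          change σ.hom ≫ i.inv = i.inv ≫ α.hom.1
          rw [hα']; simp⟩
        hom_inv_id := InertiaObj.hom_ext i.hom_inv_id
        inv_hom_id := InertiaObj.hom_ext i.inv_hom_id }
    refine ⟨z₀, ObjectProperty.isoMk _ (CategoricalPullback.mkIso (Iso.refl _) si ?_), ?_⟩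
    · change x.map (𝟙 _) ≫ i.hom = 𝟙 _ ≫ i.hom
      rw [x.toFunctor.map_id]
    · exact fp_isHomLift _ (IsHomLift.id rfl)

theorem isAlgSpace_autPsh {Bs : AlgSp.Space S} (x : ofSp Bs.obj ⥤ᵇ 𝒳) (hX : IsFibGrpd 𝒳.p)
    (π : 𝒳 ⥤ᵇ ofSp Bs.obj) (h : RepByAlgSp1 (inertiaToBase π)) :
    AlgSp.IsAlgSpaceP (autPsh x hX) := by
  refine isAlgSpaceP_of_repByAlgSp ?_
  obtain ⟨F, a, e, he, -, -⟩ := exists_space_fp (isFibGrpd_inertia hX
    (Stk.isFibGrpd_ofPsh Bs.obj.obj) π) hX h Bs x
  obtain ⟨Ψ, hΨ, -, -⟩ := isEquivOver_inverse (isEquivOver_autToFp x hX π)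
  exact ⟨F, BasedFunctor.comp e Ψ, isEquivOver_comp he hΨ⟩

section Group

theorem mk_mul_congr {T : Over S} {b b' : B.obj.obj (op T)} {a c : Gerb.AutO (x.obj ⟨T, b⟩)}
    {a' c' : Gerb.AutO (x.obj ⟨T, b'⟩)} (e : b' = b) (ha : (⟨b, a⟩ : AutTot x T) = ⟨b', a'⟩)
    (hc : (⟨b, c⟩ : AutTot x T) = ⟨b', c'⟩) :
    (⟨b', a' * c'⟩ : AutTot x T) = ⟨b, a * c⟩ := by
  subst e
  rw [eq_of_heq (Sigma.mk.inj_iff.1 ha).2, eq_of_heq (Sigma.mk.inj_iff.1 hc).2]

variable (hs : Presheaf.IsSheaf (AlgSp.J S) (autPsh x hX))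

/-- The sheaf of automorphisms over `B`. -/
noncomputable def autOver : Over B :=
  Over.mk (ObjectProperty.homMk (autPr x hX) : (⟨autPsh x hX, hs⟩ : AlgSp.Sp S) ⟶ B)

/-- Natural families of automorphisms of `x` along a map to `B`. -/
def autFam (Y : Over B) : Subgroup (∀ c : (ofSp Y.left).obj, Gerb.AutO (x.obj ((ofSpMap Y.hom).obj c))) where
  carrier := {γ | ∀ ⦃c' c : (ofSp Y.left).obj⦄ (m : c' ⟶ c),
    Fib44.IsRes (x.map ((ofSpMap Y.hom).map m)) (γ c) (γ c')}
  mul_mem' := fun {γ δ} hγ hδ c' c m => Fib44.IsRes.mul (hγ m) (hδ m)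
  one_mem' := fun c' c m => Fib44.isRes_one _
  inv_mem' := fun {γ} hγ c' c m => Fib44.IsRes.inv (hγ m)

/-- The element of `AutTot` given by a member of a family. -/
abbrev famVal {Y : Over B} (c : (ofSp Y.left).obj)
    (α : Gerb.AutO (x.obj ((ofSpMap Y.hom).obj c))) : AutTot x c.base :=
  ⟨Y.hom.hom.app (op c.base) c.sec, α⟩

theorem exists_famVal {Y : Over B} (k : Y ⟶ autOver x hX hs) (c : (ofSp Y.left).obj) :
    ∃ α, (k.left.hom.app (op c.base) c.sec : AutTot x c.base) = famVal x c α := by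
  have h : (k.left.hom.app (op c.base) c.sec : AutTot x c.base).1 = Y.hom.hom.app (op c.base) c.sec :=
    congrArg (fun t : Y.left ⟶ B => t.hom.app (op c.base) c.sec) (Over.w k)
  generalize (k.left.hom.app (op c.base) c.sec : AutTot x c.base) = z at h ⊢
  obtain ⟨b, α⟩ := z
  obtain rfl : b = Y.hom.hom.app (op c.base) c.sec := h
  exact ⟨α, rfl⟩

theorem famVal_inj {Y : Over B} {c : (ofSp Y.left).obj}
    {α β : Gerb.AutO (x.obj ((ofSpMap Y.hom).obj c))} (h : famVal x c α = famVal x c β) : α = β :=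
  eq_of_heq (Sigma.mk.inj_iff.1 h).2

/-- Morphisms to the sheaf of automorphisms are natural families of automorphisms. -/
noncomputable def famEquiv (Y : Over B) : (Y ⟶ autOver x hX hs) ≃ ↥(autFam x Y) where
  toFun k := ⟨fun c => (exists_famVal x hX hs k c).choose, fun c' c m => by
    have e := NatTrans.naturality_apply k.left.hom m.hom.op c.sec
    have em : Y.left.obj.map m.hom.op c.sec = c'.sec := m.map_sec
    rw [em, (exists_famVal x hX hs k c').choose_spec, (exists_famVal x hX hs k c).choose_spec] at e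
    have hr : IsResAlong x m.hom (famVal x c (exists_famVal x hX hs k c).choose)
        (famVal x c' (exists_famVal x hX hs k c').choose) :=
      (congrArg (IsResAlong x m.hom (famVal x c (exists_famVal x hX hs k c).choose)) e.symm).mp
        (autMapPsh_spec x hX m.hom _)
    exact hr.snd⟩
  invFun γ :=
    Over.homMk
      (ObjectProperty.homMk
        { app := fun T => TypeCat.ofHom fun y => (famVal x ⟨T.unop, y⟩ (γ.1 ⟨T.unop, y⟩) : AutTot x T.unop)
          naturality := fun T T' f => by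
            apply ConcreteCategory.hom_ext
            intro y
            refine (autMapPsh_eq x hX ⟨?_, γ.2 (⟨f.unop, rfl⟩ :
              (⟨T'.unop, Y.left.obj.map f y⟩ : (ofSp Y.left).obj) ⟶ ⟨T.unop, y⟩)⟩).symm
            exact (NatTrans.naturality_apply Y.hom.hom f y).symm })
      rfl
  left_inv k := by
    refine Over.OverMorphism.ext (sp_hom_ext fun T y => ?_)
    exact ((exists_famVal x hX hs k ⟨T, y⟩).choose_spec).symm
  right_inv γ := by
    refine Subtype.ext (funext fun c => famVal_inj x ?_)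
    exact ((exists_famVal x hX hs _ c).choose_spec).symm

theorem famEquiv_spec {Y : Over B} (k : Y ⟶ autOver x hX hs) (c : (ofSp Y.left).obj) :
    (k.left.hom.app (op c.base) c.sec : AutTot x c.base) = famVal x c ((famEquiv x hX hs Y k).1 c) :=
  (exists_famVal x hX hs k c).choose_spec

/-- The restriction of families along a map over `B`. -/
theorem exists_famPull {Y' Y : Over B} (φ : Y' ⟶ Y) (k : Y ⟶ autOver x hX hs)
    (c : (ofSp Y'.left).obj) :
    famVal x c ((famEquiv x hX hs Y' (φ ≫ k)).1 c) =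
      famVal x ((ofSpMap φ.left).obj c) ((famEquiv x hX hs Y k).1 ((ofSpMap φ.left).obj c)) :=
  (famEquiv_spec x hX hs (φ ≫ k) c).symm.trans (famEquiv_spec x hX hs k ((ofSpMap φ.left).obj c))

theorem exists_groupHom :
    ∀ {Y' Y : Over B} (φ : Y' ⟶ Y) (γ δ : ↥(autFam x Y)),
      famEquiv x hX hs Y' (φ ≫ (famEquiv x hX hs Y).symm (γ * δ)) =
        famEquiv x hX hs Y' (φ ≫ (famEquiv x hX hs Y).symm γ) *
          famEquiv x hX hs Y' (φ ≫ (famEquiv x hX hs Y).symm δ) := by
  intro Y' Y φ γ δ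
  have hw : φ.left ≫ Y.hom = Y'.hom := Over.w φ
  refine Subtype.ext (funext fun c => famVal_inj x ?_)
  have key : ∀ ε : ↥(autFam x Y), famVal x c ((famEquiv x hX hs Y' (φ ≫ (famEquiv x hX hs Y).symm ε)).1 c) =
      famVal x ((ofSpMap φ.left).obj c) (ε.1 ((ofSpMap φ.left).obj c)) := fun ε => by
    rw [exists_famPull, Equiv.apply_symm_apply]
  have h1 := key (γ * δ)
  have h2 := key γ
  have h3 := key δ
  rw [Subgroup.coe_mul, Pi.mul_apply]
  rw [h1, Subgroup.coe_mul, Pi.mul_apply]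
  generalize (famEquiv x hX hs Y' (φ ≫ (famEquiv x hX hs Y).symm γ)).1 c = a at h2 ⊢
  generalize (famEquiv x hX hs Y' (φ ≫ (famEquiv x hX hs Y).symm δ)).1 c = b at h3 ⊢
  generalize γ.1 ((ofSpMap φ.left).obj c) = a' at h2 ⊢
  generalize δ.1 ((ofSpMap φ.left).obj c) = b' at h3 ⊢
  exact mk_mul_congr x (congrArg (fun t : Y'.left ⟶ B => t.hom.app (op c.base) c.sec) hw) h2 h3

/-- The group presheaf represented by the sheaf of automorphisms. -/
noncomputable def famFunctor : (Over B)ᵒᵖ ⥤ GrpCat.{u + 1} where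
  obj Y := GrpCat.of ↥(autFam x Y.unop)
  map {Y Y'} φ := GrpCat.ofHom (MonoidHom.mk'
    (fun γ => famEquiv x hX hs _ (φ.unop ≫ (famEquiv x hX hs _).symm γ))
    (exists_groupHom x hX hs φ.unop))
  map_id Y := by
    apply ConcreteCategory.hom_ext
    intro γ
    show famEquiv x hX hs _ (𝟙 Y.unop ≫ (famEquiv x hX hs _).symm γ) = γ
    rw [Category.id_comp, Equiv.apply_symm_apply]
  map_comp {Y Y' Y''} φ ψ := by
    apply ConcreteCategory.hom_ext
    intro γ
    show famEquiv x hX hs _ ((ψ.unop ≫ φ.unop) ≫ (famEquiv x hX hs _).symm γ) =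
      famEquiv x hX hs _ (ψ.unop ≫ (famEquiv x hX hs _).symm
        (famEquiv x hX hs _ (φ.unop ≫ (famEquiv x hX hs _).symm γ)))
    rw [Equiv.symm_apply_apply, Category.assoc]

/-- The sheaf of automorphisms represents the natural families of automorphisms. -/
noncomputable def famRepresentable :
    (famFunctor x hX hs ⋙ forget GrpCat).RepresentableBy (autOver x hX hs) where
  homEquiv {Y} := famEquiv x hX hs Y
  homEquiv_comp {Y Y'} f g := by
    show famEquiv x hX hs Y (f ≫ g) = famEquiv x hX hs Y (f ≫ (famEquiv x hX hs Y').symm (famEquiv x hX hs Y' g))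
    rw [Equiv.symm_apply_apply]

/-- The group structure of the sheaf of automorphisms. -/
@[implicit_reducible]
noncomputable def autGrp : GrpObj (autOver x hX hs) :=
  GrpObj.ofRepresentableBy _ (famFunctor x hX hs) (famRepresentable x hX hs)

open MonObj in
theorem famEquiv_mul {Y : Over B} (k l : Y ⟶ autOver x hX hs) :
    letI := autGrp x hX hs
    famEquiv x hX hs Y (k * l) = famEquiv x hX hs Y k * famEquiv x hX hs Y l := by
  letI := autGrp x hX hs
  have e : k * l = lift k l ≫ (famEquiv x hX hs _).symm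
      (famEquiv x hX hs _ (fst (autOver x hX hs) (autOver x hX hs)) *
        famEquiv x hX hs _ (snd (autOver x hX hs) (autOver x hX hs))) := Hom.mul_def k l
  rw [e, exists_groupHom x hX hs, Equiv.symm_apply_apply, Equiv.symm_apply_apply, lift_fst, lift_snd]

theorem famEquiv_comp {Y' Y : Over B} (φ : Y' ⟶ Y) (k : Y ⟶ autOver x hX hs)
    (c : (ofSp Y'.left).obj) :
    famVal x c ((famEquiv x hX hs Y' (φ ≫ k)).1 c) =
      famVal x ((ofSpMap φ.left).obj c) ((famEquiv x hX hs Y k).1 ((ofSpMap φ.left).obj c)) :=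
  exists_famPull x hX hs φ k c

end Group

end Groth.Agent.Gerb44

namespace Groth.Agent.Gerb44

variable {S : Scheme.{u}} {𝒳 : AlgSt.Cat S}

/-- The automorphisms of a section of a gerbe form a flat group space, locally of finite
presentation. -/
theorem autOver_flat_lfp {Bs : AlgSp.Space S} (x : ofSp Bs.obj ⥤ᵇ 𝒳)
    (h𝒳 : IsAlgStack Scheme.fppfPrecoverage 𝒳) (π : 𝒳 ⥤ᵇ ofSp Bs.obj)
    (hπ : Gerb.IsGerbeOver (QuotSh.J Scheme.fppfPrecoverage S) π) :
    ∃ hs : Presheaf.IsSheaf (AlgSp.J S) (autPsh x h𝒳.isStack.1),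
      AlgSp.IsAlgSpace (autOver x h𝒳.isStack.1 hs).left ∧
      AlgSp.LocP @Flat (autOver x h𝒳.isStack.1 hs).hom ∧
      AlgSp.LocP @LocallyOfFinitePresentation (autOver x h𝒳.isStack.1 hs).hom := by
  have hX := h𝒳.isStack.1
  have hB := (isDM_ofSp Bs).1
  have hd := gerbe_diag_repFppf h𝒳 hB hπ
  obtain ⟨hs, hA⟩ := isAlgSpace_autPsh x hX π
    (repByAlgSp1_of_with (repByAlgSpWith_inertiaToBase hX π hd.flat))
  refine ⟨hs, hA, ?_⟩
  have key : ∀ {P : MorphismProperty (AlgSp.Sp S)}, StableBC P →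
      AlgSp.IsLocalOnBase AlgSp.IsFppfCover P → RepByAlgSpWith P (FibCat.diag π) →
      P (autOver x hX hs).hom := fun {P} hPb hPl h => by
    have h1 := (repByAlgSpWith_iff_repSp (isFibGrpd_inertia hX (Stk.isFibGrpd_ofPsh Bs.obj.obj) π) hX
      hPb hPl).1 (repByAlgSpWith_inertiaToBase hX π h) Bs x
    haveI := onSpaces_respectsIso_of_bc hPb
    have h2 := ((repSp_onSpaces_iff (G := Bs)).2 h1).any (F := (autOver x hX hs).left)
      (e := autToFp x hX π) (isEquivOver_autToFp x hX π)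
    have e : BasedFunctor.comp (autToFp x hX π) (fpFst x (inertiaToBase π)) =
        ofSpMap (autOver x hX hs).hom := rfl
    rw [e, homOfBased_ofSpMap] at h2
    exact h2.2.2
  exact ⟨key (stableBC_locP _) isLocalOnBase_flat hd.flat,
    key (stableBC_locP _) isLocalOnBase_lfp hd.lfp⟩

end Groth.Agent.Gerb44
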