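import Groth.Agent.Fib44.DenseExtend
import Groth.Agent.Fib44.GerbeFunctor
import Groth.Agent.AlgSt88.QuotStack
import Groth.Agent.AlgSt88.QuotTriv
import Groth.Prelude.Def_StGerb2

/-!
A gerbe with a section whose automorphism group is an affine group scheme is its classifying stack.
-/

set_option autoImplicit false
set_option maxHeartbeats 1000000
set_option linter.style.haveILetI false
set_option backward.isDefEq.respectTransparency false
set_option backward.isDefEq.respectTransparency.types false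
universe u

open CategoryTheory CategoryTheory.Limits MonoidalCategory CartesianMonoidalCategory MonObj GrpObj
  AlgebraicGeometry Opposite AlgSt

namespace Groth.Agent.Gerb44

variable {S : Scheme.{u}} (G : Over S) [GrpObj G]

local notation "K" => Scheme.fppfPrecoverage

/-- The trivial torsor over a scheme. -/
noncomputable def trivT (T : Over S) : QuotObj K G (trivAction G) :=
  (quotMap K G (trivAction G)).obj ((ofOverCat (𝟙_ (Over S))).obj (Over.mk (toUnit T)))

/-- The category of trivial torsors. -/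
noncomputable abbrev trivCat : BasedCategory.{u, u + 1} (Over S) where
  obj := InducedCategory (QuotObj K G (trivAction G)) (trivT G)
  p := inducedFunctor (trivT G) ⋙ QuotObj.forget K G (trivAction G)

/-- The inclusion of the trivial torsors. -/
noncomputable def trivIncl : trivCat G ⥤ᵇ BG K G where
  toFunctor := inducedFunctor (trivT G)
  w := rfl

instance : (trivIncl G).toFunctor.Full := inferInstanceAs (inducedFunctor (trivT G)).Full
instance : (trivIncl G).toFunctor.Faithful := inferInstanceAs (inducedFunctor (trivT G)).Faithful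

variable {G}

/-- The map of base schemes of a morphism of trivial torsors. -/
abbrev trivBase {T T' : Over S} (k : trivT G T ⟶ trivT G T') : T ⟶ T' := k.base

/-- The map of total spaces of a morphism of trivial torsors. -/
abbrev trivTop {T T' : Over S} (k : trivT G T ⟶ trivT G T') : G ⊗ T ⟶ G ⊗ T' := k.top

/-- The group element of a morphism of trivial torsors. -/
noncomputable def trivElt {T T' : Over S} (k : trivT G T ⟶ trivT G T') : T ⟶ G :=
  lift (1 : T ⟶ G) (𝟙 T) ≫ trivTop k ≫ fst G T'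

theorem unit_top {T T' : Over S} (f : T ⟶ T') (g : T ⟶ G) :
    lift (1 : T ⟶ G) (𝟙 T) ≫ lift (fst G T * (snd G T ≫ g)) (snd G T ≫ f) = lift g f := by
  simp [comp_lift, MonObj.comp_mul]

theorem top_eq {T T' : Over S} (k : trivT G T ⟶ trivT G T') :
    trivTop k = lift (fst G T * (snd G T ≫ trivElt k)) (snd G T ≫ trivBase k) := by
  obtain ⟨g, -, hg⟩ := (AlgSt88.exists_quot_hom_over (trivAction G) (trivBase k) (toUnit T)
    (toUnit T')).1 k rfl
  have hg' : trivTop k = lift (fst G T * (snd G T ≫ g)) (snd G T ≫ trivBase k) := hg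
  have : trivElt k = g := by
    unfold trivElt
    rw [← Category.assoc, hg', unit_top, lift_fst]
  rw [this]; exact hg'

theorem trivElt_ext {T T' : Over S} {k k' : trivT G T ⟶ trivT G T'}
    (h : trivBase k = trivBase k') (h' : trivElt k = trivElt k') : k = k' :=
  QuotObj.hom_ext h (show trivTop k = trivTop k' by rw [top_eq k, top_eq k', h, h'])

theorem exists_trivHom {T T' : Over S} (f : T ⟶ T') (g : T ⟶ G) :
    ∃ k : trivT G T ⟶ trivT G T', trivBase k = f ∧ trivElt k = g := by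
  obtain ⟨k, hk, hg⟩ := (AlgSt88.exists_quot_hom_over (trivAction G) f (toUnit T) (toUnit T')).2 g
    (toUnit_unique _ _)
  have hg' : trivTop (T := T) (T' := T') k = lift (fst G T * (snd G T ≫ g)) (snd G T ≫ f) := hg
  refine ⟨k, hk, ?_⟩
  unfold trivElt
  rw [← Category.assoc, hg', unit_top, lift_fst]

theorem trivElt_id (T : Over S) : trivElt (𝟙 (trivT G T)) = 1 := by
  show lift (1 : T ⟶ G) (𝟙 T) ≫ 𝟙 (G ⊗ T) ≫ fst G T = 1
  simp

theorem trivElt_comp {T T' T'' : Over S} (k : trivT G T ⟶ trivT G T')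
    (l : trivT G T' ⟶ trivT G T'') :
    trivElt (k ≫ l) = trivElt k * (trivBase k ≫ trivElt l) := by
  show lift (1 : T ⟶ G) (𝟙 T) ≫ (trivTop k ≫ trivTop l) ≫ fst G T'' = _
  rw [← Category.assoc, ← Category.assoc, top_eq k, unit_top, top_eq l, Category.assoc, lift_fst,
    MonObj.comp_mul, lift_fst, lift_snd_assoc]

variable {𝒳 : AlgSt.Cat S} {x : FibCat.overCat (Over.mk (𝟙 S)) ⥤ᵇ 𝒳}
  (r : Gerb.AutRep x (Gerb.ptsGrp (Over.mk (𝟙 S)) G))

/-- A scheme as an object over the base. -/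
abbrev overBase (T : Over S) : Over (Over.mk (𝟙 S)) := Over.mk (Over.homMk T.hom : T ⟶ Over.mk (𝟙 S))

/-- A morphism as a morphism over the base. -/
abbrev overBaseMap {T T' : Over S} (f : T ⟶ T') : overBase T ⟶ overBase T' :=
  Over.homMk f (Over.OverMorphism.ext (Over.w f))

/-- The automorphism of the value of the section attached to a point of the group. -/
noncomputable def autPt (T : Over S) (g : T ⟶ G) : x.obj (overBase T) ⟶ x.obj (overBase T) :=
  (r.iso (overBase T) g).hom.1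

theorem autPt_mul (T : Over S) (g h : T ⟶ G) :
    autPt r T (g * h) = autPt r T h ≫ autPt r T g := by
  have e := map_mul (r.iso (overBase T)) g h
  exact congrArg (fun a : Gerb.AutO (x.obj (overBase T)) => a.hom.1) e

theorem autPt_one (T : Over S) : autPt r T 1 = 𝟙 (x.obj (overBase T)) := by
  have e := map_one (r.iso (overBase T))
  exact congrArg (fun a : Gerb.AutO (x.obj (overBase T)) => a.hom.1) e

theorem autPt_natural {T T' : Over S} (f : T ⟶ T') (g : T' ⟶ G) :
    autPt r T (f ≫ g) ≫ x.map (overBaseMap f) = x.map (overBaseMap f) ≫ autPt r T' g :=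
  r.natural (overBaseMap f) g

theorem autPt_lift (T : Over S) (g : T ⟶ G) : 𝒳.p.IsHomLift (𝟙 T) (autPt r T g) := by
  have h : 𝒳.p.IsHomLift (𝟙 (𝒳.p.obj (x.obj (overBase T)))) (autPt r T g) :=
    (r.iso (overBase T) g).hom.2
  exact Fib44.lift_id_of_eq 𝒳.p (x.w_obj (overBase T)) h

/-- The section on trivial torsors. -/
noncomputable def trivSection : trivCat G ⥤ᵇ 𝒳 where
  toFunctor :=
    { obj := fun (T : Over S) => x.obj (overBase T)
      map := fun {T T'} k => autPt r T (trivElt k.hom)⁻¹ ≫ x.map (overBaseMap (trivBase k.hom))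
      map_id := fun (T : Over S) => by
        change autPt r T (trivElt (𝟙 (trivT G T)))⁻¹ ≫
          x.map (overBaseMap (CategoryStruct.id (obj := Over S) T)) = _
        rw [trivElt_id, inv_one, autPt_one,
          show overBaseMap (CategoryStruct.id (obj := Over S) T) = 𝟙 (overBase T) from
            Over.OverMorphism.ext rfl,
          x.toFunctor.map_id, Category.comp_id]
      map_comp := fun {T T' T''} k l => by
        change autPt r T (trivElt (k.hom ≫ l.hom))⁻¹ ≫
          x.map (overBaseMap (trivBase k.hom ≫ trivBase l.hom)) =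
          (autPt r T (trivElt k.hom)⁻¹ ≫ x.map (overBaseMap (trivBase k.hom))) ≫
            autPt r T' (trivElt l.hom)⁻¹ ≫ x.map (overBaseMap (trivBase l.hom))
        rw [trivElt_comp, _root_.mul_inv_rev, autPt_mul, ← GrpObj.comp_inv,
          show overBaseMap (trivBase k.hom ≫ trivBase l.hom) =
            overBaseMap (trivBase k.hom) ≫ overBaseMap (trivBase l.hom)
            from Over.OverMorphism.ext rfl,
          x.toFunctor.map_comp, Category.assoc, Category.assoc,
          ← Category.assoc (autPt r T (trivBase k.hom ≫ _)),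
          autPt_natural r (trivBase k.hom), Category.assoc] }
  w := by
    refine CategoryTheory.Functor.ext (fun T => x.w_obj (overBase T)) (fun T T' k => ?_)
    have h1 := autPt_lift r T (trivElt k.hom)⁻¹
    have h2 : 𝒳.p.IsHomLift k.hom.base (x.map (overBaseMap k.hom.base)) :=
      Fib44.isHomLift_map_left x (overBaseMap k.hom.base)
    have h3 : 𝒳.p.IsHomLift k.hom.base
        (autPt r T (trivElt k.hom)⁻¹ ≫ x.map (overBaseMap k.hom.base)) :=
      @IsHomLift.comp_lift_id_left _ _ _ _ 𝒳.p _ _ _ _ _ _ _ h2 _ h1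
    exact IsHomLift.fac' 𝒳.p k.hom.base _

theorem trivSection_map_of_id {T : Over S} (k : trivT G T ⟶ trivT G T) (hk : trivBase k = 𝟙 T) :
    (trivSection r).map (InducedCategory.homMk k : (show (trivCat G).obj from T) ⟶ T) =
      autPt r T (trivElt k)⁻¹ := by
  change autPt r T (trivElt k)⁻¹ ≫ x.map (overBaseMap (trivBase k)) = _
  rw [hk, show overBaseMap (𝟙 T) = 𝟙 (overBase T) from Over.OverMorphism.ext rfl,
    x.toFunctor.map_id, Category.comp_id]

theorem isSC_autO {𝒴 : AlgSt.Cat S} {a : 𝒴.obj} (α : Gerb.AutO a) :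
    𝒴.p.map α.hom.1 = 𝟙 (𝒴.p.obj a) := Fib44.autHom_map α

omit r in
theorem autMap_triv_bijective {Φ : BG K G ⥤ᵇ 𝒳} (r : Gerb.AutRep x (Gerb.ptsGrp (Over.mk (𝟙 S)) G))
    (e : BasedFunctor.comp (trivIncl G) Φ ≅ trivSection r)
    (hB : FibCat.IsFibGrpd (BG K G).p) (T : Over S) :
    Function.Bijective (Gerb.autMap Φ (trivT G T)) := by
  let i := Fib44.isoApp e T
  have conj : ∀ k : trivT G T ⟶ trivT G T,
      Φ.map k = i.hom ≫ (trivSection r).map
        (InducedCategory.homMk k : (show (trivCat G).obj from T) ⟶ T) ≫ i.inv := fun k => by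
    have h := e.hom.toNatTrans.naturality
      (InducedCategory.homMk k : (show (trivCat G).obj from T) ⟶ T)
    change Φ.map k ≫ i.hom = i.hom ≫ _ at h
    rw [← Category.assoc, ← h, Category.assoc, Iso.hom_inv_id, Category.comp_id]
  constructor
  · intro α β hαβ
    have h : Φ.map α.hom.1 = Φ.map β.hom.1 :=
      congrArg (fun a : Gerb.AutO (Φ.obj (trivT G T)) => a.hom.1) hαβ
    rw [conj, conj, Iso.cancel_iso_hom_left, Iso.cancel_iso_inv_right] at h
    have hα : trivBase α.hom.1 = 𝟙 T := isSC_autO α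
    have hβ : trivBase β.hom.1 = 𝟙 T := isSC_autO β
    rw [trivSection_map_of_id r _ hα, trivSection_map_of_id r _ hβ] at h
    apply Fib44.autO_ext
    refine trivElt_ext (hα.trans hβ.symm) (inv_injective ?_)
    exact (r.iso (overBase T)).injective (Fib44.autO_ext h)
  · intro γ
    have hi : 𝒳.p.IsHomLift (𝟙 T) i.hom := e.hom.isHomLift' T
    have hi' : 𝒳.p.IsHomLift (𝟙 T) i.inv := e.inv.isHomLift' T
    have hg : 𝒳.p.IsHomLift (𝟙 T) γ.hom.1 :=
      Fib44.lift_id_of_eq 𝒳.p (Φ.w_obj (trivT G T)) γ.hom.2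
    have hxT : 𝒳.p.obj (x.obj (overBase T)) = T := x.w_obj (overBase T)
    have h1 : 𝒳.p.IsHomLift (𝟙 T) (γ.hom.1 ≫ i.hom) :=
      @IsHomLift.comp_lift_id_left _ _ _ _ 𝒳.p _ _ _ _ _ _ _ hi _ hg
    have h2 : 𝒳.p.IsHomLift (𝟙 T) (i.inv ≫ γ.hom.1 ≫ i.hom) :=
      @IsHomLift.comp_lift_id_left _ _ _ _ 𝒳.p _ _ _ _ _ _ _ h1 _ hi'
    have hxg : FibCat.IsFibGrpd 𝒳.p → ∃ a : Gerb.AutO (x.obj (overBase T)),
        a.hom.1 = i.inv ≫ γ.hom.1 ≫ i.hom := fun h => Fib44.exists_autO h _
      (Fib44.lift_id_of_eq 𝒳.p hxT.symm h2)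
    obtain ⟨a, ha⟩ : ∃ a : Gerb.AutO (x.obj (overBase T)), a.hom.1 = i.inv ≫ γ.hom.1 ≫ i.hom := by
      let γi : Gerb.AutO (x.obj (overBase T)) :=
        { hom := ⟨i.inv ≫ γ.hom.1 ≫ i.hom, Fib44.lift_id_of_eq 𝒳.p hxT.symm h2⟩
          inv := ⟨i.inv ≫ γ.inv.1 ≫ i.hom, by
            have hg' : 𝒳.p.IsHomLift (𝟙 T) γ.inv.1 :=
              Fib44.lift_id_of_eq 𝒳.p (Φ.w_obj (trivT G T)) γ.inv.2
            exact Fib44.lift_id_of_eq 𝒳.p hxT.symm
              (@IsHomLift.comp_lift_id_left _ _ _ _ 𝒳.p _ _ _ _ _ _ _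
                (@IsHomLift.comp_lift_id_left _ _ _ _ 𝒳.p _ _ _ _ _ _ _ hi _ hg') _ hi')⟩
          hom_inv_id := by
            apply Functor.Fiber.hom_ext
            change (i.inv ≫ γ.hom.1 ≫ i.hom) ≫ i.inv ≫ γ.inv.1 ≫ i.hom = 𝟙 _
            have := congrArg Subtype.val γ.hom_inv_id
            change γ.hom.1 ≫ γ.inv.1 = 𝟙 _ at this
            simp [reassoc_of% this]
          inv_hom_id := by
            apply Functor.Fiber.hom_ext
            change (i.inv ≫ γ.inv.1 ≫ i.hom) ≫ i.inv ≫ γ.hom.1 ≫ i.hom = 𝟙 _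
            have := congrArg Subtype.val γ.inv_hom_id
            change γ.inv.1 ≫ γ.hom.1 = 𝟙 _ at this
            simp [reassoc_of% this] }
      exact ⟨γi, rfl⟩
    obtain ⟨g, rfl⟩ := (r.iso (overBase T)).surjective a
    obtain ⟨k, hk, hkg⟩ := exists_trivHom (𝟙 T) (g : T ⟶ G)⁻¹
    obtain ⟨α, hα⟩ := Fib44.exists_autO hB k (IsHomLift.of_fac' _ _ _ rfl rfl (by
      change trivBase k = _
      rw [hk]; simp; rfl))
    refine ⟨α, Fib44.autO_ext ?_⟩
    change Φ.map (Fib44.autHom α) = γ.hom.1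
    rw [hα, conj, trivSection_map_of_id r k hk, hkg, _root_.inv_inv]
    change i.hom ≫ (r.iso (overBase T) g).hom.1 ≫ i.inv = γ.hom.1
    rw [ha]
    simp

variable (G) in
theorem isFibGrpd_BG : FibCat.IsFibGrpd (BG K G).p := AlgSt88.isFibGrpd_quotSt (trivAction G)

theorem exists_lift_trivCat {T : (trivCat G).obj} {V : Over S} (f : V ⟶ (trivCat G).p.obj T) :
    ∃ (T' : (trivCat G).obj) (k : T' ⟶ T), (trivCat G).p.IsHomLift f k := by
  obtain ⟨k, hk, -⟩ := exists_trivHom (G := G) (f : V ⟶ (show Over S from T)) (1 : V ⟶ G)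
  exact ⟨V, InducedCategory.homMk k, IsHomLift.of_fac' _ _ _ rfl rfl (by
    change trivBase k = _
    rw [hk]; simp)⟩

theorem mem_J_of_cover {U : Over S} {R₀ : Presieve U.left} (hR₀ : R₀ ∈ K U.left) (R : Sieve U)
    (h : ∀ ⦃W : Scheme.{u}⦄ (g : W ⟶ U.left), R₀ g →
      R (Over.homMk g rfl : Over.mk (g ≫ U.hom) ⟶ U)) : R ∈ QuotSh.J K S U := by
  refine (GrothendieckTopology.mem_over_iff _ R).2 ?_
  refine (Precoverage.toGrothendieck _).superset_covering (S := Sieve.generate R₀) ?_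
    (Precoverage.generate_mem_toGrothendieck hR₀)
  exact (Sieve.generate_le_iff _ _).2 fun W g hg => (Sieve.overEquiv_iff R g).2 (h g hg)

theorem exists_triv_cover (A : (BG K G).obj) :
    ∃ R ∈ QuotSh.J K S ((BG K G).p.obj A), ∀ ⦃V : Over S⦄ (g : V ⟶ (BG K G).p.obj A), R g →
      ∃ (T : (trivCat G).obj) (m : (trivIncl G).obj T ⟶ A), (BG K G).p.IsHomLift g m := by
  obtain ⟨R, hR, h⟩ := AlgSt88.exists_triv_hom (trivAction G) A
  let P : Sieve ((BG K G).p.obj A) :=
    { arrows := fun V g => ∃ (T : (trivCat G).obj) (m : (trivIncl G).obj T ⟶ A),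
        (BG K G).p.IsHomLift g m
      downward_closed := by
        rintro Y Z g ⟨T, m, hm⟩ f
        have hT : (trivCat G).p.obj T = Y :=
          ((trivIncl G).w_obj T).symm.trans (IsHomLift.domain_eq (BG K G).p g m)
        subst hT
        obtain ⟨T', k, hk⟩ := exists_lift_trivCat f
        haveI := hk
        haveI : (BG K G).p.IsHomLift f ((trivIncl G).map k) :=
          @BasedFunctor.preserves_isHomLift _ _ _ _ (trivIncl G) _ _ _ _ f k hk
        exact ⟨T', (trivIncl G).map k ≫ m,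
          @IsHomLift.comp _ _ _ _ (BG K G).p _ _ _ _ _ _ f g ((trivIncl G).map k) m inferInstance hm⟩ }
  refine ⟨P, mem_J_of_cover hR P fun W g hg => ?_, fun V g hg => hg⟩
  obtain ⟨xx, m, hm⟩ := h g hg
  obtain rfl : xx = toUnit _ := toUnit_unique _ _
  exact ⟨(Over.mk (g ≫ A.base.hom) : Over S), m, IsHomLift.of_fac' _ _ _ rfl rfl (by
    change m.base = _
    rw [hm]; simp)⟩

theorem isGerbe_BG (hG : IsAffineHom G.hom) : Gerb.IsGerbe (QuotSh.J K S) (BG K G) := by
  refine ⟨AlgSt88.isStack_quotSt Scheme.fppfPrecoverage_le_fpqcPrecoverage hG _,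
    Fib44.locSurjObj_toSelf_iff.2 fun U => ⟨⊤, (QuotSh.J K S).top_mem _, fun V f _ =>
      ⟨trivT G V, rfl⟩⟩, Fib44.locSurjHom_toSelf_iff.2 fun A A' hA => ?_⟩
  obtain ⟨R, hR, h⟩ := exists_triv_cover A
  obtain ⟨R', hR', h'⟩ := exists_triv_cover A'
  let R'' : Sieve ((BG K G).p.obj A) := R'.pullback (eqToHom hA.symm)
  refine ⟨R ⊓ R'', (QuotSh.J K S).intersection_covering hR
    ((QuotSh.J K S).pullback_stable _ hR'), fun V g hg => ?_⟩
  obtain ⟨T, m, hm⟩ := h g hg.1
  obtain ⟨T', m', hm'⟩ := h' _ hg.2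
  have hT : (show Over S from T) = V := IsHomLift.domain_eq (BG K G).p g m
  have hT' : (show Over S from T') = V := IsHomLift.domain_eq (BG K G).p (g ≫ eqToHom hA.symm) m'
  subst hT
  subst hT'
  exact ⟨trivT G _, m, m', hm, IsHomLift.of_fac' _ _ _ rfl hA (by
    have := @IsHomLift.fac' _ _ _ _ (BG K G).p _ _ _ _ _ m' hm'
    simpa using this)⟩

theorem isGerbe_of_section {π : 𝒳 ⥤ᵇ FibCat.overCat (Over.mk (𝟙 S))}
    (h𝒳 : Stk.IsStack (QuotSh.J K S) 𝒳) (hπ : Gerb.IsGerbeOver (QuotSh.J K S) π) (x₀ :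
      FibCat.overCat (Over.mk (𝟙 S)) ⥤ᵇ 𝒳) : Gerb.IsGerbe (QuotSh.J K S) 𝒳 := by
  refine ⟨h𝒳, Fib44.locSurjObj_toSelf_iff.2 fun U => ⟨⊤, (QuotSh.J K S).top_mem _, fun V f _ =>
    ⟨x₀.obj (overBase V), x₀.w_obj (overBase V)⟩⟩, Fib44.locSurjHom_toSelf_iff.2 fun a a' ha => ?_⟩
  have h1 : (π.obj a).left = 𝒳.p.obj a := π.w_obj a
  have h2 : (π.obj a').left = 𝒳.p.obj a := (π.w_obj a').trans ha
  let b : π.obj a ⟶ π.obj a' := Over.homMk (eqToHom (h1.trans h2.symm))
    (Over.OverMorphism.ext (by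
      have e1 := Over.w (π.obj a).hom
      have e2 := Over.w (π.obj a').hom
      change _ ≫ 𝟙 _ = _ at e1
      change _ ≫ 𝟙 _ = _ at e2
      rw [Category.comp_id] at e1 e2
      change (eqToHom (h1.trans h2.symm)).left ≫ (π.obj a').hom.left = (π.obj a).hom.left
      rw [e1, e2]
      exact Over.w _))
  have hb : (FibCat.overCat (Over.mk (𝟙 S))).p.IsHomLift (𝟙 (𝒳.p.obj a)) b :=
    IsHomLift.of_fac' _ _ _ h1 h2 (by
      change eqToHom (h1.trans h2.symm) = _
      simp)
  refine (Fib44.onCover_hom hπ.2 a a' rfl b hb).mono ?_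
  rintro V f ⟨x₁, φ, ψ, hφ, hψ, -⟩
  exact ⟨x₁, φ, ψ, hφ, hψ⟩

/-- A gerbe over the base with a section whose automorphisms are represented by an affine group
scheme is the classifying stack of that group. -/
theorem autMap_bijective_of_hom {𝒴 : AlgSt.Cat S} (h𝒴 : FibCat.IsFibGrpd 𝒴.p)
    (h𝒳 : FibCat.IsFibGrpd 𝒳.p) (Φ : 𝒴 ⥤ᵇ 𝒳)
    {a a' : 𝒴.obj} (l : a ⟶ a') [IsIso l]
    (h : Function.Bijective (Gerb.autMap Φ a)) : Function.Bijective (Gerb.autMap Φ a') := by
  have hm : ∀ α : Gerb.AutO a', ∃ β : Gerb.AutO a, β.hom.1 = l ≫ α.hom.1 ≫ inv l := fun α => by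
    obtain ⟨β, hβ⟩ := Fib44.exists_res h𝒴 l α
    exact ⟨β, by
      change Fib44.autHom β = _
      rw [← Category.assoc, IsIso.eq_comp_inv]
      exact hβ⟩
  constructor
  · intro α α' e
    obtain ⟨β, hβ⟩ := hm α
    obtain ⟨β', hβ'⟩ := hm α'
    have e' : Φ.map α.hom.1 = Φ.map α'.hom.1 :=
      congrArg (fun b : Gerb.AutO (Φ.obj a') => b.hom.1) e
    have : β = β' := h.1 (Fib44.autO_ext (by
      change Φ.map β.hom.1 = Φ.map β'.hom.1
      rw [hβ, hβ']
      simp only [Functor.map_comp, e']))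
    subst this
    rw [hβ] at hβ'
    exact Fib44.autO_ext ((cancel_mono (inv l)).1 ((cancel_epi l).1 hβ'))
  · intro γ
    obtain ⟨δ, hδ⟩ := Fib44.exists_res h𝒳 (Φ.map l) γ
    obtain ⟨β, hβ⟩ := h.2 δ
    have hβ' : Φ.map β.hom.1 = δ.hom.1 :=
      congrArg (fun b : Gerb.AutO (Φ.obj a) => b.hom.1) hβ
    obtain ⟨α, hα⟩ := Fib44.exists_res h𝒴 (inv l) β
    refine ⟨α, Fib44.autO_ext ?_⟩
    change Φ.map α.hom.1 = γ.hom.1
    have hα' : α.hom.1 = inv l ≫ β.hom.1 ≫ l := by
      have := congrArg (fun t => t ≫ l) hα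
      simpa [Category.assoc] using this
    rw [hα', Functor.map_comp, Functor.map_comp, hβ', Functor.map_inv, IsIso.inv_comp_eq]
    exact hδ

theorem isQuotientOf_of_section (hG : IsAffineHom G.hom) (r : Gerb.AutRep x (Gerb.ptsGrp (Over.mk (𝟙 S)) G))
    (h𝒳 : Gerb.IsGerbe (QuotSh.J K S) 𝒳) :
    AlgSt.IsQuotientOf K G (trivAction G) 𝒳 := by
  obtain ⟨Φ, ⟨e⟩⟩ := Fib44.exists_extend (inc := trivIncl G) (F := trivSection r) h𝒳.1
    (isFibGrpd_BG G) exists_lift_trivCat exists_triv_cover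
  refine ⟨Φ, Fib44.isEquivOver_of_autMap_bijective Φ (trivT G (Over.mk (𝟙 S))) (isGerbe_BG hG) h𝒳
    (fun A => Over.homMk A.base.hom) fun A c => ?_⟩
  obtain ⟨k, hk, -⟩ := exists_trivHom (G := G)
    (show A.base ⟶ Over.mk (𝟙 S) from c.base) (1 : A.base ⟶ G)
  haveI hc : (BG K G).p.IsHomLift c.base c := IsHomLift.map (BG K G).p c
  haveI := Fib44.isSC_of_fibGrpd (BG K G).p (isFibGrpd_BG G) c.base c
  haveI : (BG K G).p.IsHomLift c.base k := IsHomLift.of_fac' _ _ _ rfl rfl (by
    change trivBase k = _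
    rw [hk]; simp)
  let l := Functor.IsCartesian.map (BG K G).p c.base c k
  haveI : (BG K G).p.IsHomLift (𝟙 A.base) l := Functor.IsCartesian.map_isHomLift (BG K G).p c.base c k
  haveI : IsIso l := Fib44.isIso_of_fibGrpd (BG K G).p (isFibGrpd_BG G) (𝟙 A.base) l
  exact autMap_bijective_of_hom (isFibGrpd_BG G) h𝒳.1.1 Φ l
    (autMap_triv_bijective r e (isFibGrpd_BG G) A.base)

end Groth.Agent.Gerb44
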