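import Groth.Agent.AlgSt88.Substack
import Groth.Agent.AlgSt88.Inertia
import Groth.Agent.AlgSt88.RepSp

/-!
Lifting functors to open substacks, and the inertia of a full substack as a base change.
-/

set_option autoImplicit false
set_option maxHeartbeats 1000000
set_option linter.style.haveILetI false
set_option backward.isDefEq.respectTransparency false
set_option backward.isDefEq.respectTransparency.types false
universe u

open CategoryTheory CategoryTheory.Limits AlgebraicGeometry Opposite AlgSt FibCat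
open Groth.Agent.AlgSt88

namespace Groth.Agent.Gerb44

variable {S : Scheme.{u}} {𝒳 𝒲 : AlgSt.Cat S}

/-- A functor whose values satisfy a property, into the full subcategory. -/
noncomputable def liftSub {Q : 𝒳.obj → Prop} (m : 𝒲 ⥤ᵇ 𝒳) (h : ∀ b, Q (m.obj b)) : 𝒲 ⥤ᵇ fullSub 𝒳 Q where
  toFunctor := ObjectProperty.lift Q m.toFunctor h
  w := m.w

theorem inPts_range_map (hX : IsFibGrpd 𝒳.p) (hW : IsFibGrpd 𝒲.p) (m : 𝒲 ⥤ᵇ 𝒳) (b : 𝒲.obj) :
    InPts (Set.range (Points.map m)) (m.obj b) := by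
  intro p g
  obtain ⟨b', hb', φ, hφ⟩ := fg_exists_lift hW (x := b)
    (eqToHom p.lies.symm ≫ 𝒳.p.map g ≫ eqToHom (m.w_obj b))
  let q : FPt 𝒲 := { K := p.K, str := p.str, obj := b', lies := hb' }
  obtain ⟨χ, -, -⟩ := fg_exists_fac hX (m.map φ) g
    (eqToHom (p.lies.trans ((m.w_obj b').trans hb').symm)) (by
      rw [p_map_eq, hφ]
      simp)
  exact ⟨Points.mk q, (Points.sound (p := p) (q := q.map m) ⟨p, 𝟙 _, χ, trivial⟩).symm⟩

/-- The inertia of a full subcategory maps to the inertia. -/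
noncomputable def inertiaSub (Q : 𝒳.obj → Prop) :
    inertia (toSelf (fullSub 𝒳 Q)) ⥤ᵇ inertia (toSelf 𝒳) where
  toFunctor :=
    { obj := fun x => ⟨x.pt.obj, (ObjectProperty.ι Q).mapIso x.aut, x.map_aut⟩
      map := fun f => ⟨f.hom.hom, congrArg (fun t => t.hom) f.comm⟩ }
  w := rfl

/-- The inertia of a full subcategory as a base change. -/
noncomputable def inertiaSubFp (Q : 𝒳.obj → Prop) :
    inertia (toSelf (fullSub 𝒳 Q)) ⥤ᵇ fp (subIncl 𝒳 Q) (inertiaToBase (toSelf 𝒳)) :=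
  fpLift (inertiaToBase (toSelf (fullSub 𝒳 Q))) (inertiaSub Q)
    (Iso.refl (BasedFunctor.comp (inertiaToBase (toSelf (fullSub 𝒳 Q))) (subIncl 𝒳 Q)))

theorem isEquivOver_inertiaSubFp (Q : 𝒳.obj → Prop) : IsEquivOver (inertiaSubFp (𝒳 := 𝒳) Q) := by
  refine IsEquivData.isEquivOver ⟨fun a b e => InertiaObj.hom_ext (congrArg (fun g => g.hom.fst) e),
    fun {x y} g => ?_, fun z => ?_⟩
  · have hw : g.hom.fst.hom ≫ 𝟙 _ = 𝟙 _ ≫ g.hom.snd.hom := g.hom.w
    rw [Category.comp_id, Category.id_comp] at hw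
    refine ⟨⟨g.hom.fst, ObjectProperty.hom_ext _ ?_⟩, fpHom_ext rfl (InertiaObj.hom_ext hw)⟩
    change x.aut.hom.hom ≫ g.hom.fst.hom = g.hom.fst.hom ≫ y.aut.hom.hom
    rw [hw]
    exact g.hom.snd.comm
  · let a : z.obj.fst.obj ≅ z.obj.snd.pt := z.obj.iso
    let α : z.obj.fst.obj ≅ z.obj.fst.obj := a ≪≫ z.obj.snd.aut ≪≫ a.symm
    let x : InertiaObj (toSelf (fullSub 𝒳 Q)) :=
      { pt := z.obj.fst
        aut := (ObjectProperty.fullyFaithfulι Q).preimageIso α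
        map_aut := by
          change 𝒳.p.map α.hom = 𝟙 _
          have h1 : 𝒳.p.map z.obj.snd.aut.hom = 𝟙 _ := z.obj.snd.map_aut
          simp only [α, Iso.trans_hom, Iso.symm_hom, Functor.map_comp, h1]
          erw [Category.id_comp, ← Functor.map_comp, Iso.hom_inv_id]
          exact 𝒳.p.map_id _ }
    let e : (inertiaSub Q).obj x ≅ z.obj.snd :=
      { hom := ⟨a.hom, show α.hom ≫ a.hom = a.hom ≫ z.obj.snd.aut.hom by simp [α]⟩
        inv := ⟨a.inv, show z.obj.snd.aut.hom ≫ a.inv = a.inv ≫ α.hom by simp [α]⟩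
        hom_inv_id := InertiaObj.hom_ext a.hom_inv_id
        inv_hom_id := InertiaObj.hom_ext a.inv_hom_id }
    exact ⟨x, fpObjIso (Iso.refl z.obj.fst) e (by
      change 𝟙 _ ≫ a.hom = 𝟙 _ ≫ a.hom
      rfl), fp_isHomLift _ (IsHomLift.id rfl)⟩

theorem repSp_inertiaToBase_sub {P : MorphismProperty (AlgSp.Sp S)} {Q : 𝒳.obj → Prop} {G : AlgSp.Sp S}
    (m : ofSp G ⥤ᵇ fullSub 𝒳 Q)
    (h : RepSp P (fpFst (BasedFunctor.comp m (subIncl 𝒳 Q)) (inertiaToBase (toSelf 𝒳)))) :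
    RepSp P (fpFst m (inertiaToBase (toSelf (fullSub 𝒳 Q)))) := by
  let f' := fpFst (subIncl 𝒳 Q) (inertiaToBase (toSelf 𝒳))
  obtain ⟨Φ₁, hΦ₁, -, ⟨b₁⟩⟩ := isEquivOver_inverse
    (isEquivOver_fpPaste m (subIncl 𝒳 Q) (inertiaToBase (toSelf 𝒳)))
  have h1 : RepSp P (fpFst m f') :=
    h.transport hΦ₁ (bRight b₁ (fpFst (BasedFunctor.comp m (subIncl 𝒳 Q)) (inertiaToBase (toSelf 𝒳))))
  obtain ⟨Φ₂, hΦ₂, -, ⟨b₂⟩⟩ := isEquivOver_inverse
    (isEquivOver_fpMapSnd m f' (inertiaSubFp (𝒳 := 𝒳) Q) (isEquivOver_inertiaSubFp Q))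
  exact h1.transport hΦ₂ (bRight b₂ (fpFst m f'))

end Groth.Agent.Gerb44
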