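import Groth.Agent.Gerb44.GenFlatSp
import Groth.Agent.Gerb44.SubInertia
import Groth.Agent.Gerb44.AlgGerbeIff
import Groth.Agent.AlgSt88.DiagLFT2
import Groth.Agent.AlgSt88.QCOverS
import Groth.Agent.AlgSt88.SmoothLoc
import Groth.Agent.AlgSt88.MonoFull

/-!
A reduced algebraic stack with quasi-compact inertia has a dense open substack which is a gerbe.
-/

set_option autoImplicit false
set_option maxHeartbeats 1000000
set_option linter.style.haveILetI false
set_option backward.isDefEq.respectTransparency false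
set_option backward.isDefEq.respectTransparency.types false
universe u

open CategoryTheory CategoryTheory.Limits AlgebraicGeometry Opposite AlgSt FibCat
open Groth.Agent.AlgSt88

namespace Groth.Agent.Gerb44

variable {S : Scheme.{u}} {𝒳 : AlgSt.Cat S}

theorem isAlgStack_inertia (h : IsAlgStack Scheme.fppfPrecoverage 𝒳) :
    IsAlgStack Scheme.fppfPrecoverage (inertia (toSelf 𝒳)) := by
  have hS := isAlgStack_selfOver (S := S)
  have hXX := isAlgStack_fp hS.isStack hS.diag h h (toSelf 𝒳) (toSelf 𝒳)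
  have hFF := isAlgStack_fp hXX.isStack hXX.diag h h (diag (toSelf 𝒳)) (diag (toSelf 𝒳))
  obtain ⟨G, hG, -, -⟩ := isEquivOver_inverse (isEquivOver_inertiaToFp h.isStack.1 (toSelf 𝒳))
  exact isAlgStack_of_equiv hG hFF

theorem dense_image_of_dense {V : Over S} (y : ofSch V ⥤ᵇ 𝒳) (h : IsAlgStack Scheme.fppfPrecoverage 𝒳)
    (hy : Sj y) (W : V.left.Opens) (hW : Dense (W : Set V.left)) :
    Dense (Set.range (Points.map (BasedFunctor.comp (ofSpMap ((AlgSp.yon S).map (opIncl W))) y))) := by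
  let φ : ↥V.left → Points 𝒳 := fun t => Points.map y (stPt _ (AlgSp.Points.schemeHomeo V t))
  have hφ : Continuous φ := (continuous_map h y).comp ((isHomeomorph_stPt (spY V)).continuous.comp
    (AlgSp.Points.schemeHomeo V).continuous)
  have hsurj : Function.Surjective φ := fun p => by
    obtain ⟨q, rfl⟩ := isSurjective_of_sj h.isStack.1 hy p
    obtain ⟨q, rfl⟩ := stPt_bijective.2 q
    obtain ⟨t, rfl⟩ := (AlgSp.Points.schemeHomeo V).surjective q
    exact ⟨t, rfl⟩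
  refine Dense.mono ?_ (hsurj.denseRange.dense_image hφ hW)
  rintro _ ⟨t, ht, rfl⟩
  refine ⟨stPt _ (AlgSp.Points.schemeHomeo (opOver W) ⟨t, ht⟩), ?_⟩
  rw [points_map_comp]
  exact congrArg (Points.map y) ((stPt_natural _ _).trans
    (congrArg (stPt _) (AlgSp.Points.map_yon_map_apply (opIncl W) _)))

theorem exists_good_dense (h : IsAlgStack Scheme.fppfPrecoverage 𝒳)
    (hI : IsQuasiCompactMor Scheme.fppfPrecoverage (inertiaToBase (toSelf 𝒳)))
    {V : Over S} [IsReduced V.left] {y : ofSch V ⥤ᵇ 𝒳}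
    {F : AlgSp.Space S} {a : F.obj ⟶ (spY V).obj} (ha : AlgSp.LocP @LocallyOfFiniteType a)
    {e : ofSp F.obj ⥤ᵇ fp y (inertiaToBase (toSelf 𝒳))} (he : IsEquivOver e)
    (α : BasedFunctor.comp e (fpFst y (inertiaToBase (toSelf 𝒳))) ≅ ofSpMap a) :
    ∃ W₀ : V.left.Opens, Dense (W₀ : Set V.left) ∧ GoodAlong a (opIncl W₀) := by
  have hIst := isAlgStack_inertia h
  have hgood : ∀ O : V.left.affineOpens, ∃ W : V.left.Opens, GoodAlong a (opIncl W) ∧
      (W : Set V.left) ⊆ O.1 ∧ ((O.1 : Set V.left).Nonempty → (W : Set V.left).Nonempty) := by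
    intro O
    let j := opIncl (U := V) O.1
    haveI : IsAffine (opOver (U := V) O.1).left := O.2
    haveI : IsReduced (opOver (U := V) O.1).left := inferInstanceAs (IsReduced O.1.toScheme)
    let FO : AlgSp.Space S := ⟨pullback a ((AlgSp.yon S).map j), isAlgSpace_pullback_yon F.property a j⟩
    have sq := IsPullback.of_hasPullback a ((AlgSp.yon S).map j)
    have haO : AlgSp.LocP @LocallyOfFiniteType (pullback.snd a ((AlgSp.yon S).map j)) :=
      stableBC_locP _ F.property (AlgSp.IsAlgSpace.yon_obj V) FO.property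
        (AlgSp.IsAlgSpace.yon_obj _) _ _ _ _ sq ha
    obtain ⟨Φ, hΦ, -⟩ := exists_pullback_equiv_space (F := F) (V := spY V) (G := spY (opOver (U := V) O.1)) he α sq
    obtain ⟨Ψ, hΨ, -, -⟩ := isEquivOver_inverse hΦ
    have hTq : IsQuasiCompact (ofSch (S := S) (opOver (U := V) O.1)) :=
      isQuasiCompact_of_equiv (isEquivOver_ofOverCat _) (isQuasiCompact_overCat _)
    haveI := compactSpace_of_isQuasiCompactMor hIst h hI (isDM_ofSp (spY (opOver (U := V) O.1))).1 hTq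
      (BasedFunctor.comp (ofSpMap ((AlgSp.yon S).map j)) y)
    haveI := compactSpace_of_equiv hΨ (isDM_ofSp FO).1
    obtain ⟨W, hW, hWg⟩ := exists_dense_good_affine FO (pullback.snd a ((AlgSp.yon S).map j)) haO inferInstance
    let W' : V.left.Opens := O.1.ι ''ᵁ W
    have hle : (W' : Set V.left) ⊆ O.1 := by
      rintro _ ⟨w, -, rfl⟩
      exact w.2
    refine ⟨W', ?_, hle, fun ⟨o, ho⟩ => ?_⟩
    · have hg : GoodAlong a (opIncl W ≫ j) := by
        obtain ⟨q, -, sqq⟩ := exists_pullback_comp a j (opIncl W)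
        have e1 : pullback.snd a ((AlgSp.yon S).map (opIncl W ≫ j)) = sqq.isoPullback.hom ≫
            pullback.snd (pullback.snd a ((AlgSp.yon S).map j)) ((AlgSp.yon S).map (opIncl W)) :=
          sqq.isoPullback_hom_snd.symm
        haveI := respectsIso_locP (S := S) @Flat
        haveI := respectsIso_locP (S := S) @LocallyOfFinitePresentation
        exact ⟨e1 ▸ (MorphismProperty.cancel_left_of_respectsIso (AlgSp.LocP @Flat) _ _).2 hWg.1,
          e1 ▸ (MorphismProperty.cancel_left_of_respectsIso (AlgSp.LocP @LocallyOfFinitePresentation) _ _).2 hWg.2⟩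
      obtain ⟨l, hl'⟩ := exists_factor_opIncl (U := V) O.1 (opIncl W') (by
        change Set.range W'.ι ⊆ _
        rw [Scheme.Opens.range_ι]
        exact hle)
      obtain ⟨l', hl''⟩ := exists_factor_opIncl W l (by
        rintro _ ⟨t, rfl⟩
        obtain ⟨w, hw, hwt⟩ := t.2
        have e2 : (l.left t).1 = t.1 := congrArg (fun f => f.left t) hl'
        exact (Subtype.ext (hwt.trans e2.symm) : w = l.left t) ▸ hw)
      rw [← hl', ← hl'', Category.assoc]
      exact hg.precomp F.property l'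
    · obtain ⟨w, hw⟩ := hW.nonempty_iff.2 (⟨⟨o, ho⟩⟩ : Nonempty (opOver (U := V) O.1).left)
      exact ⟨_, w, hw, rfl⟩
  choose W hWgood hWsub hWne using hgood
  let W₀ : V.left.Opens := ⨆ O, W O
  have hW₀ : GoodAlong a (opIncl W₀) := goodAlong_iSup F.property a W hWgood
  have hdense : Dense (W₀ : Set V.left) := by
    rw [dense_iff_inter_open]
    rintro A hA ⟨t, ht⟩
    obtain ⟨O, hO, htO, hOA⟩ := exists_isAffineOpen_mem_and_subset (X := V.left) (U := ⟨A, hA⟩) (x := t) ht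
    obtain ⟨w, hw⟩ := hWne ⟨O, hO⟩ ⟨t, htO⟩
    exact ⟨w, hOA (hWsub ⟨O, hO⟩ hw), TopologicalSpace.Opens.mem_iSup.2 ⟨⟨O, hO⟩, hw⟩⟩
  exact ⟨W₀, hdense, hW₀⟩

/-- The substack on the image of an open of a chart over which the inertia is flat is a gerbe. -/
theorem gerbe_of_good (h : IsAlgStack Scheme.fppfPrecoverage 𝒳)
    {V : Over S} {y : ofSch V ⥤ᵇ 𝒳} (hy : Sm y)
    {F : AlgSp.Space S} {a : F.obj ⟶ (spY V).obj}
    {e : ofSp F.obj ⥤ᵇ fp y (inertiaToBase (toSelf 𝒳))} (he : IsEquivOver e)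
    (α : BasedFunctor.comp e (fpFst y (inertiaToBase (toSelf 𝒳))) ≅ ofSpMap a)
    (W₀ : V.left.Opens) (hW₀ : GoodAlong a (opIncl W₀)) :
    let T := Set.range (Points.map (BasedFunctor.comp (ofSpMap ((AlgSp.yon S).map (opIncl W₀))) y))
    IsOpen T ∧ IsOpenSubstack 𝒳 (InPts T) Scheme.fppfPrecoverage ∧
      Gerb.IsAlgGerbe Scheme.fppfPrecoverage (fullSub 𝒳 (InPts T)) ∧
      (IsAffine (opOver W₀).left → IsQuasiCompact (fullSub 𝒳 (InPts T))) := by
  have hX := h.isStack.1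
  let j := ofSpMap ((AlgSp.yon S).map (opIncl W₀))
  let m : ofSch (opOver W₀) ⥤ᵇ 𝒳 := BasedFunctor.comp j y
  haveI : IsOpenImmersion (opIncl W₀).left := inferInstanceAs (IsOpenImmersion W₀.ι)
  have hmf : RepByAlgSpWith (AlgSp.LocP @Flat) m := repByAlgSpWith_locP_comp @Flat (Stk.isFibGrpd_ofPsh _)
    (Stk.isFibGrpd_ofPsh _) (repByAlgSpWith_ofSpMap (stableBC_locP _) (respectsIso_locP _)
      (F := spY (opOver W₀)) (G := spY V) _ ((SpFP87.locP_yon_map_iff _).2 inferInstance)) (rep_flat_of_sm hy)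
  have hmp : RepByAlgSpWith (AlgSp.LocP @LocallyOfFinitePresentation) m :=
    repByAlgSpWith_locP_comp @LocallyOfFinitePresentation (Stk.isFibGrpd_ofPsh _)
      (Stk.isFibGrpd_ofPsh _) (repByAlgSpWith_ofSpMap (stableBC_locP _) (respectsIso_locP _)
        (F := spY (opOver W₀)) (G := spY V) _ ((SpFP87.locP_yon_map_iff _).2 inferInstance)) (rep_lfp_of_sm hy)
  intro T
  have hT : IsOpen T := (isOpenMap_of_flat_lfp hX (U := spY (opOver W₀)) m hmf hmp).isOpen_range
  have hsub := isOpenSubstack_inPts h hT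
  have hmem : ∀ b, InPts T (m.obj b) := fun b => inPts_range_map hX (Stk.isFibGrpd_ofPsh _) m b
  let m' : ofSch (opOver W₀) ⥤ᵇ fullSub 𝒳 (InPts T) := liftSub m hmem
  let incl := subIncl 𝒳 (InPts T)
  have hincl : RepByAlgSp1 incl := repByAlgSp1_of_with hsub.2.2
  have hX' := hsub.2.1.isStack.1
  have hI' := isAlgStack_inertia hsub.2.1
  have hl' := repByAlgSpWith_inertiaToBase hX' (toSelf (fullSub 𝒳 (InPts T))) (lft_diag_toSelf hsub.2.1)
  have hr' := repByAlgSp1_of_with hl'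
  haveI : incl.toFunctor.Full := inferInstanceAs (ObjectProperty.ι (InPts T)).Full
  haveI : incl.toFunctor.Faithful := inferInstanceAs (ObjectProperty.ι (InPts T)).Faithful
  have hm' : ∀ {P : MorphismProperty Scheme.{u}}, RepByAlgSpWith (AlgSp.LocP P) m →
      RepByAlgSpWith (AlgSp.LocP P) m' := fun {P} hP =>
    repByAlgSpWith_of_postcomp_ff (f := m') incl hP
  have hsj : Sj m' := by
    refine sj_of_isSurjective (Stk.isFibGrpd_ofPsh _) hX' (repByAlgSp1_of_with (hm' hmf)) fun p => ?_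
    obtain ⟨q, hq⟩ : Points.map incl p ∈ T :=
      (range_subIncl_inPts T).subset ⟨p, rfl⟩
    refine ⟨q, points_map_injective hX' hX incl ?_⟩
    exact (points_map_comp m' incl q).symm.trans hq
  have hsp : ∀ {P : MorphismProperty (AlgSp.Sp S)}, P (pullback.snd a ((AlgSp.yon S).map (opIncl W₀))) →
      RepSp P (fpFst m' (inertiaToBase (toSelf (fullSub 𝒳 (InPts T))))) := by
    intro P hP
    obtain ⟨Φ, hΦ, ⟨β⟩⟩ := exists_pullback_equiv_space (F := F) (V := spY V) (G := spY (opOver W₀)) he α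
      (IsPullback.of_hasPullback a ((AlgSp.yon S).map (opIncl W₀)))
    refine repSp_inertiaToBase_sub m' ⟨⟨_, isAlgSpace_pullback_yon F.property a (opIncl W₀)⟩, Φ, hΦ, ?_⟩
    exact (congrArg (fun t => P t) ((homOfBased_congr β).trans (homOfBased_ofSpMap _))).mpr hP
  refine ⟨hT, hsub, (isAlgGerbe_iff hsub.2.1).2 ⟨(locQ_iff_repByAlgSpWith smoothLocal_flat (stableBC_locP _) isLocalOnBase_flat hI' hsub.2.1 hr').2
      (repByAlgSpWith_of_repSp_cover hI'.isStack.1 hX' (stableBC_locP _) isLocalOnBase_flat hr' (spY (opOver W₀))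
        m' (hm' hmf) (hm' hmp) hsj (hsp hW₀.1)),
    (locQ_iff_repByAlgSpWith smoothLocal_lfp (stableBC_locP _) isLocalOnBase_lfp hI' hsub.2.1 hr').2
      (repByAlgSpWith_of_repSp_cover hI'.isStack.1 hX' (stableBC_locP _) isLocalOnBase_lfp hr' (spY (opOver W₀))
        m' (hm' hmf) (hm' hmp) hsj (hsp hW₀.2))⟩, fun hA => ?_⟩
  haveI := hA
  exact isQuasiCompact_of_surjective hsub.2.1 (isDM_ofSp (spY (opOver W₀))).1 m'
    (isSurjective_of_sj hX' hsj) (isQuasiCompact_of_equiv (isEquivOver_ofOverCat _) (isQuasiCompact_overCat _))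

theorem exists_gerbe_data (h : IsAlgStack Scheme.fppfPrecoverage 𝒳)
    (hred : SmoothLocally (fun T => IsReduced T) 𝒳)
    (hI : IsQuasiCompactMor Scheme.fppfPrecoverage (inertiaToBase (toSelf 𝒳))) :
    ∃ (V : Over S) (y : ofSch V ⥤ᵇ 𝒳) (F : AlgSp.Space S) (a : F.obj ⟶ (spY V).obj)
      (e : ofSp F.obj ⥤ᵇ fp y (inertiaToBase (toSelf 𝒳))) (W₀ : V.left.Opens),
      Sm y ∧ Sj y ∧ IsEquivOver e ∧
      Nonempty (BasedFunctor.comp e (fpFst y (inertiaToBase (toSelf 𝒳))) ≅ ofSpMap a) ∧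
      Dense (W₀ : Set V.left) ∧ GoodAlong a (opIncl W₀) := by
  have hX := h.isStack.1
  have hl := repByAlgSpWith_inertiaToBase hX (toSelf 𝒳) (lft_diag_toSelf h)
  obtain ⟨V, y, hy, hy'⟩ := exists_space_atlas h
  haveI : IsReduced V.left := of_ofSch hred y hy
  obtain ⟨F, a, e, he, ⟨α⟩, hQ⟩ := exists_space_fp (isAlgStack_inertia h).isStack.1 hX (repByAlgSp1_of_with hl) (spY V) y
  have ha : AlgSp.LocP @LocallyOfFiniteType a := spaceDescends_locP _ F (spY V) a (hQ _ (respectsIso_locP _) hl)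
  obtain ⟨W₀, hd, hg⟩ := exists_good_dense h hI ha he α
  exact ⟨V, y, F, a, e, W₀, hy, hy', he, ⟨α⟩, hd, hg⟩

theorem exists_dense_open_gerbe (h : IsAlgStack Scheme.fppfPrecoverage 𝒳)
    (hred : SmoothLocally (fun T => IsReduced T) 𝒳)
    (hI : IsQuasiCompactMor Scheme.fppfPrecoverage (inertiaToBase (toSelf 𝒳))) :
    ∃ Q : 𝒳.obj → Prop, IsOpenSubstack 𝒳 Q Scheme.fppfPrecoverage ∧
      Dense (Set.range (Points.map (subIncl 𝒳 Q))) ∧
      Gerb.IsAlgGerbe Scheme.fppfPrecoverage (fullSub 𝒳 Q) := by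
  obtain ⟨V, y, F, a, e, W₀, hy, hy', he, ⟨α⟩, hd, hg⟩ := exists_gerbe_data h hred hI
  obtain ⟨-, hsub, hger, -⟩ := gerbe_of_good h hy he α W₀ hg
  refine ⟨_, hsub, ?_, hger⟩
  rw [range_subIncl_inPts]
  exact dense_image_of_dense y h hy' W₀ hd

/-- A nonempty reduced stack with quasi-compact inertia has a nonempty quasi-compact open gerbe. -/
theorem exists_qc_open_gerbe (h : IsAlgStack Scheme.fppfPrecoverage 𝒳)
    (hred : SmoothLocally (fun T => IsReduced T) 𝒳)
    (hI : IsQuasiCompactMor Scheme.fppfPrecoverage (inertiaToBase (toSelf 𝒳)))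
    (hne : Nonempty (Points 𝒳)) :
    ∃ Q : 𝒳.obj → Prop, IsOpenSubstack 𝒳 Q Scheme.fppfPrecoverage ∧
      (Set.range (Points.map (subIncl 𝒳 Q))).Nonempty ∧ IsQuasiCompact (fullSub 𝒳 Q) ∧
      Gerb.IsAlgGerbe Scheme.fppfPrecoverage (fullSub 𝒳 Q) := by
  obtain ⟨V, y, F, a, e, W₀, hy, hy', he, ⟨α⟩, hd, hg⟩ := exists_gerbe_data h hred hI
  obtain ⟨q, -⟩ := isSurjective_of_sj h.isStack.1 hy' hne.some
  obtain ⟨q, rfl⟩ := stPt_bijective.2 q
  obtain ⟨v, rfl⟩ := (AlgSp.Points.schemeHomeo V).surjective q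
  haveI : Nonempty ↥V.left := ⟨v⟩
  obtain ⟨t, ht⟩ := hd.nonempty
  obtain ⟨O, hO, htO, hOW⟩ := exists_isAffineOpen_mem_and_subset (X := V.left) (U := W₀) (x := t) ht
  obtain ⟨l, hl⟩ := exists_factor_opIncl W₀ (opIncl O) (by
    change Set.range O.ι ⊆ _
    rw [Scheme.Opens.range_ι]
    exact hOW)
  obtain ⟨-, hsub, hger, hqc⟩ := gerbe_of_good h hy he α O (hl ▸ hg.precomp F.property l)
  refine ⟨_, hsub, ?_, hqc hO, hger⟩
  rw [range_subIncl_inPts]
  exact ⟨_, stPt _ (AlgSp.Points.schemeHomeo (opOver O) ⟨t, htO⟩), rfl⟩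

end Groth.Agent.Gerb44
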