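import Groth.Agent.Gerb44.FieldTfae
import Groth.Agent.Gerb44.PostFF
import Groth.Agent.AlgSt88.FppfDescent
import Groth.Agent.AlgSt88.Bootstrap
import Groth.Agent.AlgSt88.RepCrit
import Groth.Agent.Fib44.StackFp

/-!
The substack image of a field-valued point of finite type.
-/

set_option autoImplicit false
set_option maxHeartbeats 1000000
set_option linter.style.haveILetI false
set_option backward.isDefEq.respectTransparency false
set_option backward.isDefEq.respectTransparency.types false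
universe u

open CategoryTheory CategoryTheory.Limits AlgebraicGeometry Opposite AlgSt FibCat
open Groth.Agent.AlgSt88

namespace Groth.Agent.Gerb44

variable {S : Scheme.{u}} {𝒵 : AlgSt.Cat S} {K : Over S}

/-- The sieve of maps along which an object is a value of a given point. -/
def liftSieve (hg : IsFibGrpd 𝒵.p) (z : overCat K ⥤ᵇ 𝒵) (ξ : 𝒵.obj) : Sieve (𝒵.p.obj ξ) where
  arrows := fun V f => ∃ (a : (overCat K).obj) (φ : z.obj a ⟶ ξ), 𝒵.p.IsHomLift f φ
  downward_closed := by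
    rintro V W f ⟨a, φ, hφ⟩ g
    haveI := hφ
    have hd : (overCat K).p.obj a = V := (z.w_obj a).symm.trans (IsHomLift.domain_eq 𝒵.p f φ)
    obtain ⟨a', ψ, hψ⟩ := Fib44.exists_lift' (overCat K).p (isFibGrpd_overCat K) hd g
    haveI := hψ
    exact ⟨a', z.map ψ ≫ φ, inferInstance⟩

/-- Objects that are locally values of a given point. -/
def ImageProp (hg : IsFibGrpd 𝒵.p) (z : overCat K ⥤ᵇ 𝒵) (ξ : 𝒵.obj) : Prop :=
  liftSieve hg z ξ ∈ (QuotSh.J Scheme.fppfPrecoverage S) (𝒵.p.obj ξ)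

theorem imageProp_of_hom (hg : IsFibGrpd 𝒵.p) (z : overCat K ⥤ᵇ 𝒵) {y x : 𝒵.obj} (ψ : y ⟶ x)
    (h : ImageProp hg z x) : ImageProp hg z y := by
  refine GrothendieckTopology.superset_covering _ ?_ ((QuotSh.J _ S).pullback_stable (𝒵.p.map ψ) h)
  rintro V f ⟨a, φ, hφ⟩
  haveI := hφ
  haveI := Fib44.isSC_of_fibGrpd 𝒵.p hg (𝒵.p.map ψ) ψ
  exact ⟨a, Functor.IsStronglyCartesian.map 𝒵.p (𝒵.p.map ψ) ψ (f' := f ≫ 𝒵.p.map ψ) (g := f) rfl φ, inferInstance⟩

theorem imageProp_iso (hg : IsFibGrpd 𝒵.p) (z : overCat K ⥤ᵇ 𝒵) :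
    ObjectProperty.IsClosedUnderIsomorphisms (ImageProp hg z) :=
  ⟨fun e h => imageProp_of_hom hg z e.inv h⟩

theorem imageProp_obj (hg : IsFibGrpd 𝒵.p) (z : overCat K ⥤ᵇ 𝒵) (a : (overCat K).obj) :
    ImageProp hg z (z.obj a) := by
  have : liftSieve hg z (z.obj a) = ⊤ := Sieve.id_mem_iff_eq_top.1 ⟨a, 𝟙 _, IsHomLift.id rfl⟩
  unfold ImageProp
  rw [this]
  exact (QuotSh.J _ S).top_mem _

theorem imageProp_local (hg : IsFibGrpd 𝒵.p) (z : overCat K ⥤ᵇ 𝒵) {x : 𝒵.obj} {R : Sieve (𝒵.p.obj x)}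
    (hR : R ∈ (QuotSh.J Scheme.fppfPrecoverage S) (𝒵.p.obj x))
    (h : ∀ ⦃V : Over S⦄ (f : V ⟶ 𝒵.p.obj x), R f → ∀ (y : 𝒵.obj) (φ : y ⟶ x), 𝒵.p.IsHomLift f φ →
      ImageProp hg z y) : ImageProp hg z x := by
  refine (QuotSh.J _ S).transitive hR _ fun V f hf => ?_
  obtain ⟨y, φ, hφ⟩ := Fib44.exists_lift' 𝒵.p hg rfl f
  haveI := hφ
  have hy := h f hf y φ hφ
  have hd : 𝒵.p.obj y = V := IsHomLift.domain_eq 𝒵.p f φ
  subst hd
  refine GrothendieckTopology.superset_covering _ ?_ hy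
  rintro W g ⟨a, ψ, hψ⟩
  haveI := hψ
  exact ⟨a, ψ ≫ φ, inferInstance⟩

theorem isStack_image (h : Stk.IsStack (QuotSh.J Scheme.fppfPrecoverage S) 𝒵) (z : overCat K ⥤ᵇ 𝒵) :
    Stk.IsStack (QuotSh.J Scheme.fppfPrecoverage S) (fullSub 𝒵 (ImageProp h.1 z)) := by
  refine Fib44.isStack_fullSubcategory h (ImageProp h.1 z)
    (fun y x ψ hx => ⟨y, Iso.refl y, imageProp_of_hom h.1 z ψ hx, IsHomLift.id rfl⟩) fun U R hR x hxU hl => ?_
  subst hxU
  refine ⟨x, Iso.refl x, imageProp_local h.1 z hR fun V f hf y φ hφ => ?_, IsHomLift.id rfl⟩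
  obtain ⟨y', e, hy', -⟩ := hl f hf y φ hφ
  exact (imageProp_iso h.1 z).of_iso e.symm hy'

/-- The point as a point of its image. -/
def toImage (hg : IsFibGrpd 𝒵.p) (z : overCat K ⥤ᵇ 𝒵) : overCat K ⥤ᵇ fullSub 𝒵 (ImageProp hg z) where
  toFunctor :=
    { obj := fun a => ⟨z.obj a, imageProp_obj hg z a⟩
      map := fun f => ObjectProperty.homMk (z.map f)
      map_id := fun a => ObjectProperty.hom_ext _ (z.map_id a)
      map_comp := fun f g => ObjectProperty.hom_ext _ (z.map_comp f g) }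
  w := z.w

theorem exists_local_toImage (h : Stk.IsStack (QuotSh.J Scheme.fppfPrecoverage S) 𝒵) (z : overCat K ⥤ᵇ 𝒵)
    (U : Over S) (y : overCat U ⥤ᵇ fullSub 𝒵 (ImageProp h.1 z)) :
    ∃ R ∈ (QuotSh.J Scheme.fppfPrecoverage S) U, ∀ ⦃V : Over S⦄ (f : V ⟶ U), R.arrows f →
      ∃ c : overCat V ⥤ᵇ overCat K,
        Nonempty (BasedFunctor.comp c (toImage h.1 z) ≅ BasedFunctor.comp (overMap f) y) := by
  have hI := (isStack_image h z).1
  let ξ := y.obj (Fib44.idObj U)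
  have hξ : 𝒵.p.obj ξ.obj = U := y.w_obj (Fib44.idObj U)
  refine ⟨(liftSieve h.1 z ξ.obj).pullback (eqToHom hξ.symm),
    (QuotSh.J _ S).pullback_stable _ ξ.property, fun V f hf => ?_⟩
  obtain ⟨a, φ, hφ⟩ := hf
  haveI := hφ
  have hd : a.left = V := (z.w_obj a).symm.trans (IsHomLift.domain_eq 𝒵.p (f ≫ eqToHom hξ.symm) φ)
  subst hd
  refine ⟨overMap a.hom, nonempty_iso_of_lift hI (BasedFunctor.comp (overMap a.hom) (toImage h.1 z)) y f ?g ?_⟩
  · let m0 : (overMap a.hom).obj (Fib44.idObj a.left) ⟶ a :=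
      Over.homMk (𝟙 a.left) (by simp [overMap, Fib44.idObj])
    exact (toImage h.1 z).map m0 ≫ (ObjectProperty.homMk φ : (toImage h.1 z).obj a ⟶ ξ)
  · refine IsHomLift.of_fac' _ _ _ ((toImage h.1 z).w_obj _) hξ ?_
    have h1 := IsHomLift.fac' 𝒵.p (f ≫ eqToHom hξ.symm) φ
    change 𝒵.p.map (z.map _ ≫ φ) = _
    rw [Functor.map_comp, h1, p_map_eq]
    simp [overCat]
    rfl

/-- The inclusion of the image. -/
abbrev imageIncl (hg : IsFibGrpd 𝒵.p) (z : overCat K ⥤ᵇ 𝒵) : fullSub 𝒵 (ImageProp hg z) ⥤ᵇ 𝒵 :=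
  subIncl 𝒵 (ImageProp hg z)

instance full_imageIncl (hg : IsFibGrpd 𝒵.p) (z : overCat K ⥤ᵇ 𝒵) : (imageIncl hg z).toFunctor.Full :=
  inferInstanceAs (ObjectProperty.ι (ImageProp hg z)).Full

instance faithful_imageIncl (hg : IsFibGrpd 𝒵.p) (z : overCat K ⥤ᵇ 𝒵) : (imageIncl hg z).toFunctor.Faithful :=
  inferInstanceAs (ObjectProperty.ι (ImageProp hg z)).Faithful

variable {k : Type u} [Field k] {str : Spec (CommRingCat.of k) ⟶ S}

theorem repFppf_fpFst_self (h : IsAlgStack Scheme.fppfPrecoverage 𝒵) (z : overCat (Over.mk str) ⥤ᵇ 𝒵)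
    (hl : RepByAlgSpWith (AlgSp.LocP @LocallyOfFiniteType) z) : RepFppf (fpFst z z) := by
  have hY := h.isStack.1
  have hK := isFibGrpd_overCat (Over.mk str)
  have hg := isFibGrpd_fp hK hK hY z z
  obtain ⟨F, e, he⟩ := repByAlgSp1_of_diag hY h.diag hK (repByAlgSp_overCat _) (repByAlgSp_overCat _) z z
  refine ⟨(repByAlgSpWith_precomp_equiv he).1 (repFlat_to_field _), ?_, ?_⟩
  · refine lfp_of_lft (isAlgStack_overCat _) ?_ hg (repByAlgSpWith_fpFst z hl)
    exact smoothLocally_noetherian_of_field (isAlgStack_overCat _) (z := BasedFunctor.id _)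
      ⟨rep_flat_of_sm (sm_equiv (isEquivOver_id _)), rep_lfp_of_sm (sm_equiv (isEquivOver_id _)),
        sj_equiv (isEquivOver_id _)⟩
  · refine sj_of_isSurjective hg hK (repByAlgSp1_fpFst z (repByAlgSp1_overCat h z)) ?_
    let i : overCat (Over.mk str) ⥤ᵇ overCat (Over.mk str) := BasedFunctor.id (overCat (Over.mk str))
    let d : overCat (Over.mk str) ⥤ᵇ fp z z := fpLift i i (Iso.refl (BasedFunctor.comp i z))
    exact surjective_of_comp (a := d) (b := fpFst z z) (fun p => ⟨p, points_map_id p⟩)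

theorem repFppf_toImage (h : IsAlgStack Scheme.fppfPrecoverage 𝒵) (z : overCat (Over.mk str) ⥤ᵇ 𝒵)
    (hl : RepByAlgSpWith (AlgSp.LocP @LocallyOfFiniteType) z) : RepFppf (toImage h.isStack.1 z) := by
  have hI := (isStack_image h.isStack z).1
  have hK := isFibGrpd_overCat (Over.mk str)
  have hr : RepByAlgSp1 (toImage h.isStack.1 z) := repByAlgSpWith_top_iff.1
    (repByAlgSpWith_of_postcomp_ff (imageIncl h.isStack.1 z)
      (repByAlgSpWith_of_iso (f := z) (Iso.refl _) (repByAlgSpWith_top_iff.2 (repByAlgSp1_overCat h z))))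
  have hR := repFppf_fpFst_self h z hl
  let z' := toImage h.isStack.1 z
  let P := fpPost z' z' (imageIncl h.isStack.1 z)
  have hP : IsEquivOver P := isEquivOver_fpPost_ff z' z' (imageIncl h.isStack.1 z)
  have tr : ∀ {Q : MorphismProperty (AlgSp.Sp S)}, RepByAlgSpWith Q (fpFst z z) → RepByAlgSpWith Q (fpFst z' z') :=
    fun hQ => repByAlgSpWith_of_iso (f := BasedFunctor.comp P (fpFst z z)) (Iso.refl _)
      ((repByAlgSpWith_precomp_equiv hP).2 hQ)
  have hl' := exists_local_toImage h.isStack z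
  exact ⟨repByAlgSpWith_of_fpFst_locally hK hI isLocalOnBase_flat hr hl' (tr hR.flat),
    repByAlgSpWith_of_fpFst_locally hK hI isLocalOnBase_lfp hr hl' (tr hR.lfp),
    repByAlgSpWith_of_fpFst_locally hK hI isLocalOnBase_surj hr hl' (tr hR.surj)⟩

theorem isAlgStack_image (h : IsAlgStack Scheme.fppfPrecoverage 𝒵) (z : overCat (Over.mk str) ⥤ᵇ 𝒵)
    (hl : RepByAlgSpWith (AlgSp.LocP @LocallyOfFiniteType) z) :
    IsAlgStack Scheme.fppfPrecoverage (fullSub 𝒵 (ImageProp h.isStack.1 z)) := by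
  have hY := h.isStack.1
  have hIs := isStack_image h.isStack z
  have hI := hIs.1
  obtain ⟨V, v, hv, hv'⟩ := exists_space_atlas h
  let ι := imageIncl hY z
  let g : fp v (BasedFunctor.comp (toImage hY z) ι) ⥤ᵇ fp v ι := fpMapSnd v ι (toImage hY z)
  have hz := repFppf_toImage h z hl
  obtain ⟨G, e, he⟩ := repByAlgSp1_of_diag hY h.diag (isFibGrpd_overCat _) (repByAlgSp_ofSp (spY V))
    (repByAlgSp_overCat _) v (BasedFunctor.comp (toImage hY z) ι)
  have hg : ∀ {Q : MorphismProperty (AlgSp.Sp S)}, RepByAlgSpWith Q (toImage hY z) →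
      RepByAlgSpWith Q (BasedFunctor.comp e g) := fun hQ =>
    (repByAlgSpWith_precomp_equiv he).2 (repByAlgSpWith_fpMapSnd v ι hQ)
  have hH : Stk.IsStack (QuotSh.J Scheme.fppfPrecoverage S) (fp v ι) :=
    Fib44.isStack_fp (isDM_ofSp (spY V)).1.isStack hIs (Fib44.isPrestack_of_isStack h.isStack)
  have thin : ∀ {a b : (fp v ι).obj} (f f' : a ⟶ b), (fp v ι).p.map f = (fp v ι).p.map f' → f = f' := by
    intro a b f f' hff
    have h1 : f.hom.fst = f'.hom.fst := Stk.EltObj.hom_ext hff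
    refine fpHom_ext h1 (ι.toFunctor.map_injective ((cancel_epi a.obj.iso.hom).1 ?_))
    rw [← f.hom.w, ← f'.hom.w, h1]
  obtain ⟨W, w, hw⟩ := repByAlgSp_of_setoid_cover hH thin G (BasedFunctor.comp e g) (hg hz.flat) (hg hz.lfp) (hg hz.surj)
  exact isAlgStack_of_chart hIs W (BasedFunctor.comp w (fpSnd v ι))
    ((repByAlgSpWith_precomp_equiv hw).2 (repByAlgSpWith_fpSnd ι hv))
    ((repByAlgSpWith_precomp_equiv hw).2 (repByAlgSpWith_fpSnd ι hv'))

theorem isMono_imageIncl (h : IsAlgStack Scheme.fppfPrecoverage 𝒵) (z : overCat (Over.mk str) ⥤ᵇ 𝒵)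
    (hl : RepByAlgSpWith (AlgSp.LocP @LocallyOfFiniteType) z) : AlgSt.IsMono (imageIncl h.isStack.1 z) :=
  isMono_of_fullyFaithful (isAlgStack_image h z hl) h

end Groth.Agent.Gerb44
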