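import Groth.Agent.Gerb44.FieldImage
import Groth.Agent.AlgSt88.ImageSubstack
import Groth.Agent.AlgSt88.Invar

/-!
Residual gerbes.
-/

set_option autoImplicit false
set_option maxHeartbeats 1000000
set_option linter.style.haveILetI false
set_option backward.isDefEq.respectTransparency false
set_option backward.isDefEq.respectTransparency.types false
universe u

open CategoryTheory CategoryTheory.Limits AlgebraicGeometry Opposite AlgSt FibCat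
open Groth.Agent.AlgSt88

namespace Groth.Agent.Gerb44

variable {S : Scheme.{u}} {𝒳 𝒴 𝒵 : AlgSt.Cat S}

/-- Existence of a point `Spec k ⟶ 𝒵` which is flat, surjective and of finite presentation. -/
def HasFppfPoint (𝒵 : AlgSt.Cat S) : Prop :=
  ∃ (k : Type u) (_ : Field k) (a : Spec (CommRingCat.of k) ⟶ S) (z : overCat (Over.mk a) ⥤ᵇ 𝒵), RepFppf z

theorem hasFppfPoint_of_props (h : IsAlgStack Scheme.fppfPrecoverage 𝒵)
    (hr : SmoothLocally (fun T => IsReduced T) 𝒵) (hn : SmoothLocally (fun T => IsLocallyNoetherian T) 𝒵)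
    (hne : Nonempty (Points 𝒵)) (hsub : Subsingleton (Points 𝒵)) : HasFppfPoint 𝒵 := by
  obtain ⟨k, _, a, z, hp, hs, hf⟩ := (reduced_noetherian_singleton_iff h).1 ⟨hr, hn, hne, hsub⟩
  exact ⟨k, inferInstance, a, z, hf, hp, hs⟩

theorem props_of_hasFppfPoint (h : IsAlgStack Scheme.fppfPrecoverage 𝒵) (hz : HasFppfPoint 𝒵) :
    SmoothLocally (fun T => IsReduced T) 𝒵 ∧ SmoothLocally (fun T => IsLocallyNoetherian T) 𝒵 ∧
      Nonempty (Points 𝒵) ∧ Subsingleton (Points 𝒵) := by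
  obtain ⟨k, _, a, z, hf, hp, hs⟩ := hz
  exact (reduced_noetherian_singleton_iff h).2 ⟨k, inferInstance, a, z, hp, hs, hf⟩

instance full_subIncl (Q : 𝒳.obj → Prop) : (subIncl 𝒳 Q).toFunctor.Full :=
  inferInstanceAs (ObjectProperty.ι Q).Full

instance faithful_subIncl (Q : 𝒳.obj → Prop) : (subIncl 𝒳 Q).toFunctor.Faithful :=
  inferInstanceAs (ObjectProperty.ι Q).Faithful

theorem isMono_subIncl (h : IsAlgStack Scheme.fppfPrecoverage 𝒳) {Q : 𝒳.obj → Prop}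
    (hQ : IsAlgStack Scheme.fppfPrecoverage (fullSub 𝒳 Q)) : AlgSt.IsMono (subIncl 𝒳 Q) :=
  isMono_of_fullyFaithful hQ h

/-- A morphism maps a substack with an fppf field point into any substack meeting the image of the point. -/
theorem map_prop (h𝒳 : IsAlgStack Scheme.fppfPrecoverage 𝒳) (h𝒴 : IsAlgStack Scheme.fppfPrecoverage 𝒴)
    (f : 𝒳 ⥤ᵇ 𝒴) {Q : 𝒳.obj → Prop} (hQ : IsAlgStack Scheme.fppfPrecoverage (fullSub 𝒳 Q))
    (hz : HasFppfPoint (fullSub 𝒳 Q)) {Q' : 𝒴.obj → Prop} (hQ'c : ObjectProperty.IsClosedUnderIsomorphisms Q')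
    (hQ' : IsAlgStack Scheme.fppfPrecoverage (fullSub 𝒴 Q'))
    (hx : ∀ q : Points (fullSub 𝒳 Q), ∃ q' : Points (fullSub 𝒴 Q'),
      Points.map (subIncl 𝒴 Q') q' = Points.map f (Points.map (subIncl 𝒳 Q) q))
    {ξ : 𝒳.obj} (hξ : Q ξ) : Q' (f.obj ξ) := by
  obtain ⟨k, _, a, z, hz⟩ := hz
  haveI : Nonempty ↥(Over.mk a).left := inferInstanceAs (Nonempty (PrimeSpectrum k))
  let t := (nonempty_points_overCat (T := Over.mk a)).some
  let w : overCat (Over.mk a) ⥤ᵇ 𝒴 := BasedFunctor.comp z (BasedFunctor.comp (subIncl 𝒳 Q) f)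
  obtain ⟨q', hq'⟩ := hx (Points.map z t)
  have hw : Points.map (subIncl 𝒴 Q') q' = Points.map w t := by
    rw [hq', points_map_comp z (BasedFunctor.comp (subIncl 𝒳 Q) f), points_map_comp (subIncl 𝒳 Q) f]
  obtain ⟨q, ⟨α⟩⟩ := exists_factor_field hQ'.isStack.1 h𝒴.isStack.1 (isMono_subIncl h𝒴 hQ') w hw
  obtain ⟨z1, z2, z3⟩ := hz.locQ (isAlgStack_overCat _) hQ
  obtain ⟨R, hR, hl⟩ := locSurjObj_of_flat_lfp_surjective (isAlgStack_overCat _) hQ z1 z2 z3 ⟨ξ, hξ⟩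
  obtain ⟨x, k', -⟩ := exists_preimage_of_locally hQ'.isStack (Fib44.isPrestack_of_isStack h𝒴.isStack)
    (subIncl 𝒴 Q') (f.obj ξ) ⟨R.pullback (eqToHom (f.w_obj ξ)), (QuotSh.J _ S).pullback_stable _ hR,
      fun V g hg => by
        obtain ⟨b, φ, hφ⟩ := hl (g ≫ eqToHom (f.w_obj ξ)) hg
        haveI := hφ
        have hφ' : 𝒳.p.IsHomLift (g ≫ eqToHom (f.w_obj ξ)) φ.hom :=
          (subIncl 𝒳 Q).preserves_isHomLift (g ≫ eqToHom (f.w_obj ξ)) φ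
        have h1 : 𝒴.p.IsHomLift (g ≫ eqToHom (f.w_obj ξ)) (f.map φ.hom) := inferInstance
        have hd : 𝒴.p.obj (f.obj (z.obj b).obj) = V :=
          IsHomLift.domain_eq 𝒴.p (g ≫ eqToHom (f.w_obj ξ)) (f.map φ.hom)
        haveI h2 : 𝒴.p.IsHomLift g (f.map φ.hom) := IsHomLift.of_fac' _ _ _ hd rfl (by
          rw [IsHomLift.fac' 𝒴.p (g ≫ eqToHom (f.w_obj ξ)) (f.map φ.hom)]
          simp)
        haveI : 𝒴.p.IsHomLift (𝟙 V) (α.hom.toNatTrans.app b) :=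
          α.hom.isHomLift ((w.w_obj b).symm.trans hd)
        exact ⟨q.obj b, (α.hom.toNatTrans.app b :
          (subIncl 𝒴 Q').obj (q.obj b) ⟶ f.obj (z.obj b).obj) ≫ f.map φ.hom, inferInstance⟩⟩
  exact hQ'c.of_iso k' x.property

/-- The corestriction of a point. -/
theorem hasFppfPoint_image (h : IsAlgStack Scheme.fppfPrecoverage 𝒵) {k : Type u} [Field k]
    {a : Spec (CommRingCat.of k) ⟶ S} (z : overCat (Over.mk a) ⥤ᵇ 𝒵)
    (hl : RepByAlgSpWith (AlgSp.LocP @LocallyOfFiniteType) z) :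
    HasFppfPoint (fullSub 𝒵 (ImageProp h.isStack.1 z)) :=
  ⟨k, inferInstance, a, toImage h.isStack.1 z, repFppf_toImage h z hl⟩

theorem existsUnique_fppf_image (h : IsAlgStack Scheme.fppfPrecoverage 𝒵) {k : Type u} [Field k]
    {a : Spec (CommRingCat.of k) ⟶ S} {z : overCat (Over.mk a) ⥤ᵇ 𝒵} (hzs : Sj z) :
    ∃ Q : 𝒵.obj → Prop,
      (ObjectProperty.IsClosedUnderIsomorphisms Q ∧ IsAlgStack Scheme.fppfPrecoverage (fullSub 𝒵 Q) ∧
        HasFppfPoint (fullSub 𝒵 Q) ∧ AlgSt.IsMono (subIncl 𝒵 Q)) ∧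
      ∀ Q' : 𝒵.obj → Prop, ObjectProperty.IsClosedUnderIsomorphisms Q' →
        IsAlgStack Scheme.fppfPrecoverage (fullSub 𝒵 Q') → HasFppfPoint (fullSub 𝒵 Q') → ∀ ξ, Q' ξ ↔ Q ξ := by
  haveI : Nonempty ↥(Over.mk a).left := inferInstanceAs (Nonempty (PrimeSpectrum k))
  haveI : Nonempty (Points 𝒵) := ⟨Points.map z (nonempty_points_overCat (T := Over.mk a)).some⟩
  have hsub := subsingleton_points_of_surj h.isStack.1 z hzs
  obtain ⟨k', _, a', z', hz'⟩ := exists_lft_point h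
  have hQ := isAlgStack_image h z' hz'
  have hp := hasFppfPoint_image h z' hz'
  refine ⟨ImageProp h.isStack.1 z', ⟨imageProp_iso _ z', hQ, hp, isMono_imageIncl h z' hz'⟩,
    fun Q' hc hQ' hp' ξ => ?_⟩
  obtain ⟨-, -, ⟨p⟩, -⟩ := props_of_hasFppfPoint hQ hp
  obtain ⟨-, -, ⟨p'⟩, -⟩ := props_of_hasFppfPoint hQ' hp'
  exact ⟨map_prop h h (BasedFunctor.id 𝒵) hQ' hp' (imageProp_iso _ z') hQ fun _ => ⟨p, Subsingleton.elim _ _⟩,
    map_prop h h (BasedFunctor.id 𝒵) hQ hp hc hQ' fun _ => ⟨p', Subsingleton.elim _ _⟩⟩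

/-- The essential image of a monomorphism from a stack with an fppf field point is a residual gerbe. -/
theorem isResGerbe_essIm (h𝒳 : IsAlgStack Scheme.fppfPrecoverage 𝒳) (h𝒵 : IsAlgStack Scheme.fppfPrecoverage 𝒵)
    {g : 𝒵 ⥤ᵇ 𝒳} (hg : AlgSt.IsMono g) (hz : HasFppfPoint 𝒵) {x : Points 𝒳}
    (hx : ∀ p, Points.map g p = x) :
    Gerb.IsResGerbe Scheme.fppfPrecoverage 𝒳 x (EssIm g) ∧ IsEquivOver (toEssIm g) := by
  haveI := full_of_isMono h𝒵.isStack.1 h𝒳.isStack.1 hg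
  haveI := faithful_of_isMono h𝒵.isStack.1 h𝒳.isStack.1 hg
  have he := isEquivOver_toEssIm h𝒵.isStack.1 h𝒳.isStack.1 g
  have ha := isAlgStack_of_equiv he h𝒵
  obtain ⟨k, _, a, z, hz⟩ := hz
  have hp : HasFppfPoint (fullSub 𝒳 (EssIm g)) := ⟨k, inferInstance, a, BasedFunctor.comp z (toEssIm g),
    (repByAlgSpWith_postcomp_equiv he).2 hz.flat, (repByAlgSpWith_postcomp_equiv he).2 hz.lfp,
    (repByAlgSpWith_postcomp_equiv he).2 hz.surj⟩
  obtain ⟨h1, h2, h3, h4⟩ := props_of_hasFppfPoint ha hp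
  refine ⟨⟨⟨fun e ⟨w, ⟨ι⟩⟩ => ⟨w, ⟨ι ≪≫ e⟩⟩⟩, ha, h1, h2, h3, h4, fun p => ?_⟩, he⟩
  obtain ⟨p, rfl⟩ := (points_map_bijective he).2 p
  rw [← points_map_comp]
  exact hx p

theorem resGerbe_unique (h : IsAlgStack Scheme.fppfPrecoverage 𝒳) {x : Points 𝒳} {Q Q' : 𝒳.obj → Prop}
    (hQ : Gerb.IsResGerbe Scheme.fppfPrecoverage 𝒳 x Q) (hQ' : Gerb.IsResGerbe Scheme.fppfPrecoverage 𝒳 x Q')
    (ξ : 𝒳.obj) : Q' ξ ↔ Q ξ := by
  obtain ⟨hc, ha, hr, hn, hne, hsub, hx⟩ := hQ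
  obtain ⟨hc', ha', hr', hn', hne', hsub', hx'⟩ := hQ'
  obtain ⟨p⟩ := hne
  obtain ⟨p'⟩ := hne'
  exact ⟨map_prop h h (BasedFunctor.id 𝒳) ha' (hasFppfPoint_of_props ha' hr' hn' ⟨p'⟩ hsub') hc ha
      fun q => ⟨p, (hx p).trans ((hx' q).symm.trans (points_map_id _).symm)⟩,
    map_prop h h (BasedFunctor.id 𝒳) ha (hasFppfPoint_of_props ha hr hn ⟨p⟩ hsub) hc' ha'
      fun q => ⟨p', (hx' p').trans ((hx q).symm.trans (points_map_id _).symm)⟩⟩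

theorem resGerbeExists_tfae (h : IsAlgStack Scheme.fppfPrecoverage 𝒳) (x : Points 𝒳) :
    [Gerb.ResGerbeExists Scheme.fppfPrecoverage 𝒳 x,
      ∃ (𝒵 : AlgSt.Cat S) (f : 𝒵 ⥤ᵇ 𝒳), IsAlgStack Scheme.fppfPrecoverage 𝒵 ∧
        SmoothLocally (fun T => IsReduced T) 𝒵 ∧ AlgSt.IsMono f ∧
        Nonempty (Points 𝒵) ∧ Subsingleton (Points 𝒵) ∧ ∀ p, Points.map f p = x,
      ∃ (𝒵 : AlgSt.Cat S) (f : 𝒵 ⥤ᵇ 𝒳) (k : Type u) (_ : Field k) (a : Spec (CommRingCat.of k) ⟶ S)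
        (z : overCat (Over.mk a) ⥤ᵇ 𝒵), IsAlgStack Scheme.fppfPrecoverage 𝒵 ∧ AlgSt.IsMono f ∧
        RepByAlgSpWith AlgSp.IsSurjectiveMor z ∧ RepByAlgSpWith (AlgSp.LocP @Flat) z ∧
        ∀ t : ↥(Over.mk a).left, Points.map f (Points.ofChart z t) = x].TFAE := by
  tfae_have 1 → 3 := by
    rintro ⟨𝒵, i, h𝒵, hi, hne, -, hx⟩
    haveI := hne
    obtain ⟨k, _, a, z, hz⟩ := exists_lft_point h𝒵
    have hz' := repFppf_toImage h𝒵 z hz
    refine ⟨_, BasedFunctor.comp (imageIncl h𝒵.isStack.1 z) i, k, inferInstance, a, toImage h𝒵.isStack.1 z,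
      isAlgStack_image h𝒵 z hz,
      isMono_comp (isStack_image h𝒵.isStack z).1 h𝒵.isStack.1 (isMono_imageIncl h𝒵 z hz) hi,
      hz'.surj, hz'.flat, fun t => ?_⟩
    rw [points_map_comp]
    exact hx _
  tfae_have 3 → 2 := by
    rintro ⟨𝒵, f, k, _, a, z, h𝒵, hf, hs, hfl, hx⟩
    have e10 := (reduced_singleton_tfae h𝒵).out 1 0
    obtain ⟨h1, h2, h3⟩ := e10.1 ⟨k, inferInstance, a, z, hs, hfl⟩
    exact ⟨𝒵, f, h𝒵, h1, hf, h2, h3, fun p =>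
      (congrArg (Points.map f) (Subsingleton.elim p _)).trans (hx (Classical.arbitrary (PrimeSpectrum k)))⟩
  tfae_have 2 → 1 := fun ⟨𝒵, f, h1, _, h3, h4, h5, h6⟩ => ⟨𝒵, f, h1, h3, h4, h5, h6⟩
  tfae_finish

theorem existsUnique_isResGerbe (h𝒳 : IsAlgStack Scheme.fppfPrecoverage 𝒳) {x : Points 𝒳}
    (h𝒵 : IsAlgStack Scheme.fppfPrecoverage 𝒵) (hne : Nonempty (Points 𝒵))
    {f : 𝒵 ⥤ᵇ 𝒳} (hf : AlgSt.IsMono f) (hfx : ∀ p : Points 𝒵, Points.map f p = x) :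
    ∃ Q : 𝒳.obj → Prop, Gerb.IsResGerbe Scheme.fppfPrecoverage 𝒳 x Q ∧
      ∀ Q' : 𝒳.obj → Prop, Gerb.IsResGerbe Scheme.fppfPrecoverage 𝒳 x Q' → ∀ ξ, Q' ξ ↔ Q ξ := by
  haveI := hne
  obtain ⟨k, _, a, z, hz⟩ := exists_lft_point h𝒵
  obtain ⟨hQ, -⟩ := isResGerbe_essIm h𝒳 (isAlgStack_image h𝒵 z hz)
    (isMono_comp (isStack_image h𝒵.isStack z).1 h𝒵.isStack.1 (isMono_imageIncl h𝒵 z hz) hf)
    (hasFppfPoint_image h𝒵 z hz) (x := x) fun p => by rw [points_map_comp]; exact hfx _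
  exact ⟨_, hQ, fun Q' hQ' => resGerbe_unique h𝒳 hQ hQ'⟩

theorem factors_of_isResGerbe (h : IsAlgStack Scheme.fppfPrecoverage 𝒳) {x : Points 𝒳} {Q : 𝒳.obj → Prop}
    (hQ : Gerb.IsResGerbe Scheme.fppfPrecoverage 𝒳 x Q) {K : Type u} [Field K]
    {a : Spec (CommRingCat.of K) ⟶ S} (p : overCat (Over.mk a) ⥤ᵇ 𝒳)
    (hp : ∀ t : ↥(Over.mk a).left, Points.ofChart p t = x) :
    ∃ q : overCat (Over.mk a) ⥤ᵇ fullSub 𝒳 Q, Nonempty (BasedFunctor.comp q (subIncl 𝒳 Q) ≅ p) := by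
  obtain ⟨-, ha, -, -, hne, -, hx⟩ := hQ
  obtain ⟨z⟩ := hne
  haveI : Subsingleton ↥(Over.mk a).left := inferInstanceAs (Subsingleton (PrimeSpectrum K))
  haveI : Nonempty ↥(Over.mk a).left := inferInstanceAs (Nonempty (PrimeSpectrum K))
  haveI := subsingleton_points_overCat (T := Over.mk a) (S := S)
  let t := (nonempty_points_overCat (T := Over.mk a)).some
  refine exists_factor_field ha.isStack.1 h.isStack.1 (isMono_subIncl h ha) p (t := t) (x := z) ?_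
  let t₀ : ↥(Over.mk a).left := Classical.arbitrary _
  let o : FPt (overCat (Over.mk a)) :=
    { K := ↥((Over.mk a).left.residueField t₀)
      str := (Over.mk a).left.fromSpecResidueField t₀ ≫ (Over.mk a).hom
      obj := Over.mk (Over.homMk ((Over.mk a).left.fromSpecResidueField t₀) rfl :
        Over.mk ((Over.mk a).left.fromSpecResidueField t₀ ≫ (Over.mk a).hom) ⟶ Over.mk a)
      lies := rfl }
  rw [hx z, ← hp t₀]
  exact congrArg (Points.map p) (Subsingleton.elim (Points.mk o) t)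

theorem exists_map_resGerbe (h𝒳 : IsAlgStack Scheme.fppfPrecoverage 𝒳) (h𝒴 : IsAlgStack Scheme.fppfPrecoverage 𝒴)
    (f : 𝒳 ⥤ᵇ 𝒴) {x : Points 𝒳} {Q : 𝒳.obj → Prop} (hQ : Gerb.IsResGerbe Scheme.fppfPrecoverage 𝒳 x Q)
    {Q' : 𝒴.obj → Prop} (hQ' : Gerb.IsResGerbe Scheme.fppfPrecoverage 𝒴 (Points.map f x) Q') :
    ∃ g : fullSub 𝒳 Q ⥤ᵇ fullSub 𝒴 Q',
      Nonempty (BasedFunctor.comp g (subIncl 𝒴 Q') ≅ BasedFunctor.comp (subIncl 𝒳 Q) f) := by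
  obtain ⟨-, ha, hr, hn, hne, hsub, hx⟩ := hQ
  obtain ⟨hc', ha', -, -, hne', -, hx'⟩ := hQ'
  obtain ⟨p'⟩ := hne'
  have hm : ∀ ξ : (fullSub 𝒳 Q).obj, Q' (f.obj ξ.obj) := fun ξ =>
    map_prop h𝒳 h𝒴 f ha (hasFppfPoint_of_props ha hr hn hne hsub) hc' ha'
      (fun q => ⟨p', (hx' p').trans (congrArg (Points.map f) (hx q)).symm⟩) ξ.property
  let g : fullSub 𝒳 Q ⥤ᵇ fullSub 𝒴 Q' :=
    { toFunctor :=
        { obj := fun ξ => ⟨f.obj ξ.obj, hm ξ⟩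
          map := fun t => ObjectProperty.homMk (f.map t.hom)
          map_id := fun ξ => ObjectProperty.hom_ext _ (f.map_id ξ.obj)
          map_comp := fun s t => ObjectProperty.hom_ext _ (f.map_comp s.hom t.hom) }
      w := by
        refine CategoryTheory.Functor.ext (fun ξ => f.w_obj ξ.obj) fun ξ η t => ?_
        exact p_map_eq f t.hom }
  exact ⟨g, ⟨BasedNatIso.mkNatIso (NatIso.ofComponents (fun ξ => Iso.refl _) (fun {_ _} t =>
    (Category.comp_id _).trans (Category.id_comp _).symm)) (fun ξ => IsHomLift.id (f.w_obj ξ.obj))⟩⟩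

end Groth.Agent.Gerb44
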