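import Groth.Agent.Gerb44.FieldImage
import Groth.Agent.Gerb44.ResGerbe

/-!
The substack image of a field-valued point whose self-product is of finite type over the field.
-/

set_option autoImplicit false
set_option maxHeartbeats 1000000
set_option linter.style.haveILetI false
set_option backward.isDefEq.respectTransparency false
set_option backward.isDefEq.respectTransparency.types false
universe u

open CategoryTheory CategoryTheory.Limits AlgebraicGeometry Opposite AlgSt FibCat
open Groth.Agent.AlgSt88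

namespace Groth.Agent.Gerb44

variable {S : Scheme.{u}} {𝒵 : AlgSt.Cat S}
variable {k : Type u} [Field k] {str : Spec (CommRingCat.of k) ⟶ S}

theorem repFppf_fpFst_self₂ (h : IsAlgStack Scheme.fppfPrecoverage 𝒵) (z : overCat (Over.mk str) ⥤ᵇ 𝒵)
    (hl : RepByAlgSpWith (AlgSp.LocP @LocallyOfFiniteType) (fpFst z z)) : RepFppf (fpFst z z) := by
  have hY := h.isStack.1
  have hK := isFibGrpd_overCat (Over.mk str)
  have hg := isFibGrpd_fp hK hK hY z z
  obtain ⟨F, e, he⟩ := repByAlgSp1_of_diag hY h.diag hK (repByAlgSp_overCat _) (repByAlgSp_overCat _) z z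
  refine ⟨(repByAlgSpWith_precomp_equiv he).1 (repFlat_to_field _), ?_, ?_⟩
  · refine lfp_of_lft (isAlgStack_overCat _) ?_ hg hl
    exact smoothLocally_noetherian_of_field (isAlgStack_overCat _) (z := BasedFunctor.id _)
      ⟨rep_flat_of_sm (sm_equiv (isEquivOver_id _)), rep_lfp_of_sm (sm_equiv (isEquivOver_id _)),
        sj_equiv (isEquivOver_id _)⟩
  · refine sj_of_isSurjective hg hK (repByAlgSp1_fpFst z (repByAlgSp1_overCat h z)) ?_
    let i : overCat (Over.mk str) ⥤ᵇ overCat (Over.mk str) := BasedFunctor.id (overCat (Over.mk str))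
    let d : overCat (Over.mk str) ⥤ᵇ fp z z := fpLift i i (Iso.refl (BasedFunctor.comp i z))
    exact surjective_of_comp (a := d) (b := fpFst z z) (fun p => ⟨p, points_map_id p⟩)

theorem repFppf_toImage₂ (h : IsAlgStack Scheme.fppfPrecoverage 𝒵) (z : overCat (Over.mk str) ⥤ᵇ 𝒵)
    (hl : RepByAlgSpWith (AlgSp.LocP @LocallyOfFiniteType) (fpFst z z)) : RepFppf (toImage h.isStack.1 z) := by
  have hI := (isStack_image h.isStack z).1
  have hK := isFibGrpd_overCat (Over.mk str)
  have hr : RepByAlgSp1 (toImage h.isStack.1 z) := repByAlgSpWith_top_iff.1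
    (repByAlgSpWith_of_postcomp_ff (imageIncl h.isStack.1 z)
      (repByAlgSpWith_of_iso (f := z) (Iso.refl _) (repByAlgSpWith_top_iff.2 (repByAlgSp1_overCat h z))))
  have hR := repFppf_fpFst_self₂ h z hl
  let z' := toImage h.isStack.1 z
  let P := fpPost z' z' (imageIncl h.isStack.1 z)
  have hP : IsEquivOver P := isEquivOver_fpPost_ff z' z' (imageIncl h.isStack.1 z)
  have tr : ∀ {Q : MorphismProperty (AlgSp.Sp S)}, RepByAlgSpWith Q (fpFst z z) → RepByAlgSpWith Q (fpFst z' z') :=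
    fun hQ => repByAlgSpWith_of_iso (f := BasedFunctor.comp P (fpFst z z)) (Iso.refl _)
      ((repByAlgSpWith_precomp_equiv hP).2 hQ)
  have hl' := exists_local_toImage h.isStack z
  exact ⟨repByAlgSpWith_of_fpFst_locally hK hI isLocalOnBase_flat hr hl' (tr hR.flat),
    repByAlgSpWith_of_fpFst_locally hK hI isLocalOnBase_lfp hr hl' (tr hR.lfp),
    repByAlgSpWith_of_fpFst_locally hK hI isLocalOnBase_surj hr hl' (tr hR.surj)⟩

theorem isAlgStack_image₂ (h : IsAlgStack Scheme.fppfPrecoverage 𝒵) (z : overCat (Over.mk str) ⥤ᵇ 𝒵)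
    (hl : RepByAlgSpWith (AlgSp.LocP @LocallyOfFiniteType) (fpFst z z)) :
    IsAlgStack Scheme.fppfPrecoverage (fullSub 𝒵 (ImageProp h.isStack.1 z)) := by
  have hY := h.isStack.1
  have hIs := isStack_image h.isStack z
  have hI := hIs.1
  obtain ⟨V, v, hv, hv'⟩ := exists_space_atlas h
  let ι := imageIncl hY z
  let g : fp v (BasedFunctor.comp (toImage hY z) ι) ⥤ᵇ fp v ι := fpMapSnd v ι (toImage hY z)
  have hz := repFppf_toImage₂ h z hl
  obtain ⟨G, e, he⟩ := repByAlgSp1_of_diag hY h.diag (isFibGrpd_overCat _) (repByAlgSp_ofSp (spY V))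
    (repByAlgSp_overCat _) v (BasedFunctor.comp (toImage hY z) ι)
  have hg : ∀ {Q : MorphismProperty (AlgSp.Sp S)}, RepByAlgSpWith Q (toImage hY z) →
      RepByAlgSpWith Q (BasedFunctor.comp e g) := fun hQ =>
    (repByAlgSpWith_precomp_equiv he).2 (repByAlgSpWith_fpMapSnd v ι hQ)
  have hH : Stk.IsStack (QuotSh.J Scheme.fppfPrecoverage S) (fp v ι) :=
    Fib44.isStack_fp (isDM_ofSp (spY V)).1.isStack hIs (Fib44.isPrestack_of_isStack h.isStack)
  have thin : ∀ {a b : (fp v ι).obj} (f f' : a ⟶ b), (fp v ι).p.map f = (fp v ι).p.map f' → f = f' := by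
    intro a b f f' hff
    have h1 : f.hom.fst = f'.hom.fst := Stk.EltObj.hom_ext hff
    refine fpHom_ext h1 (ι.toFunctor.map_injective ((cancel_epi a.obj.iso.hom).1 ?_))
    rw [← f.hom.w, ← f'.hom.w, h1]
  obtain ⟨W, w, hw⟩ := repByAlgSp_of_setoid_cover hH thin G (BasedFunctor.comp e g) (hg hz.flat) (hg hz.lfp) (hg hz.surj)
  exact isAlgStack_of_chart hIs W (BasedFunctor.comp w (fpSnd v ι))
    ((repByAlgSpWith_precomp_equiv hw).2 (repByAlgSpWith_fpSnd ι hv))
    ((repByAlgSpWith_precomp_equiv hw).2 (repByAlgSpWith_fpSnd ι hv'))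

theorem isMono_imageIncl₂ (h : IsAlgStack Scheme.fppfPrecoverage 𝒵) (z : overCat (Over.mk str) ⥤ᵇ 𝒵)
    (hl : RepByAlgSpWith (AlgSp.LocP @LocallyOfFiniteType) (fpFst z z)) : AlgSt.IsMono (imageIncl h.isStack.1 z) :=
  isMono_of_fullyFaithful (isAlgStack_image₂ h z hl) h

theorem resGerbeExists_of_point (h : IsAlgStack Scheme.fppfPrecoverage 𝒵) (z : overCat (Over.mk str) ⥤ᵇ 𝒵)
    (hl : RepByAlgSpWith (AlgSp.LocP @LocallyOfFiniteType) (fpFst z z)) {x : Points 𝒵}
    (hx : ∀ t : ↥(Over.mk str).left, Points.ofChart z t = x) :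
    Gerb.ResGerbeExists Scheme.fppfPrecoverage 𝒵 x := by
  have e31 := (resGerbeExists_tfae h x).out 2 0
  have hz := repFppf_toImage₂ h z hl
  refine e31.1 ⟨_, imageIncl h.isStack.1 z, k, inferInstance, str, toImage h.isStack.1 z,
    isAlgStack_image₂ h z hl, isMono_imageIncl₂ h z hl, hz.surj, hz.flat, fun t => ?_⟩
  rw [← hx t, ofChart_eq, ofChart_eq, ← points_map_comp]
  rfl

end Groth.Agent.Gerb44
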