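import Groth.Agent.Gerb44.MonoFactor
import Groth.Agent.AlgSt88.SmoothLoc
import Groth.Agent.AlgSt88.SpaceDM
import Groth.Agent.SpFP87.PointSpace
import Groth.Agent.SpFP87.Reduced
import Groth.Agent.SGA3a.DominantHom
import Groth.Agent.SGA3a.MaxPts
import Groth.Agent.SchBasics.FtPoints
import Groth.Agent.VarGal.GeomReg
import Groth.Agent.VarGal.SmoothReg
import Groth.Agent.Csa25.SBStable
import Groth.Agent.E4O.DvrCrit

/-!
Field-valued points of algebraic stacks with one point.
-/

set_option autoImplicit false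
set_option maxHeartbeats 1000000
set_option linter.style.haveILetI false
set_option backward.isDefEq.respectTransparency false
set_option backward.isDefEq.respectTransparency.types false
universe u

open CategoryTheory CategoryTheory.Limits AlgebraicGeometry Opposite AlgSt FibCat
open Groth.Agent.AlgSt88

namespace Groth.Agent.Gerb44

variable {S : Scheme.{u}} {𝒵 : AlgSt.Cat S}

theorem exists_pt_of_points_overCat {T : Over S} (p : Points (overCat T)) : Nonempty ↥T.left := by
  obtain ⟨a, rfl⟩ := (points_map_bijective (isEquivOver_toOverCat T)).2 p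
  obtain ⟨a, rfl⟩ := stPt_bijective.2 a
  obtain ⟨a, rfl⟩ := (AlgSp.Points.schemeHomeo T).surjective a
  exact ⟨a⟩

theorem repByAlgSp1_overCat (h : IsAlgStack Scheme.fppfPrecoverage 𝒵) {T : Over S} (x : overCat T ⥤ᵇ 𝒵) :
    RepByAlgSp1 x :=
  (diag_iff h.isStack.1).1 h.diag T x

section Field

variable {k : Type u} [Field k] {str : Spec (CommRingCat.of k) ⟶ S}

theorem isField_stalk_of_etale_field {V : Scheme.{u}} (c : V ⟶ Spec (CommRingCat.of k)) [Etale c] (v : V) :
    IsField (V.presheaf.stalk v) := by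
  obtain ⟨_, _⟩ := SpFP87.isLocallyArtinian_of_etale c
  exact SpFP87.isField_stalk v

theorem locP_flat_to_field {F : AlgSp.Sp S} (f : F ⟶ (AlgSp.yon S).obj (Over.mk str)) :
    AlgSp.LocP @Flat f := by
  intro U V a b h _ hb _
  obtain ⟨c, rfl⟩ := (AlgSp.yon S).map_surjective b
  haveI : Etale c.left := (AlgSp.repWith_yon_map_iff _ _).1 hb
  exact SpFP87.flat_to_field _ fun v =>
    isField_stalk_of_etale_field (show V.left ⟶ Spec (CommRingCat.of k) from c.left) v

theorem repFlat_to_field {F : AlgSp.Space S} (Φ : ofSp F.obj ⥤ᵇ overCat (Over.mk str)) :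
    RepByAlgSpWith (AlgSp.LocP @Flat) Φ := by
  refine (repByAlgSpWith_postcomp_equiv (isEquivOver_ofOverCat (Over.mk str))).1 ?_
  obtain ⟨α⟩ := exists_hom_iso (BasedFunctor.comp Φ (ofOverCat (Over.mk str)))
  exact repByAlgSpWith_of_iso α.symm (repByAlgSpWith_ofSpMap (stableBC_locP _) (respectsIso_locP _)
    (F := F) (G := spY (Over.mk str)) _ (locP_flat_to_field _))

theorem subsingleton_points_of_surj (hY : IsFibGrpd 𝒵.p) (z : overCat (Over.mk str) ⥤ᵇ 𝒵) (hz : Sj z) :
    Subsingleton (Points 𝒵) := by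
  haveI : Subsingleton ↥(Over.mk str).left := inferInstanceAs (Subsingleton (PrimeSpectrum k))
  have := subsingleton_points_overCat (T := Over.mk str) (S := S)
  refine ⟨fun a b => ?_⟩
  obtain ⟨a', rfl⟩ := isSurjective_of_sj hY hz a
  obtain ⟨b', rfl⟩ := isSurjective_of_sj hY hz b
  rw [Subsingleton.elim a' b']

theorem isSurjective_field [Subsingleton (Points 𝒵)] (z : overCat (Over.mk str) ⥤ᵇ 𝒵) : AlgSt.IsSurjective z :=
  fun p => by
    haveI : Nonempty ↥(Over.mk str).left := inferInstanceAs (Nonempty (PrimeSpectrum k))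
    exact ⟨(nonempty_points_overCat (T := Over.mk str)).some, Subsingleton.elim _ _⟩

/-- Surjective flatness of one field-valued point gives that of any other. -/
theorem surjective_flat_of_field (h : IsAlgStack Scheme.fppfPrecoverage 𝒵) {z : overCat (Over.mk str) ⥤ᵇ 𝒵}
    (hzs : Sj z) (hzf : RepByAlgSpWith (AlgSp.LocP @Flat) z) {k' : Type u} [Field k']
    {str' : Spec (CommRingCat.of k') ⟶ S} (z' : overCat (Over.mk str') ⥤ᵇ 𝒵) :
    Sj z' ∧ RepByAlgSpWith (AlgSp.LocP @Flat) z' := by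
  have hY := h.isStack.1
  have := subsingleton_points_of_surj hY z hzs
  refine ⟨sj_of_isSurjective (isFibGrpd_overCat _) hY (repByAlgSp1_overCat h z') (isSurjective_field z'), ?_⟩
  let T' : Over S := Over.mk str'
  let m : ofSch T' ⥤ᵇ 𝒵 := BasedFunctor.comp (toOverCat T') z'
  refine (repByAlgSpWith_precomp_equiv (isEquivOver_toOverCat T')).1 (?_ : RepByAlgSpWith _ m)
  obtain ⟨F, a, e, he, -, -⟩ := exists_space_fp (isFibGrpd_overCat _) hY (repByAlgSp1_of_with hzf) (spY T') m
  let h0 : ofSp F.obj ⥤ᵇ ofSch T' := BasedFunctor.comp e (fpFst m z)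
  have h0f : RepByAlgSpWith (AlgSp.LocP @Flat) h0 :=
    (repByAlgSpWith_precomp_equiv he).2 (repByAlgSpWith_fpFst m hzf)
  have h0s : Sj h0 := (repByAlgSpWith_precomp_equiv he).2 (repByAlgSpWith_fpFst m hzs)
  have hc : RepByAlgSpWith (AlgSp.LocP @Flat) (BasedFunctor.comp h0 m) :=
    repByAlgSpWith_of_iso (bLeft e (fpIso m z)).symm
      (repByAlgSpWith_locP_comp @Flat (Stk.isFibGrpd_ofPsh _) (isFibGrpd_overCat _)
        (repFlat_to_field (BasedFunctor.comp e (fpSnd m z))) hzf)
  have hF : IsAlgStack Scheme.fppfPrecoverage (ofSp F.obj) := (isDM_ofSp F).1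
  have hT : IsAlgStack Scheme.fppfPrecoverage (ofSch T') := (isDM_ofSp (spY T')).1
  have hm : RepByAlgSp1 m :=
    repByAlgSp1_from_space hY ((diag_iff hY).1 h.diag) (repByAlgSp_ofSp (spY T')) m
  exact (locQ_iff_repByAlgSpWith smoothLocal_flat (stableBC_locP _) isLocalOnBase_flat hT h hm).1
    (locQ_flat_of_precomp hF hT h
      ((locQ_iff_repByAlgSpWith smoothLocal_flat (stableBC_locP _) isLocalOnBase_flat hF hT
        (repByAlgSp1_of_with h0f)).2 h0f)
      (isSurjective_of_sj (Stk.isFibGrpd_ofPsh _) h0s)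
      ((locQ_iff_repByAlgSpWith smoothLocal_flat (stableBC_locP _) isLocalOnBase_flat hF h
        (repByAlgSp1_of_with hc)).2 hc))

/-- A smooth chart and a field-valued point have a common cover, smooth over the field. -/
theorem exists_chart_over_field (h : IsAlgStack Scheme.fppfPrecoverage 𝒵) (z : overCat (Over.mk str) ⥤ᵇ 𝒵)
    {U : Over S} (x : overCat U ⥤ᵇ 𝒵) (hx : Sm x) :
    ∃ (G : Over S) (s : G ⟶ U) (r : G.left ⟶ Spec (CommRingCat.of k)), Smooth r ∧
      (Sj z → Surjective s.left) ∧ (RepByAlgSpWith (AlgSp.LocP @Flat) z → Flat s.left) ∧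
      (RepByAlgSpWith (AlgSp.LocP @LocallyOfFiniteType) z → LocallyOfFiniteType s.left) := by
  let K : Over S := Over.mk str
  let m : ofSch U ⥤ᵇ 𝒵 := BasedFunctor.comp (toOverCat U) x
  let z₁ : ofSch K ⥤ᵇ 𝒵 := BasedFunctor.comp (toOverCat K) z
  have hm : Sm m := (repByAlgSpWith_precomp_equiv (isEquivOver_toOverCat U)).2 hx
  have hY := h.isStack.1
  obtain ⟨F, p, e, he, -, hQ⟩ := exists_space_fp (Stk.isFibGrpd_ofPsh _) hY
    (repByAlgSp1_from_space hY ((diag_iff hY).1 h.diag) (repByAlgSp_ofSp (spY K)) z₁) (spY U) m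
  let q : F.obj ⟶ (AlgSp.yon S).obj K := homOfBased (BasedFunctor.comp e (fpSnd m z₁))
  have hq : AlgSp.LocP @Smooth q := prop_homOfBased (G := spY K) (respectsIso_locP _) (spaceDescends_locP _)
    ((repByAlgSpWith_precomp_equiv he).2 (repByAlgSpWith_fpSnd z₁ hm))
  obtain ⟨G, a, ha, has⟩ := F.property.atlas
  obtain ⟨s, hs⟩ := (AlgSp.yon S).map_surjective (a ≫ p)
  obtain ⟨r, hr⟩ := (AlgSp.yon S).map_surjective (a ≫ q)
  have hz : ∀ {P : MorphismProperty (AlgSp.Sp S)}, RepByAlgSpWith P z → RepByAlgSpWith P z₁ :=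
    fun hP => (repByAlgSpWith_precomp_equiv (isEquivOver_toOverCat K)).2 hP
  have hG := AlgSp.IsAlgSpace.yon_obj G
  have hU := AlgSp.IsAlgSpace.yon_obj U
  have he' := SpFP87.locP_of_repWith (P := @Etale) hG.diag F.property ha
  refine ⟨G, s, r.left, smooth_left_comp ha hq hr, fun hzs => surjective_left_of_map s ?_, fun hzf => ?_,
    fun hzl => ?_⟩
  · rw [hs]
    intro t
    obtain ⟨t', rfl⟩ := spaceDescends_surj F (spY U) p (hQ _ respectsIso_surj (hz hzs)) t
    obtain ⟨t'', rfl⟩ := SpPts86.isSurjectiveMor_of_repWith has t'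
    exact ⟨t'', AlgSp.Points.map_comp _ _ _⟩
  · have h1 : AlgSp.LocP @Flat a :=
      SpFP87.LocP.of_le (fun _ _ f hf => by haveI : Etale f := hf; exact (inferInstance : Flat f)) he'
    have h2 := SpFP87.locP_comp hG F.property hU h1
      (spaceDescends_locP @Flat F (spY U) p (hQ _ (respectsIso_locP _) (hz hzf)))
    exact (SpFP87.locP_yon_map_iff (P := @Flat) s).1 ((congrArg (fun t => AlgSp.LocP @Flat t) hs).mpr h2)
  · have h1 : AlgSp.LocP @LocallyOfFiniteType a :=
      SpFP87.LocP.of_le (fun _ _ f hf => by haveI : Etale f := hf; exact (inferInstance : LocallyOfFiniteType f)) he'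
    have h2 := SpFP87.locP_comp hG F.property hU h1
      (spaceDescends_locP @LocallyOfFiniteType F (spY U) p (hQ _ (respectsIso_locP _) (hz hzl)))
    exact (SpFP87.locP_yon_map_iff (P := @LocallyOfFiniteType) s).1
      ((congrArg (fun t => AlgSp.LocP @LocallyOfFiniteType t) hs).mpr h2)

theorem smoothLocally_reduced_of_field (h : IsAlgStack Scheme.fppfPrecoverage 𝒵)
    {z : overCat (Over.mk str) ⥤ᵇ 𝒵} (hzs : Sj z) (hzf : RepByAlgSpWith (AlgSp.LocP @Flat) z) :
    SmoothLocally (fun T => IsReduced T) 𝒵 := by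
  intro U x hx
  obtain ⟨G, s, r, hr, h1, h2, -⟩ := exists_chart_over_field h z x hx
  haveI := h1 hzs
  haveI := h2 hzf
  haveI := SpFP87.isReduced_of_smooth r
  exact Csa25.isReduced_of_flat_surjective s.left

theorem smoothLocally_regular_of_field (h : IsAlgStack Scheme.fppfPrecoverage 𝒵)
    {z : overCat (Over.mk str) ⥤ᵇ 𝒵} (hzs : Sj z) (hzf : RepByAlgSpWith (AlgSp.LocP @Flat) z) :
    SmoothLocally (fun T => ∀ t : T, IsRegularLocalRing (T.presheaf.stalk t)) 𝒵 := by
  intro U x hx t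
  obtain ⟨G, s, r, hr, h1, h2, -⟩ := exists_chart_over_field h z x hx
  haveI := h1 hzs
  haveI := h2 hzf
  obtain ⟨g, rfl⟩ := s.left.surjective t
  haveI := VarGal.isRegularLocalRing_stalk_of_smooth r g
  exact VarGal.isRegularLocalRing_of_flat s.left g

theorem smoothLocally_noetherian_of_field (h : IsAlgStack Scheme.fppfPrecoverage 𝒵)
    {z : overCat (Over.mk str) ⥤ᵇ 𝒵} (hz : RepFppf z) :
    SmoothLocally (fun T => IsLocallyNoetherian T) 𝒵 := by
  intro U x hx
  have hY := h.isStack.1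
  let K : Over S := Over.mk str
  let m : ofSch U ⥤ᵇ 𝒵 := BasedFunctor.comp (toOverCat U) x
  let z₁ : ofSch K ⥤ᵇ 𝒵 := BasedFunctor.comp (toOverCat K) z
  have hz₁ : ∀ {P : MorphismProperty (AlgSp.Sp S)}, RepByAlgSpWith P z → RepByAlgSpWith P z₁ :=
    fun hP => (repByAlgSpWith_precomp_equiv (isEquivOver_toOverCat K)).2 hP
  have hm : Sm m := (repByAlgSpWith_precomp_equiv (isEquivOver_toOverCat U)).2 hx
  obtain ⟨F, p, e, he, -, hQ⟩ := exists_space_fp (Stk.isFibGrpd_ofPsh _) hY
    (repByAlgSp1_of_with (hz₁ hz.flat)) (spY U) m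
  let q : F.obj ⟶ (AlgSp.yon S).obj K := homOfBased (BasedFunctor.comp e (fpSnd m z₁))
  have hq : AlgSp.LocP @Smooth q := prop_homOfBased (G := spY K) (respectsIso_locP _) (spaceDescends_locP _)
    ((repByAlgSpWith_precomp_equiv he).2 (repByAlgSpWith_fpSnd z₁ hm))
  obtain ⟨G, a, ha, has⟩ := F.property.atlas
  obtain ⟨s, hs⟩ := (AlgSp.yon S).map_surjective (a ≫ p)
  obtain ⟨r, hr⟩ := (AlgSp.yon S).map_surjective (a ≫ q)
  haveI : Smooth (show G.left ⟶ Spec (CommRingCat.of k) from r.left) := smooth_left_comp ha hq hr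
  haveI : IsLocallyNoetherian G.left :=
    LocallyOfFiniteType.isLocallyNoetherian (show G.left ⟶ Spec (CommRingCat.of k) from r.left)
  have hG := AlgSp.IsAlgSpace.yon_obj G
  have hU := AlgSp.IsAlgSpace.yon_obj U
  have he' := SpFP87.locP_of_repWith (P := @Etale) hG.diag F.property ha
  haveI : Surjective s.left := surjective_left_of_map s (by
    rw [hs]
    intro t
    obtain ⟨t', rfl⟩ := spaceDescends_surj F (spY U) p (hQ _ respectsIso_surj (hz₁ hz.surj)) t
    obtain ⟨t'', rfl⟩ := SpPts86.isSurjectiveMor_of_repWith has t'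
    exact ⟨t'', AlgSp.Points.map_comp _ _ _⟩)
  haveI : Flat s.left := (SpFP87.locP_yon_map_iff (P := @Flat) s).1
    ((congrArg (fun t => AlgSp.LocP @Flat t) hs).mpr (SpFP87.locP_comp hG F.property hU
      (SpFP87.LocP.of_le (fun _ _ f hf => by haveI : Etale f := hf; exact (inferInstance : Flat f)) he')
      (spaceDescends_locP @Flat F (spY U) p (hQ _ (respectsIso_locP _) (hz₁ hz.flat)))))
  haveI : LocallyOfFinitePresentation s.left := (SpFP87.locP_yon_map_iff (P := @LocallyOfFinitePresentation) s).1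
    ((congrArg (fun t => AlgSp.LocP @LocallyOfFinitePresentation t) hs).mpr (SpFP87.locP_comp hG F.property hU
      (SpFP87.LocP.of_le (fun _ _ f hf => by
        haveI : Etale f := hf; exact (inferInstance : LocallyOfFinitePresentation f)) he')
      (spaceDescends_locP @LocallyOfFinitePresentation F (spY U) p (hQ _ (respectsIso_locP _) (hz₁ hz.lfp)))))
  exact SpFP87.isLocallyNoetherian_of_flat_lfp_surjective s.left

end Field

theorem rep_of_comp_overMap {P : MorphismProperty Scheme.{u}} [SpFP87.EtLoc P] {W V : Over S} (g : W ⟶ V)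
    {y : overCat V ⥤ᵇ 𝒵} (hg : P g.left)
    (hy : RepByAlgSpWith (AlgSp.LocP P) y) [P.RespectsIso] :
    RepByAlgSpWith (AlgSp.LocP P) (BasedFunctor.comp (overMap g) y) := by
  refine (repByAlgSpWith_precomp_equiv (isEquivOver_toOverCat W)).1 ?_
  obtain ⟨j⟩ := toOver_overMap g
  exact repByAlgSpWith_of_iso (bRight j y).symm (repByAlgSpWith_locP_comp P (f := ofSpMap ((AlgSp.yon S).map g)) (g := BasedFunctor.comp (toOverCat V) y)
      (Stk.isFibGrpd_ofPsh _) (Stk.isFibGrpd_ofPsh _)
    (repByAlgSpWith_ofSpMap (stableBC_locP _) (respectsIso_locP _) (F := spY W) (G := spY V) _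
      ((SpFP87.locP_yon_map_iff _).2 hg))
    ((repByAlgSpWith_precomp_equiv (isEquivOver_toOverCat V)).2 hy))

/-- A nonempty algebraic stack has a field-valued point of finite type. -/
theorem exists_lft_point (h : IsAlgStack Scheme.fppfPrecoverage 𝒵) [Nonempty (Points 𝒵)] :
    ∃ (k : Type u) (_ : Field k) (str : Spec (CommRingCat.of k) ⟶ S) (z : overCat (Over.mk str) ⥤ᵇ 𝒵),
      RepByAlgSpWith (AlgSp.LocP @LocallyOfFiniteType) z := by
  obtain ⟨V, y, hy, hy'⟩ := h.atlas
  obtain ⟨p, -⟩ := isSurjective_of_sj h.isStack.1 hy' (Classical.arbitrary _)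
  obtain ⟨v⟩ := exists_pt_of_points_overCat p
  obtain ⟨w, -, hw⟩ := SchBasics.exists_ftPoint (S := V.left) (Z := Set.univ) (isClosed_univ.isLocallyClosed) ⟨v, trivial⟩
  let g : Over.mk (V.left.fromSpecResidueField w ≫ V.hom) ⟶ V := Over.homMk (V.left.fromSpecResidueField w) rfl
  exact ⟨_, inferInstance, _, BasedFunctor.comp (overMap g) y, rep_of_comp_overMap g hw
    (repByAlgSpWith_mono (fun _ _ _ hf => SpFP87.LocP.of_le (fun _ _ f hf => by
      haveI : LocallyOfFinitePresentation f := hf; exact (inferInstance : LocallyOfFiniteType f)) hf) (rep_lfp_of_sm hy))⟩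

/-- A reduced stack with one point has a surjective flat field-valued point. -/
theorem exists_flat_point (h : IsAlgStack Scheme.fppfPrecoverage 𝒵)
    (hred : SmoothLocally (fun T => IsReduced T) 𝒵) [Nonempty (Points 𝒵)] [Subsingleton (Points 𝒵)] :
    ∃ (k : Type u) (_ : Field k) (str : Spec (CommRingCat.of k) ⟶ S) (z : overCat (Over.mk str) ⥤ᵇ 𝒵),
      Sj z ∧ RepByAlgSpWith (AlgSp.LocP @Flat) z := by
  obtain ⟨V, y, hy, hy'⟩ := h.atlas
  haveI : IsReduced V.left := hred V y hy
  obtain ⟨p, -⟩ := isSurjective_of_sj h.isStack.1 hy' (Classical.arbitrary _)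
  obtain ⟨v⟩ := exists_pt_of_points_overCat p
  obtain ⟨w, -, hw⟩ := SGA3a.exists_maximal_generalization v
  haveI : Flat (V.left.fromSpecResidueField w) := by
    letI := (SGA3a.isField_stalk_maximal hw).toField
    haveI : IsIso (V.left.residue w) := by
      rw [ConcreteCategory.isIso_iff_bijective]
      exact ⟨(V.left.residue w).hom.injective, Ideal.Quotient.mk_surjective⟩
    haveI := VarGal.flat_fromSpecStalk w
    exact inferInstanceAs (Flat (Spec.map (V.left.residue w) ≫ V.left.fromSpecStalk w))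
  let g : Over.mk (V.left.fromSpecResidueField w ≫ V.hom) ⟶ V := Over.homMk (V.left.fromSpecResidueField w) rfl
  refine ⟨_, inferInstance, _, BasedFunctor.comp (overMap g) y, ?_, rep_of_comp_overMap g ‹_› (rep_flat_of_sm hy)⟩
  exact sj_of_isSurjective (isFibGrpd_overCat _) h.isStack.1 (repByAlgSp1_overCat h _) (isSurjective_field _)

end Groth.Agent.Gerb44
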