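import Groth.Agent.Gerb44.FieldPt

/-!
Reduced stacks with one point and their field-valued points.
-/

set_option autoImplicit false
set_option maxHeartbeats 1000000
set_option linter.style.haveILetI false
set_option backward.isDefEq.respectTransparency false
set_option backward.isDefEq.respectTransparency.types false
universe u

open CategoryTheory CategoryTheory.Limits AlgebraicGeometry Opposite AlgSt FibCat
open Groth.Agent.AlgSt88

namespace Groth.Agent.Gerb44

variable {S : Scheme.{u}} {𝒵 𝒳 : AlgSt.Cat S}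

/-- Into a locally Noetherian stack, finite type is finite presentation. -/
theorem lfp_of_lft (h : IsAlgStack Scheme.fppfPrecoverage 𝒵)
    (hn : SmoothLocally (fun T => IsLocallyNoetherian T) 𝒵) (hX : IsFibGrpd 𝒳.p) {z : 𝒳 ⥤ᵇ 𝒵}
    (hz : RepByAlgSpWith (AlgSp.LocP @LocallyOfFiniteType) z) :
    RepByAlgSpWith (AlgSp.LocP @LocallyOfFinitePresentation) z := by
  obtain ⟨V, y, hy, hy'⟩ := exists_space_atlas h
  have hY := h.isStack.1
  haveI : IsLocallyNoetherian V.left := of_ofSch hn y hy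
  obtain ⟨F, a, e, he, ⟨α⟩, hQ⟩ := exists_space_fp hX hY (repByAlgSp1_of_with hz) (spY V) y
  refine repByAlgSpWith_of_repSp_cover hX hY (stableBC_locP _) isLocalOnBase_lfp (repByAlgSp1_of_with hz) (spY V) y
    (rep_flat_of_sm hy) (rep_lfp_of_sm hy) hy' ⟨F, e, he, ?_⟩
  rw [homOfBased_congr α, homOfBased_ofSpMap]
  have ha := spaceDescends_locP @LocallyOfFiniteType F (spY V) a (hQ _ (respectsIso_locP _) hz)
  intro U W p b k hp hb w
  obtain ⟨c, rfl⟩ := (AlgSp.yon S).map_surjective b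
  haveI : Etale c.left := (AlgSp.repWith_yon_map_iff _ _).1 hb
  haveI : IsLocallyNoetherian W.left := LocallyOfFiniteType.isLocallyNoetherian c.left
  haveI : LocallyOfFiniteType k.left := ha p _ k hp hb w
  exact E4O.locallyOfFinitePresentation_of_isLocallyNoetherian k.left

theorem reduced_singleton_tfae (h : IsAlgStack Scheme.fppfPrecoverage 𝒵) :
    [SmoothLocally (fun T => IsReduced T) 𝒵 ∧ Nonempty (Points 𝒵) ∧ Subsingleton (Points 𝒵),
      ∃ (k : Type u) (_ : Field k) (a : Spec (CommRingCat.of k) ⟶ S) (z : overCat (Over.mk a) ⥤ᵇ 𝒵),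
        Sj z ∧ RepByAlgSpWith (AlgSp.LocP @Flat) z,
      ∃ (k : Type u) (_ : Field k) (a : Spec (CommRingCat.of k) ⟶ S) (z : overCat (Over.mk a) ⥤ᵇ 𝒵),
        RepByAlgSpWith (AlgSp.LocP @LocallyOfFiniteType) z ∧ Sj z ∧
          RepByAlgSpWith (AlgSp.LocP @Flat) z].TFAE := by
  tfae_have 1 → 2 := fun ⟨hr, hne, hsub⟩ => exists_flat_point h hr
  tfae_have 2 → 3 := by
    rintro ⟨k, _, a, z, hs, hf⟩
    haveI : Nonempty ↥(Over.mk a).left := inferInstanceAs (Nonempty (PrimeSpectrum k))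
    haveI : Nonempty (Points 𝒵) := ⟨Points.map z (nonempty_points_overCat (T := Over.mk a)).some⟩
    obtain ⟨k', _, a', z', hz'⟩ := exists_lft_point h
    exact ⟨k', inferInstance, a', z', hz', surjective_flat_of_field h hs hf z'⟩
  tfae_have 3 → 1 := by
    rintro ⟨k, _, a, z, -, hs, hf⟩
    haveI : Nonempty ↥(Over.mk a).left := inferInstanceAs (Nonempty (PrimeSpectrum k))
    exact ⟨smoothLocally_reduced_of_field h hs hf, ⟨Points.map z (nonempty_points_overCat (T := Over.mk a)).some⟩,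
      subsingleton_points_of_surj h.isStack.1 z hs⟩
  tfae_finish

theorem reduced_noetherian_singleton_iff (h : IsAlgStack Scheme.fppfPrecoverage 𝒵) :
    (SmoothLocally (fun T => IsReduced T) 𝒵 ∧ SmoothLocally (fun T => IsLocallyNoetherian T) 𝒵 ∧
        Nonempty (Points 𝒵) ∧ Subsingleton (Points 𝒵)) ↔
      ∃ (k : Type u) (_ : Field k) (a : Spec (CommRingCat.of k) ⟶ S) (z : overCat (Over.mk a) ⥤ᵇ 𝒵),
        RepByAlgSpWith (AlgSp.LocP @LocallyOfFinitePresentation) z ∧ Sj z ∧
          RepByAlgSpWith (AlgSp.LocP @Flat) z := by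
  constructor
  · rintro ⟨hr, hn, hne, hsub⟩
    have e02 := (reduced_singleton_tfae h).out 0 2
    obtain ⟨k, _, a, z, hl, hs, hf⟩ := e02.1 ⟨hr, hne, hsub⟩
    exact ⟨k, inferInstance, a, z, lfp_of_lft h hn (isFibGrpd_overCat _) hl, hs, hf⟩
  · rintro ⟨k, _, a, z, hp, hs, hf⟩
    have e10 := (reduced_singleton_tfae h).out 1 0
    obtain ⟨h1, h2, h3⟩ := e10.1 ⟨k, inferInstance, a, z, hs, hf⟩
    exact ⟨h1, smoothLocally_noetherian_of_field h ⟨hf, hp, hs⟩, h2, h3⟩

end Groth.Agent.Gerb44
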