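import Groth.Agent.Fib44.StackEquiv
import Groth.Prelude.Def_StGerb

/-!
Full faithfulness of a functor of stacks, tested on a locally surjective chart.
-/

set_option autoImplicit false
set_option maxHeartbeats 1000000
set_option linter.style.haveILetI false
set_option backward.isDefEq.respectTransparency false
set_option backward.isDefEq.respectTransparency.types false

universe v₄ u₄ v₃ u₃ v₂ u₂ v u

open CategoryTheory CategoryTheory.Functor Groth.Agent.Fib44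

namespace Groth.Agent.Gerb44

variable {C : Type u} [Category.{v} C] {J : GrothendieckTopology C} {𝒳 : BasedCategory.{v₂, u₂} C}
  {𝒴 : BasedCategory.{v₃, u₃} C} {𝒲 : BasedCategory.{v₄, u₄} C}

/-- `F` is bijective on the morphisms from `a` to `b` over the identity of `U`. -/
def LiftBij (F : 𝒳 ⥤ᵇ 𝒴) (U : C) (a b : 𝒳.obj) : Prop :=
  (∀ n n' : a ⟶ b, 𝒳.p.IsHomLift (𝟙 U) n → 𝒳.p.IsHomLift (𝟙 U) n' → F.map n = F.map n' → n = n') ∧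
    ∀ m : F.obj a ⟶ F.obj b, 𝒴.p.IsHomLift (𝟙 U) m → ∃ n : a ⟶ b, 𝒳.p.IsHomLift (𝟙 U) n ∧ F.map n = m

theorem LiftBij.congr (F : 𝒳 ⥤ᵇ 𝒴) {U : C} {a b a' b' : 𝒳.obj} (i : a ≅ a') (j : b ≅ b')
    [𝒳.p.IsHomLift (𝟙 U) i.hom] [𝒳.p.IsHomLift (𝟙 U) j.hom] (h : LiftBij F U a b) : LiftBij F U a' b' := by
  refine ⟨fun n n' hn hn' he => ?_, fun m hm => ?_⟩
  · haveI := hn
    haveI := hn'
    have := h.1 (i.hom ≫ n ≫ j.inv) (i.hom ≫ n' ≫ j.inv) inferInstance inferInstance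
      (by rw [Functor.map_comp, Functor.map_comp, Functor.map_comp, Functor.map_comp, he])
    simpa using congrArg (fun t => i.inv ≫ t ≫ j.hom) this
  · haveI := hm
    obtain ⟨n, hn, he⟩ := h.2 (F.map i.hom ≫ m ≫ F.map j.inv) inferInstance
    haveI := hn
    refine ⟨i.inv ≫ n ≫ j.hom, inferInstance, ?_⟩
    rw [Functor.map_comp, Functor.map_comp, he, Category.assoc, Category.assoc, ← F.map_comp, j.inv_hom_id,
      F.map_id, Category.comp_id, ← Category.assoc, ← F.map_comp, i.inv_hom_id, F.map_id,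
      Category.id_comp]

variable (h𝒳 : Stk.IsStack J 𝒳) (h𝒴 : Stk.IsPrestack J 𝒴) (z : 𝒲 ⥤ᵇ 𝒳) (hz : Gerb.LocSurjObj J z)
  (F : 𝒳 ⥤ᵇ 𝒴) (hF : ∀ (U : C) (c d : 𝒲.obj), 𝒲.p.obj c = U → 𝒲.p.obj d = U → LiftBij F U (z.obj c) (z.obj d))

include h𝒳 h𝒴 hz hF

theorem faithful_of_liftBij : F.toFunctor.Faithful := by
  refine ⟨fun {a b u v} huv => ?_⟩
  have hp : 𝒳.p.map u = 𝒳.p.map v := by
    have := congrArg 𝒴.p.map huv
    simpa [based_map, cancel_epi, cancel_mono] using this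
  let f := 𝒳.p.map u
  haveI : 𝒳.p.IsHomLift f v := (isHomLift_iff_map_eq 𝒳.p _ v).mpr hp.symm
  haveI : 𝒳.p.IsHomLift f u := IsHomLift.map 𝒳.p u
  obtain ⟨Ra, hRa, hla⟩ := hz a
  obtain ⟨Rb, hRb, hlb⟩ := hz b
  have hT : Ra ⊓ Rb.pullback f ∈ J (𝒳.p.obj a) := J.intersection_covering hRa (J.pullback_stable f hRb)
  refine hom_ext_of_lifts h𝒳.1 ((isStack_iff.mp h𝒳).2 _ hT).1 rfl f u v fun V g hg => ?_
  obtain ⟨c, χ, hχ⟩ := hla g hg.1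
  obtain ⟨d, χ', hχ'⟩ := hlb (g ≫ f) hg.2
  haveI := hχ
  haveI := hχ'
  refine ⟨z.obj c, χ, hχ, ?_⟩
  have hc : 𝒲.p.obj c = V := (z.w_obj c).symm.trans (IsHomLift.domain_eq 𝒳.p g χ)
  have hd : 𝒲.p.obj d = V := (z.w_obj d).symm.trans (IsHomLift.domain_eq 𝒳.p (g ≫ f) χ')
  haveI := isSC_of_fibGrpd 𝒳.p h𝒳.1 (g ≫ f) χ'
  let n := IsCartesian.map 𝒳.p (g ≫ f) χ' (χ ≫ u)
  let n' := IsCartesian.map 𝒳.p (g ≫ f) χ' (χ ≫ v)
  have hn : 𝒳.p.IsHomLift (𝟙 V) n := IsCartesian.map_isHomLift 𝒳.p (g ≫ f) χ' (χ ≫ u)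
  have hn' : 𝒳.p.IsHomLift (𝟙 V) n' := IsCartesian.map_isHomLift 𝒳.p (g ≫ f) χ' (χ ≫ v)
  have he : F.map n = F.map n' := by
    haveI := hn
    haveI := hn'
    haveI := based_isSC h𝒴.1 F (g ≫ f) χ'
    refine IsCartesian.ext 𝒴.p (g ≫ f) (F.map χ') _ _ ?_
    rw [← Functor.map_comp, ← Functor.map_comp, IsCartesian.fac 𝒳.p (g ≫ f) χ' (χ ≫ u),
      IsCartesian.fac 𝒳.p (g ≫ f) χ' (χ ≫ v), Functor.map_comp, Functor.map_comp, huv]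
  rw [← IsCartesian.fac 𝒳.p (g ≫ f) χ' (χ ≫ u), ← IsCartesian.fac 𝒳.p (g ≫ f) χ' (χ ≫ v)]
  exact congrArg (· ≫ χ') ((hF V c d hc hd).1 n n' hn hn' he)

theorem full_of_liftBij : F.toFunctor.Full := by
  have := faithful_of_liftBij h𝒳 h𝒴 z hz F hF
  have hg := h𝒳.1
  have key : ∀ (a b : 𝒳.obj) (hb : 𝒳.p.obj b = 𝒳.p.obj a) (m : F.obj a ⟶ F.obj b),
      𝒴.p.IsHomLift (𝟙 (𝒳.p.obj a)) m → ∃ k : a ⟶ b, F.map k = m := by
    intro a b hb m hm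
    haveI := hm
    obtain ⟨Ra, hRa, hla⟩ := hz a
    obtain ⟨Rb, hRb, hlb⟩ := hz b
    let T := Ra ⊓ Rb.pullback (eqToHom hb.symm)
    have hT : T ∈ J (𝒳.p.obj a) := J.intersection_covering hRa (J.pullback_stable _ hRb)
    have hex : ∀ ⦃w : 𝒳.obj⦄ (φ : w ⟶ a), T (𝒳.p.map φ ≫ eqToHom rfl) →
        ∃ n : w ⟶ b, 𝒳.p.IsHomLift (𝒳.p.map φ ≫ eqToHom rfl) n ∧ F.map n = F.map φ ≫ m := by
      intro w φ hφ
      rw [eqToHom_refl, Category.comp_id] at hφ ⊢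
      let g := 𝒳.p.map φ
      haveI : 𝒳.p.IsHomLift g φ := IsHomLift.map 𝒳.p φ
      obtain ⟨c, χ, hχ⟩ := hla g hφ.1
      obtain ⟨d, χ', hχ'⟩ := hlb (g ≫ eqToHom hb.symm) hφ.2
      haveI := hχ
      haveI := hχ'
      haveI : 𝒳.p.IsHomLift g χ' :=
        IsHomLift.of_fac' _ _ _ (IsHomLift.domain_eq 𝒳.p (g ≫ eqToHom hb.symm) χ') hb
          (by rw [IsHomLift.fac' 𝒳.p (g ≫ eqToHom hb.symm) χ']; simp)
      have hc : 𝒲.p.obj c = 𝒳.p.obj w := (z.w_obj c).symm.trans (IsHomLift.domain_eq 𝒳.p g χ)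
      have hd : 𝒲.p.obj d = 𝒳.p.obj w := (z.w_obj d).symm.trans (IsHomLift.domain_eq 𝒳.p g χ')
      haveI := isSC_of_fibGrpd 𝒳.p hg g χ
      let i := IsCartesian.map 𝒳.p g χ φ
      haveI : 𝒳.p.IsHomLift (𝟙 (𝒳.p.obj w)) i := IsCartesian.map_isHomLift 𝒳.p g χ φ
      haveI := based_isSC h𝒴.1 F g χ'
      let γ := IsCartesian.map 𝒴.p g (F.map χ') (F.map χ ≫ m)
      have hγ : 𝒴.p.IsHomLift (𝟙 (𝒳.p.obj w)) γ :=
        IsCartesian.map_isHomLift 𝒴.p g (F.map χ') (F.map χ ≫ m)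
      obtain ⟨n, hn, hnF⟩ := (hF _ c d hc hd).2 γ hγ
      haveI := hn
      refine ⟨i ≫ n ≫ χ', inferInstance, ?_⟩
      rw [Functor.map_comp, Functor.map_comp, hnF]
      change F.map i ≫ IsCartesian.map 𝒴.p g (F.map χ') (F.map χ ≫ m) ≫ F.map χ' = _
      rw [IsCartesian.fac 𝒴.p g (F.map χ') (F.map χ ≫ m), ← Category.assoc, ← Functor.map_comp,
        IsCartesian.fac 𝒳.p g χ φ]
    choose n hn hnF using hex
    obtain ⟨k, ⟨hk, hkf⟩, -⟩ := ((isStack_iff.mp h𝒳).2 _ hT).1 (x := a) (y := b) rfl hb n hn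
      fun z' w t φ h h' => F.toFunctor.map_injective (by
        rw [hnF, Functor.map_comp, Functor.map_comp, hnF, Category.assoc])
    refine ⟨k, ?_⟩
    refine hom_ext_of_lifts h𝒴.1 ((isPrestack_iff.mp h𝒴).2 _ hT) (F.w_obj a) (𝟙 (𝒳.p.obj a))
      _ _ fun V g hgT => ?_
    obtain ⟨w, φ, hφ⟩ := exists_lift' 𝒳.p hg rfl g
    have hw : 𝒳.p.obj w = V := IsHomLift.domain_eq 𝒳.p g φ
    have hφT : T (𝒳.p.map φ ≫ eqToHom rfl) := by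
      have := Sieve.downward_closed _ hgT (eqToHom hw)
      simpa [IsHomLift.fac' 𝒳.p g φ] using this
    exact ⟨F.obj w, F.map φ, inferInstance, by rw [← Functor.map_comp, hkf φ hφT, hnF]⟩
  refine ⟨fun {a b} m => ?_⟩
  let f : 𝒳.p.obj a ⟶ 𝒳.p.obj b :=
    eqToHom (F.w_obj a).symm ≫ 𝒴.p.map m ≫ eqToHom (F.w_obj b)
  obtain ⟨b', θ, hθ⟩ := exists_lift' 𝒳.p hg (x := b) rfl f
  have : 𝒴.p.IsHomLift f m := IsHomLift.of_fac' _ _ _ (F.w_obj a) (F.w_obj b) (by simp [f])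
  have := based_isSC h𝒴.1 F f θ
  obtain ⟨k, hk⟩ := key a b' (IsHomLift.domain_eq 𝒳.p f θ)
    (IsCartesian.map 𝒴.p f (F.map θ) m) (IsCartesian.map_isHomLift 𝒴.p f (F.map θ) m)
  exact ⟨k ≫ θ, by rw [Functor.map_comp, hk]; exact IsCartesian.fac 𝒴.p f (F.map θ) m⟩

end Groth.Agent.Gerb44
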