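import Groth.Agent.Gerb44.GerbeSection
import Groth.Agent.AlgSt88.QC
import Groth.Agent.AlgSt88.QCMorSt
import Groth.Agent.AlgSt88.SpQ
import Groth.Agent.SpFP87.FlatDesc
import Groth.Agent.SpFP87.CovDesc
import Groth.Agent.FlatCrit65.GenFlat

/-!
Generic flatness for quasi-compact, locally finite type maps of algebraic spaces to reduced schemes.
-/

set_option autoImplicit false
set_option maxHeartbeats 1000000
set_option linter.style.haveILetI false
set_option backward.isDefEq.respectTransparency false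
set_option backward.isDefEq.respectTransparency.types false
universe u

open CategoryTheory CategoryTheory.Limits AlgebraicGeometry Opposite AlgSt FibCat
open Groth.Agent.AlgSt88

namespace Groth.Agent.Gerb44

variable {S : Scheme.{u}}

/-- An open subscheme as a scheme over `S`. -/
noncomputable def opOver {U : Over S} (V : U.left.Opens) : Over S := Over.mk (V.ι ≫ U.hom)

/-- The inclusion of an open subscheme. -/
noncomputable def opIncl {U : Over S} (V : U.left.Opens) : opOver V ⟶ U := Over.homMk V.ι rfl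

theorem exists_factor_opIncl {U T : Over S} (V : U.left.Opens) (g : T ⟶ U)
    (h : Set.range g.left ⊆ (V : Set U.left)) : ∃ l : T ⟶ opOver V, l ≫ opIncl V = g := by
  refine ⟨Over.homMk (IsOpenImmersion.lift V.ι g.left (h.trans_eq (Scheme.Opens.range_ι V).symm)) ?_,
    Over.OverMorphism.ext (IsOpenImmersion.lift_fac _ _ _)⟩
  change IsOpenImmersion.lift V.ι g.left _ ≫ V.ι ≫ U.hom = T.hom
  rw [IsOpenImmersion.lift_fac_assoc, Over.w g]

variable {F : AlgSp.Sp S} {U : Over S}

/-- Flatness and finite presentation of a base change. -/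
def GoodAlong (a : F ⟶ (AlgSp.yon S).obj U) {T : Over S} (j : T ⟶ U) : Prop :=
  AlgSp.LocP @Flat (pullback.snd a ((AlgSp.yon S).map j)) ∧
    AlgSp.LocP @LocallyOfFinitePresentation (pullback.snd a ((AlgSp.yon S).map j))

theorem isAlgSpace_pullback_yon (hF : AlgSp.IsAlgSpace F) (a : F ⟶ (AlgSp.yon S).obj U) {T : Over S}
    (j : T ⟶ U) : AlgSp.IsAlgSpace (pullback a ((AlgSp.yon S).map j)) :=
  SpFP87.isAlgSpace_of_isPullback (IsPullback.of_hasPullback _ _) hF (AlgSp.IsAlgSpace.yon_obj T)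
    (AlgSp.IsAlgSpace.yon_obj U).diag

theorem exists_pullback_comp (a : F ⟶ (AlgSp.yon S).obj U) {T T' : Over S} (j : T ⟶ U) (g : T' ⟶ T) :
    ∃ q : pullback a ((AlgSp.yon S).map (g ≫ j)) ⟶ pullback a ((AlgSp.yon S).map j),
      q ≫ pullback.fst _ _ = pullback.fst _ _ ∧ IsPullback q (pullback.snd a ((AlgSp.yon S).map (g ≫ j)))
        (pullback.snd a ((AlgSp.yon S).map j)) ((AlgSp.yon S).map g) := by
  let q : pullback a ((AlgSp.yon S).map (g ≫ j)) ⟶ pullback a ((AlgSp.yon S).map j) :=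
    pullback.lift (pullback.fst _ _) (pullback.snd _ _ ≫ (AlgSp.yon S).map g)
      (by rw [Category.assoc, ← Functor.map_comp, pullback.condition])
  refine ⟨q, pullback.lift_fst _ _ _, IsPullback.of_right ?_ (pullback.lift_snd _ _ _) (IsPullback.of_hasPullback _ _)⟩
  rw [pullback.lift_fst, ← Functor.map_comp]
  exact IsPullback.of_hasPullback _ _

theorem GoodAlong.precomp (hF : AlgSp.IsAlgSpace F) {a : F ⟶ (AlgSp.yon S).obj U} {T T' : Over S}
    {j : T ⟶ U} (h : GoodAlong a j) (g : T' ⟶ T) : GoodAlong a (g ≫ j) := by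
  obtain ⟨q, -, sq⟩ := exists_pullback_comp a j g
  exact ⟨stableBC_locP _ (isAlgSpace_pullback_yon hF a j) (AlgSp.IsAlgSpace.yon_obj T)
      (isAlgSpace_pullback_yon hF a (g ≫ j)) (AlgSp.IsAlgSpace.yon_obj T') _ _ _ _ sq h.1,
    stableBC_locP _ (isAlgSpace_pullback_yon hF a j) (AlgSp.IsAlgSpace.yon_obj T)
      (isAlgSpace_pullback_yon hF a (g ≫ j)) (AlgSp.IsAlgSpace.yon_obj T') _ _ _ _ sq h.2⟩

theorem exists_surj_of_iSup {ι : Type u} (V : ι → U.left.Opens)
    (y : AlgSp.Points ((AlgSp.yon S).obj (opOver (⨆ i, V i)))) (k : ∀ i, opOver (V i) ⟶ opOver (⨆ i, V i))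
    (hk : ∀ i, k i ≫ opIncl (⨆ i, V i) = opIncl (V i)) :
    ∃ i, y ∈ Set.range (AlgSp.Points.map ((AlgSp.yon S).map (k i))) := by
  obtain ⟨t, rfl⟩ := (AlgSp.Points.schemeHomeo (opOver (⨆ i, V i))).surjective y
  obtain ⟨i, hi⟩ := TopologicalSpace.Opens.mem_iSup.1 t.2
  refine ⟨i, AlgSp.Points.schemeHomeo (opOver (V i)) ⟨t.1, hi⟩, (AlgSp.Points.map_yon_map_apply _ _).trans ?_⟩
  refine congrArg _ (Subtype.ext ?_)
  exact congrArg (fun f => f.left (⟨t.1, hi⟩ : ↥(V i))) (hk i)

theorem goodAlong_iSup (hF : AlgSp.IsAlgSpace F) (a : F ⟶ (AlgSp.yon S).obj U) {ι : Type u}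
    (V : ι → U.left.Opens) (h : ∀ i, GoodAlong a (opIncl (V i))) : GoodAlong a (opIncl (⨆ i, V i)) := by
  choose k hk using fun i => exists_factor_opIncl (⨆ i, V i) (opIncl (V i)) (by
    change Set.range (V i).ι ⊆ _
    rw [Scheme.Opens.range_ι]
    exact le_iSup V i)
  have hcov : AlgSp.IsFppfCover (fun i => (AlgSp.yon S).obj (opOver (V i))) fun i => (AlgSp.yon S).map (k i) :=
    ⟨fun i => by
      haveI : IsOpenImmersion (k i).left := by
        have e : (k i).left ≫ (⨆ i, V i).ι = (V i).ι := congrArg (fun f => f.left) (hk i)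
        haveI : IsOpenImmersion ((k i).left ≫ (⨆ i, V i).ι) := e ▸ inferInstanceAs (IsOpenImmersion (V i).ι)
        exact IsOpenImmersion.of_comp _ (⨆ i, V i).ι
      exact ⟨(SpFP87.locP_yon_map_iff (P := @Flat) _).2 inferInstance,
        (SpFP87.locP_yon_map_iff (P := @LocallyOfFinitePresentation) _).2 inferInstance⟩,
      fun y => exists_surj_of_iSup V y k hk⟩
  choose q _ hsq using fun i => exists_pullback_comp a (opIncl (⨆ i, V i)) (k i)
  have hY := AlgSp.IsAlgSpace.yon_obj (opOver (⨆ i, V i))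
  have hX := isAlgSpace_pullback_yon hF a (opIncl (⨆ i, V i))
  have hp : ∀ i, AlgSp.LocP @Flat (pullback.snd a ((AlgSp.yon S).map (k i ≫ opIncl (⨆ i, V i)))) ∧
      AlgSp.LocP @LocallyOfFinitePresentation (pullback.snd a ((AlgSp.yon S).map (k i ≫ opIncl (⨆ i, V i)))) := by
    intro i
    rw [hk i]
    exact h i
  exact ⟨(isLocalOnBase_flat _ _ hY (fun i => AlgSp.IsAlgSpace.yon_obj _) hcov _ hX _ _ q
      (fun i => isAlgSpace_pullback_yon hF a _) hsq).2 fun i => (hp i).1,
    (isLocalOnBase_lfp _ _ hY (fun i => AlgSp.IsAlgSpace.yon_obj _) hcov _ hX _ _ q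
      (fun i => isAlgSpace_pullback_yon hF a _) hsq).2 fun i => (hp i).2⟩

theorem exists_dense_good_affine {O : Over S} [IsAffine O.left] [IsReduced O.left] (F : AlgSp.Space S)
    (a : F.obj ⟶ (AlgSp.yon S).obj O) (ha : AlgSp.LocP @LocallyOfFiniteType a)
    (hqc : CompactSpace (Points (ofSp F.obj))) :
    ∃ V : O.left.Opens, Dense (V : Set O.left) ∧ GoodAlong a (opIncl V) := by
  have hF := (isDM_ofSp F).1
  obtain ⟨A, x, hA, hx, hx'⟩ := isQuasiCompact_of_compactSpace hF
  haveI := hA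
  let x' : ofSch A ⥤ᵇ ofSp F.obj := BasedFunctor.comp (toOverCat A) x
  let p : (AlgSp.yon S).obj A ⟶ F.obj := homOfBased (F := (AlgSp.yon S).obj A) (G := F.obj) x'
  have hp : AlgSp.LocP @Smooth p := prop_homOfBased (F := spY A) (G := F) (respectsIso_locP _) (spaceDescends_locP _)
    ((repByAlgSpWith_precomp_equiv (isEquivOver_toOverCat A)).2 hx)
  have hps : AlgSp.IsSurjectiveMor p := prop_homOfBased (F := spY A) (G := F) respectsIso_surj spaceDescends_surj
    ((repByAlgSpWith_precomp_equiv (isEquivOver_toOverCat A)).2 hx')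
  obtain ⟨k, hk⟩ := (AlgSp.yon S).map_surjective (p ≫ a)
  have hA' := AlgSp.IsAlgSpace.yon_obj A
  have hO := AlgSp.IsAlgSpace.yon_obj O
  haveI : LocallyOfFiniteType k.left := (SpFP87.locP_yon_map_iff (P := @LocallyOfFiniteType) k).1
    ((congrArg (fun t => AlgSp.LocP @LocallyOfFiniteType t) hk).mpr (SpFP87.locP_comp hA' F.property hO
      (SpFP87.LocP.of_le (fun _ _ f hf => by haveI : Smooth f := hf; exact (inferInstance : LocallyOfFiniteType f)) hp) ha))
  haveI : QuasiCompact k.left := by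
    rw [quasiCompact_iff_compactSpace]
    infer_instance
  obtain ⟨V, hV, hVf, hVp⟩ := FlatCrit65.exists_dense_flat_lfp k.left
  refine ⟨V, hV, ?_⟩
  let W : A.left.Opens := k.left ⁻¹ᵁ V
  let kV : opOver W ⟶ opOver V := Over.homMk (k.left ∣_ V) (by
    change (k.left ∣_ V) ≫ V.ι ≫ O.hom = W.ι ≫ A.hom
    rw [morphismRestrict_ι_assoc, Over.w k])
  have sqO : IsPullback (opIncl W) kV k (opIncl V) :=
    IsPullback.of_map (Over.forget S) (Over.OverMorphism.ext (morphismRestrict_ι k.left V).symm)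
      (isPullback_morphismRestrict k.left V).flip
  have sqY := sqO.map (AlgSp.yon S)
  rw [hk] at sqY
  let pV : (AlgSp.yon S).obj (opOver W) ⟶ pullback a ((AlgSp.yon S).map (opIncl V)) :=
    pullback.lift ((AlgSp.yon S).map (opIncl W) ≫ p) ((AlgSp.yon S).map kV) (by rw [Category.assoc]; exact sqY.w)
  have sqp : IsPullback ((AlgSp.yon S).map (opIncl W)) pV p (pullback.fst a ((AlgSp.yon S).map (opIncl V))) :=
    IsPullback.of_bot (h₁₁ := (AlgSp.yon S).map (opIncl W)) (v₁₁ := pV) (v₁₂ := p)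
      (by rw [pullback.lift_snd]; exact sqY) (pullback.lift_fst _ _ _).symm (IsPullback.of_hasPullback _ _)
  have hQ := isAlgSpace_pullback_yon F.property a (opIncl V)
  have hW := AlgSp.IsAlgSpace.yon_obj (opOver W)
  have hpf : AlgSp.LocP @Flat pV := stableBC_locP _ hA' F.property hW hQ _ _ _ _ sqp (flat_of_smooth' hp)
  have hpp : AlgSp.LocP @LocallyOfFinitePresentation pV :=
    stableBC_locP _ hA' F.property hW hQ _ _ _ _ sqp (lfp_of_smooth' hp)
  have hcov := SpFP87.covLift_of_fppf pV hW hQ (SpFP87.isSurjectiveMor_baseChange sqp hps) hpf hpp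
  have hV' := AlgSp.IsAlgSpace.yon_obj (opOver V)
  exact ⟨SpFP87.locP_flat_of_covLift hW hQ hV' hcov (by
      rw [pullback.lift_snd]; exact (SpFP87.locP_yon_map_iff (P := @Flat) kV).2 hVf),
    SpFP87.locP_lfp_of_covLift hW hQ hV' hcov (by
      rw [pullback.lift_snd]; exact (SpFP87.locP_yon_map_iff (P := @LocallyOfFinitePresentation) kV).2 hVp)⟩

end Groth.Agent.Gerb44
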