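import Groth.Agent.Gerb44.GerbeSmooth
import Groth.Agent.AlgSt88.QCOverS

/-!
The atlas of an algebraic stack which is a gerbe over its base is smooth and surjective over the base.
-/

set_option autoImplicit false
set_option maxHeartbeats 1000000
set_option linter.style.haveILetI false
set_option backward.isDefEq.respectTransparency false
set_option backward.isDefEq.respectTransparency.types false
universe u

open CategoryTheory CategoryTheory.Limits AlgebraicGeometry Opposite AlgSt FibCat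
open Groth.Agent.AlgSt88 Groth.Agent.SpPts86

namespace Groth.Agent.Gerb44

variable {S : Scheme.{u}} {𝒳 : AlgSt.Cat S}

theorem exists_atlas_smooth_surjective (h𝒳 : IsAlgStack Scheme.fppfPrecoverage 𝒳)
    (hg : Gerb.IsGerbeOver (QuotSh.J Scheme.fppfPrecoverage S) (toSelf 𝒳)) :
    ∃ (U : Over S) (_ : ofSch U ⥤ᵇ 𝒳), Smooth U.hom ∧ Surjective U.hom := by
  have hB : IsAlgStack Scheme.fppfPrecoverage (selfOver (Over S)) := isAlgStack_self
  obtain ⟨U, a, ha, ha'⟩ := exists_space_atlas h𝒳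
  let W₀ : Over S := Over.mk (𝟙 S)
  let k : U ⟶ W₀ := Over.homMk U.hom (Category.comp_id _)
  let y : ofSch W₀ ⥤ᵇ selfOver (Over S) :=
    BasedFunctor.comp (toOverCat W₀) (toSelf (overCat W₀))
  have hy : IsEquivOver y := isEquivOver_comp (isEquivOver_toOverCat _) isEquivOver_toSelf_terminal
  let l : ofSch U ⥤ᵇ fp (toSelf 𝒳) y := fpLift a (ofSpMap ((AlgSp.yon S).map k)) (selfIso _ _)
  have hl : Sm l := (repByAlgSpWith_postcomp_equiv (isEquivOver_fpFst (toSelf 𝒳) hy)).1
    (show Sm (BasedFunctor.comp l (fpFst (toSelf 𝒳) y)) from ha)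
  have hsm := (spQ_of_locQ (gerbe_smooth h𝒳 hB hg)).prop smoothLocal_smooth h𝒳.isStack.1 hB.isStack.1
    (U := spY U) (V := spY W₀) y l (sm_equiv hy) hl
  have e : homOfBased (BasedFunctor.comp l (fpSnd (toSelf 𝒳) y)) = (AlgSp.yon S).map k := by
    change homOfBased (ofSpMap ((AlgSp.yon S).map k)) = _
    exact homOfBased_ofSpMap _
  rw [e] at hsm
  have h1 : Smooth U.hom := (SpFP87.locP_yon_map_iff _).1 hsm
  refine ⟨U, a, h1, ⟨fun t => ?_⟩⟩
  obtain ⟨p, hp⟩ := (gerbe_surjective_flat_lfp h𝒳 hB hg).1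
    (Points.map y (stPt _ (AlgSp.Points.schemeHomeo W₀ t)))
  obtain ⟨υ, rfl⟩ := isSurjective_of_sj h𝒳.isStack.1 ha' p
  obtain ⟨τ, rfl⟩ := stPt_bijective.2 υ
  obtain ⟨x, rfl⟩ := (AlgSp.Points.schemeHomeo U).surjective τ
  refine ⟨x, (AlgSp.Points.schemeHomeo W₀).injective (stPt_bijective.1 ((points_map_bijective hy).1 ?_))⟩
  rw [show AlgSp.Points.schemeHomeo W₀ (U.hom x) = AlgSp.Points.map ((AlgSp.yon S).map k)
      (AlgSp.Points.schemeHomeo U x) from (AlgSp.Points.map_yon_map_apply k x).symm,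
    ← stPt_natural, ← points_map_comp]
  refine Eq.trans ?_ hp
  rw [← points_map_comp]
  exact points_map_congr (selfIso _ _) _

end Groth.Agent.Gerb44
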