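import Groth.Prelude.Def_StGerb2
import Groth.Agent.Gerb44.GerbeSection
import Groth.Agent.Fib44.GerbeBand

/-!
The automorphism group scheme of a section of a gerbe over a scheme.
-/

set_option autoImplicit false
set_option maxHeartbeats 1000000
set_option linter.style.haveILetI false
set_option backward.isDefEq.respectTransparency false
set_option backward.isDefEq.respectTransparency.types false
universe u

open CategoryTheory CategoryTheory.Limits AlgebraicGeometry Opposite AlgSt FibCat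
open Groth.Agent.AlgSt88

namespace Groth.Agent.Gerb44

variable {S : Scheme.{u}} {𝒳 : AlgSt.Cat S} {U : Over S}

/-- `locSurjHom` only depends on the target through its slice description. -/
theorem locSurjHom_ofOverCat {π : 𝒳 ⥤ᵇ overCat U}
    (hπ : Gerb.LocSurjHom (QuotSh.J Scheme.fppfPrecoverage S) π) :
    Gerb.LocSurjHom (QuotSh.J Scheme.fppfPrecoverage S) (BasedFunctor.comp π (ofOverCat U)) := by
  intro a a' b hb
  let G := BasedFunctor.comp (ofOverCat U) (toOverCat U)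
  let ι : G ≅ BasedFunctor.id (overCat U) :=
    BasedNatIso.mkNatIso
      (NatIso.ofComponents (fun _ => Iso.refl _)
        (fun {_ _} _ => Over.OverMorphism.ext ((Category.comp_id _).trans (Category.id_comp _).symm)))
      (fun _ => IsHomLift.id rfl)
  let b₁ : (BasedFunctor.comp (ofOverCat U) (toOverCat U)).obj (π.obj a) ⟶
      (BasedFunctor.comp (ofOverCat U) (toOverCat U)).obj (π.obj a') := (toOverCat U).map b
  let b₀ : π.obj a ⟶ π.obj a' :=
    ι.inv.toNatTrans.app (π.obj a) ≫ b₁ ≫ ι.hom.toNatTrans.app (π.obj a')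
  have hb₀ : (overCat U).p.IsHomLift (𝟙 (𝒳.p.obj a)) b₀ := by
    have h1 : (overCat U).p.IsHomLift (𝟙 (𝒳.p.obj a)) b₁ :=
      BasedFunctor.preserves_isHomLift (toOverCat U) (𝟙 (𝒳.p.obj a)) b
    have e1 : (ofSch U).p.obj ((BasedFunctor.comp π (ofOverCat U)).obj a') = 𝒳.p.obj a :=
      IsHomLift.codomain_eq (ofSch U).p (𝟙 (𝒳.p.obj a)) b
    have := Fib44.lift_id_of_eq (overCat U).p (π.w_obj a) (ι.inv.isHomLift' (π.obj a))
    have := Fib44.lift_id_of_eq (overCat U).p ((π.w_obj a').trans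
      (((BasedFunctor.comp π (ofOverCat U)).w_obj a').symm.trans e1)) (ι.hom.isHomLift' (π.obj a'))
    infer_instance
  obtain ⟨R, hR, hRP⟩ := hπ a a' b₀ hb₀
  refine ⟨R, hR, fun W f hf => ?_⟩
  obtain ⟨x₀, φ, ψ, hφ, hψ, -⟩ := hRP f hf
  refine ⟨x₀, φ, ψ, hφ, hψ, ?_⟩
  have h1 : (ofSch U).p.IsHomLift f ((BasedFunctor.comp π (ofOverCat U)).map φ ≫ b) := by
    have h0 : (ofSch U).p.IsHomLift f ((BasedFunctor.comp π (ofOverCat U)).map φ) :=
      BasedFunctor.preserves_isHomLift _ f φ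
    infer_instance
  have h2 : (ofSch U).p.IsHomLift f ((BasedFunctor.comp π (ofOverCat U)).map ψ) :=
    BasedFunctor.preserves_isHomLift _ f ψ
  refine Stk.EltObj.hom_ext ?_
  exact (IsHomLift.fac' (ofSch U).p f ((BasedFunctor.comp π (ofOverCat U)).map φ ≫ b)).trans
    (IsHomLift.fac' (ofSch U).p f ((BasedFunctor.comp π (ofOverCat U)).map ψ)).symm

theorem repFlatLfp_section_scheme (h𝒳 : IsAlgStack Scheme.fppfPrecoverage 𝒳) (π : 𝒳 ⥤ᵇ overCat U)
    (hπ : Gerb.LocSurjHom (QuotSh.J Scheme.fppfPrecoverage S) π) (x : overCat U ⥤ᵇ 𝒳)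
    (e : BasedFunctor.comp x π ≅ BasedFunctor.id (overCat U)) :
    RepByAlgSpWith (AlgSp.LocP @Flat) x ∧ RepByAlgSpWith (AlgSp.LocP @LocallyOfFinitePresentation) x := by
  have h := section_flat_lfp_surjective (U := spY U) h𝒳 (BasedFunctor.comp π (ofOverCat U))
    (locSurjHom_ofOverCat hπ) (BasedFunctor.comp (toOverCat U) x)
    (bLeft (toOverCat U) (bRight e (ofOverCat U)) ≪≫ sliceIso U)
  exact ⟨(repByAlgSpWith_precomp_equiv (isEquivOver_toOverCat U)).1 h.1,
    (repByAlgSpWith_precomp_equiv (isEquivOver_toOverCat U)).1 h.2.1⟩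

variable {x : overCat U ⥤ᵇ 𝒳} {G : Over U.left} [GrpObj G]

/-- The tautological point at an object over `G`. -/
noncomputable def tautPt {G' : Over S} (g : G' ⟶ U) (m : G'.left ⟶ G.left) (hm : m ≫ G.hom = g.left)
    (o : Over G') :
    (Gerb.ptsGrp U G).obj (op ((AlgSt.overMap g).obj o)) :=
  Over.homMk (o.hom.left ≫ m) (by rw [Category.assoc, hm]; rfl)

/-- The tautological automorphism of the pullback of `x` to its automorphism group. -/
noncomputable def tautIso (r : Gerb.AutRep x (Gerb.ptsGrp U G)) {G' : Over S} (g : G' ⟶ U)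
    (m : G'.left ⟶ G.left) (hm : m ≫ G.hom = g.left) :
    BasedFunctor.comp (AlgSt.overMap g) x ≅ BasedFunctor.comp (AlgSt.overMap g) x :=
  BasedNatIso.mkNatIso
    (NatIso.ofComponents
      (fun o => (Functor.Fiber.fiberInclusion (p := 𝒳.p)).mapIso
        (r.iso ((AlgSt.overMap g).obj o) (tautPt g m hm o)))
      (fun {o o'} s => by
        have hs : (Gerb.ptsGrp U G).map ((AlgSt.overMap g).map s).op (tautPt g m hm o') = tautPt g m hm o :=
          Over.OverMorphism.ext (by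
            change s.left.left ≫ o'.hom.left ≫ m = o.hom.left ≫ m
            rw [← Category.assoc, ← Over.comp_left]
            exact congrArg (fun t => Over.Hom.left t ≫ m) (Over.w s))
        have := r.natural ((AlgSt.overMap g).map s) (tautPt g m hm o')
        rw [hs] at this
        exact this.symm))
    (fun o => Fib44.lift_id_of_eq 𝒳.p (x.w_obj _)
      (r.iso ((AlgSt.overMap g).obj o) (tautPt g m hm o)).hom.2)

theorem tautIso_app (r : Gerb.AutRep x (Gerb.ptsGrp U G)) {G' : Over S} (g : G' ⟶ U)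
    (m : G'.left ⟶ G.left) (hm : m ≫ G.hom = g.left) (o : Over G') :
    (tautIso r g m hm).hom.toNatTrans.app o =
      Fib44.autHom (r.iso ((AlgSt.overMap g).obj o) (tautPt g m hm o)) := rfl

theorem flat_lfp_of_autRep (h𝒳 : IsAlgStack Scheme.fppfPrecoverage 𝒳) (π : 𝒳 ⥤ᵇ overCat U)
    (hπ : Gerb.LocSurjHom (QuotSh.J Scheme.fppfPrecoverage S) π)
    (e : BasedFunctor.comp x π ≅ BasedFunctor.id (overCat U))
    (r : Gerb.AutRep x (Gerb.ptsGrp U G)) : Flat G.hom ∧ LocallyOfFinitePresentation G.hom := by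
  have hX := h𝒳.isStack.1
  have hU := isFibGrpd_overCat U
  have hP := isFibGrpd_fp hU hU hX x x
  obtain ⟨hfl, hfp⟩ := repFlatLfp_section_scheme h𝒳 π hπ x e
  haveI := respectsIso_locP (S := S) @Flat
  haveI := respectsIso_locP (S := S) @LocallyOfFinitePresentation
  obtain ⟨F, eF, heF, hd₁, hd₂⟩ :=
    RepOver.inf (P := AlgSp.LocP @Flat) (Q := AlgSp.LocP @LocallyOfFinitePresentation) (hfl U x) (hfp U x)
  obtain ⟨E, hE, ⟨εE⟩, ⟨εE'⟩⟩ := isEquivOver_inverse heF
  let G' : Over S := Over.mk (G.hom ≫ U.hom)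
  let g : G' ⟶ U := Over.homMk G.hom
  have hm : (𝟙 G.left) ≫ G.hom = g.left := Category.id_comp _
  let ΦG : overCat G' ⥤ᵇ fp x x :=
    fpLift (AlgSt.overMap g) (AlgSt.overMap g) (tautIso r g (𝟙 G.left) hm)
  let pt : ∀ {T : Over S}, (overCat T ⥤ᵇ fp x x) → ((AlgSp.yon S).obj T ⟶ F.obj) := fun {T} Z =>
    homOfBased (BasedFunctor.comp (toOverCat T) (BasedFunctor.comp Z E))
  let μ := pt ΦG
  have hcomp : ∀ {T : Over S} (k : T ⟶ G'),
      (AlgSp.yon S).map k ≫ μ = pt (BasedFunctor.comp (AlgSt.overMap k) ΦG) := by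
    intro T k
    obtain ⟨ι⟩ := toOver_overMap k
    conv_lhs => rw [← homOfBased_ofSpMap ((AlgSp.yon S).map k)]
    change homOfBased (ofSpMap ((AlgSp.yon S).map k)) ≫
      homOfBased (BasedFunctor.comp (toOverCat G') (BasedFunctor.comp ΦG E)) = _
    rw [← homOfBased_comp]
    exact homOfBased_congr (F := (AlgSp.yon S).obj T) (G := F.obj) (bRight ι (BasedFunctor.comp ΦG E)).symm
  have hd : μ ≫ spMapOfOver (BasedFunctor.comp eF (fpFst x x)) = (AlgSp.yon S).map g := by
    obtain ⟨ι⟩ := toOver_overMap g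
    rw [spMapOfOver_eq]
    change homOfBased (BasedFunctor.comp (toOverCat G') (BasedFunctor.comp ΦG E)) ≫ _ = _
    rw [← homOfBased_comp]
    conv_rhs => rw [← homOfBased_ofSpMap ((AlgSp.yon S).map g)]
    exact homOfBased_congr (F := (AlgSp.yon S).obj G') (G := (AlgSp.yon S).obj U)
      (bLeft (toOverCat G') (bLeft ΦG (bRight εE' (BasedFunctor.comp (fpFst x x) (ofOverCat U)))) ≪≫
        bRight ι (ofOverCat U) ≪≫ bLeft (ofSpMap ((AlgSp.yon S).map g)) (sliceIso U))
  haveI : IsIso μ := SpFP87.isIso_of_probe μ fun T l => by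
    let Ψ : overCat T ⥤ᵇ fp x x := BasedFunctor.comp (ofOverCat T) (BasedFunctor.comp (ofSpMap l) eF)
    have hΨ : pt Ψ = l := by
      change homOfBased (BasedFunctor.comp (toOverCat T) (BasedFunctor.comp Ψ E)) = l
      conv_rhs => rw [← homOfBased_ofSpMap l]
      exact homOfBased_congr (F := (AlgSp.yon S).obj T) (G := F.obj)
        (bRight (sliceIso T) (BasedFunctor.comp (ofSpMap l) (BasedFunctor.comp eF E)) ≪≫
          bLeft (ofSpMap l) εE)
    let z : (fp x x).obj := Ψ.obj (Fib44.idObj T)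
    let a : Over U := z.obj.fst
    have hT : a.left = T := Ψ.w_obj (Fib44.idObj T)
    let i : a ≅ z.obj.snd := (Fib44.isoApp e a).symm ≪≫ π.toFunctor.mapIso z.obj.iso ≪≫
      Fib44.isoApp e z.obj.snd
    have hi : (overCat U).p.IsHomLift (𝟙 a.left) i.hom := by
      have h1 : (overCat U).p.IsHomLift (𝟙 a.left) (e.inv.toNatTrans.app a) := e.inv.isHomLift' a
      have h0 : 𝒳.p.IsHomLift (𝟙 a.left) z.obj.iso.hom := Fib44.fp_iso_lift z
      have h2 : (overCat U).p.IsHomLift (𝟙 a.left) (π.map z.obj.iso.hom) :=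
        BasedFunctor.preserves_isHomLift π _ _
      have h3 : (overCat U).p.IsHomLift (𝟙 a.left) (e.hom.toNatTrans.app z.obj.snd) :=
        Fib44.lift_id_of_eq _ (Fib44.fp_proj_snd z) (e.hom.isHomLift' z.obj.snd)
      change (overCat U).p.IsHomLift (𝟙 a.left) (e.inv.toNatTrans.app a ≫ π.map z.obj.iso.hom ≫
        e.hom.toNatTrans.app z.obj.snd)
      infer_instance
    have hil : (overCat U).p.IsHomLift (𝟙 a.left) i.inv := inferInstance
    have hβ : 𝒳.p.IsHomLift (𝟙 (𝒳.p.obj (x.obj a))) (z.obj.iso.hom ≫ x.map i.inv) := by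
      have h0 : 𝒳.p.IsHomLift (𝟙 a.left) z.obj.iso.hom := Fib44.fp_iso_lift z
      have h1 : 𝒳.p.IsHomLift (𝟙 a.left) (x.map i.inv) := BasedFunctor.preserves_isHomLift x _ _
      have h2 : 𝒳.p.IsHomLift (𝟙 a.left) (z.obj.iso.hom ≫ x.map i.inv) := inferInstance
      exact Fib44.lift_id_of_eq 𝒳.p (x.w_obj a).symm h2
    obtain ⟨β, hβ'⟩ := Fib44.exists_autO hX _ hβ
    obtain ⟨s, hs⟩ := (r.iso a).surjective β
    let s' : (Over.iteratedSliceForward U).obj a ⟶ G := s
    let k₀ : a.left ⟶ G' := Over.homMk s'.left (by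
      change s'.left ≫ G.hom ≫ U.hom = _
      rw [← Category.assoc, Over.w s']
      exact Over.w a.hom)
    have hk₀ : k₀ ≫ g = a.hom := Over.OverMorphism.ext (Over.w s')
    let j : (AlgSt.overMap g).obj (Over.mk k₀) ≅ a := Over.isoMk (Iso.refl _) (by
      change 𝟙 _ ≫ a.hom = k₀ ≫ g
      rw [Category.id_comp, hk₀])
    have hj : (overCat U).p.IsHomLift (𝟙 a.left) j.hom :=
      IsHomLift.of_fac' _ _ _ rfl rfl (by simp [j]; rfl)
    let ι₂ : ΦG.obj (Over.mk k₀) ≅ z := Fib44.fpIsoMk j (j ≪≫ i) (by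
      change x.map j.hom ≫ z.obj.iso.hom = (tautIso r g (𝟙 G.left) hm).hom.toNatTrans.app (Over.mk k₀) ≫
        x.map (j.hom ≫ i.hom)
      rw [tautIso_app]
      have hnat := r.natural j.hom s
      have hs0 : (Gerb.ptsGrp U G).map j.hom.op s = tautPt g (𝟙 G.left) hm (Over.mk k₀) :=
        Over.OverMorphism.ext (by
          change j.hom.left.left ≫ s'.left = k₀.left ≫ 𝟙 _
          simp [j, k₀])
      rw [hs0, hs] at hnat
      rw [x.map_comp, ← Category.assoc]
      refine Eq.trans ?_ (congrArg (fun t => t ≫ x.map i.hom) hnat).symm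
      change _ = (x.map j.hom ≫ Fib44.autHom β) ≫ x.map i.hom
      rw [hβ', Category.assoc, Category.assoc, ← x.map_comp, Iso.inv_hom_id]
      simp)
    let k : T ⟶ G' := eqToHom hT.symm ≫ k₀
    let ι₁ : (AlgSt.overMap k).obj (Fib44.idObj T) ≅ (Over.mk k₀ : Over G') :=
      Over.isoMk (eqToIso hT.symm) (by change eqToHom hT.symm ≫ k₀ = 𝟙 T ≫ k; exact (Category.id_comp _).symm)
    have hι₁ : (overCat G').p.IsHomLift (eqToHom hT.symm) ι₁.hom :=
      IsHomLift.of_fac' _ _ _ rfl rfl (by simp [ι₁]; rfl)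
    have hι₂ : (fp x x).p.IsHomLift (𝟙 a.left) ι₂.hom := (Fib44.fp_isHomLift_iff _ _).2 hj
    have hk : pt (BasedFunctor.comp (AlgSt.overMap k) ΦG) = pt Ψ := by
      have h1 : (fp x x).p.IsHomLift (eqToHom hT.symm) (ΦG.map ι₁.hom) :=
        BasedFunctor.preserves_isHomLift ΦG _ _
      have h2 : (fp x x).p.IsHomLift (𝟙 T) (ΦG.map ι₁.hom ≫ ι₂.hom) := by
        have h3 : (fp x x).p.IsHomLift (eqToHom hT.symm) (ΦG.map ι₁.hom ≫ ι₂.hom) := inferInstance
        refine IsHomLift.of_fac' _ _ _ (IsHomLift.domain_eq (fp x x).p (eqToHom hT.symm) (ΦG.map ι₁.hom ≫ ι₂.hom))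
          hT ?_
        rw [IsHomLift.fac' (fp x x).p (eqToHom hT.symm) (ΦG.map ι₁.hom ≫ ι₂.hom)]
        simp
      obtain ⟨η⟩ := AlgSt88.nonempty_iso_of_app_id hP
        (y := BasedFunctor.comp (AlgSt.overMap k) ΦG) (y' := Ψ)
        (ΦG.toFunctor.mapIso ι₁ ≪≫ ι₂) h2
      exact homOfBased_congr (F := (AlgSp.yon S).obj T) (G := F.obj)
        (bLeft (toOverCat T) (bRight η E))
    refine ⟨(AlgSp.yon S).map k, ?_, fun l' hl' => ?_⟩
    · show (AlgSp.yon S).map k ≫ μ = l
      rw [hcomp, hk, hΨ]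
    obtain ⟨k', rfl⟩ := (AlgSp.yon S).map_surjective l'
    refine congrArg (AlgSp.yon S).map ?_
    have hpt : pt (BasedFunctor.comp (AlgSt.overMap k') ΦG) = pt (BasedFunctor.comp (AlgSt.overMap k) ΦG) := by
      rw [← hcomp, hl', hk, hΨ]
    obtain ⟨γ⟩ := exists_hom_iso
      (BasedFunctor.comp (toOverCat T) (BasedFunctor.comp (BasedFunctor.comp (AlgSt.overMap k') ΦG) E))
    obtain ⟨γ'⟩ := exists_hom_iso
      (BasedFunctor.comp (toOverCat T) (BasedFunctor.comp (BasedFunctor.comp (AlgSt.overMap k) ΦG) E))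
    rw [show homOfBased _ = homOfBased _ from hpt] at γ
    let η : BasedFunctor.comp (toOverCat T) (BasedFunctor.comp (AlgSt.overMap k') ΦG) ≅
        BasedFunctor.comp (toOverCat T) (BasedFunctor.comp (AlgSt.overMap k) ΦG) :=
      bLeft (toOverCat T) (bLeft (BasedFunctor.comp (AlgSt.overMap k') ΦG) εE').symm ≪≫
        bRight (γ ≪≫ γ'.symm) eF ≪≫
        bLeft (toOverCat T) (bLeft (BasedFunctor.comp (AlgSt.overMap k) ΦG) εE')
    let o' : Over G' := (AlgSt.overMap k').obj (Fib44.idObj T)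
    let o : Over G' := (AlgSt.overMap k).obj (Fib44.idObj T)
    let η₀ : ΦG.obj o' ≅ ΦG.obj o := Fib44.isoApp η ((ofOverCat T).obj (Fib44.idObj T))
    have hη₀ : (fp x x).p.IsHomLift (𝟙 T) η₀.hom :=
      η.hom.isHomLift' ((ofOverCat T).obj (Fib44.idObj T))
    let h1 : (AlgSt.overMap g).obj o' ⟶ (AlgSt.overMap g).obj o := η₀.hom.hom.fst
    let h2 : (AlgSt.overMap g).obj o' ⟶ (AlgSt.overMap g).obj o := η₀.hom.hom.snd
    have l1 : (overCat U).p.IsHomLift (𝟙 T) h1 := (Fib44.fp_isHomLift_iff _ _).1 hη₀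
    have l2 : (overCat U).p.IsHomLift (𝟙 T) h2 := BasedFunctor.preserves_isHomLift (fpSnd x x) _ η₀.hom
    have e1 : h1.left = 𝟙 T := by
      have := IsHomLift.fac' (overCat U).p (𝟙 T) h1
      simp at this
      exact this
    have e12 : h2 = h1 := Over.OverMorphism.ext (by
      have := IsHomLift.fac' (overCat U).p (𝟙 T) h2
      simp at this
      exact this.trans e1.symm)
    have hw : x.map h1 ≫ (tautIso r g (𝟙 G.left) hm).hom.toNatTrans.app o =
        (tautIso r g (𝟙 G.left) hm).hom.toNatTrans.app o' ≫ x.map h2 := η₀.hom.hom.w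
    have hI : IsIso h1 :=
      ⟨η₀.inv.hom.fst, congrArg (fun t => t.hom.fst) η₀.hom_inv_id, congrArg (fun t => t.hom.fst) η₀.inv_hom_id⟩
    rw [tautIso_app, tautIso_app, e12] at hw
    have hnat := r.natural h1 (tautPt g (𝟙 G.left) hm o)
    have heq : r.iso _ ((Gerb.ptsGrp U G).map h1.op (tautPt g (𝟙 G.left) hm o)) =
        r.iso _ (tautPt g (𝟙 G.left) hm o') := by
      haveI := Functor.map_isIso x.toFunctor h1
      exact Fib44.autO_ext ((cancel_mono (x.map h1)).1 (hnat.trans hw))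
    have := congrArg Over.Hom.left ((r.iso _).injective heq)
    change h1.left.left ≫ (𝟙 T ≫ k).left ≫ 𝟙 _ = (𝟙 T ≫ k').left ≫ 𝟙 _ at this
    rw [e1] at this
    simp only [Category.id_comp] at this
    erw [Category.comp_id, Category.comp_id] at this
    exact Over.OverMorphism.ext ((Category.id_comp _).symm.trans this).symm
  have hg₁ : AlgSp.LocP @Flat ((AlgSp.yon S).map g) :=
    hd ▸ (MorphismProperty.cancel_left_of_respectsIso (AlgSp.LocP @Flat) μ _).2 hd₁
  have hg₂ : AlgSp.LocP @LocallyOfFinitePresentation ((AlgSp.yon S).map g) :=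
    hd ▸ (MorphismProperty.cancel_left_of_respectsIso (AlgSp.LocP @LocallyOfFinitePresentation) μ _).2 hd₂
  exact ⟨(SpFP87.locP_yon_map_iff (P := @Flat) g).1 hg₁,
    (SpFP87.locP_yon_map_iff (P := @LocallyOfFinitePresentation) g).1 hg₂⟩

end Groth.Agent.Gerb44
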