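import Groth.Agent.Gerb44.GerbeFlat
import Groth.Agent.AlgSt88.Inertia
import Groth.Agent.AlgSt88.Invar
import Groth.Agent.AlgSt88.Graph
import Groth.Agent.AlgSt88.UnivInjDiag

/-!
Consequences of the flatness of gerbes of algebraic stacks.
-/

set_option autoImplicit false
set_option maxHeartbeats 1000000
set_option linter.style.haveILetI false
set_option backward.isDefEq.respectTransparency false
set_option backward.isDefEq.respectTransparency.types false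
universe u

open CategoryTheory CategoryTheory.Limits AlgebraicGeometry Opposite AlgSt FibCat
open Groth.Agent.AlgSt88

namespace Groth.Agent.Gerb44

variable {S : Scheme.{u}} {𝒳 𝒴 : AlgSt.Cat S}

/-- A surjective, flat, locally finitely presented morphism with surjective, flat, locally finitely
presented diagonal is a gerbe. -/
theorem isGerbeOver_of_flat_lfp (h𝒳 : IsAlgStack Scheme.fppfPrecoverage 𝒳)
    (h𝒴 : IsAlgStack Scheme.fppfPrecoverage 𝒴) {f : 𝒳 ⥤ᵇ 𝒴}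
    (hf : AlgSt.IsSurjective f ∧ LocQ (AlgSp.LocP @Flat) f ∧
      LocQ (AlgSp.LocP @LocallyOfFinitePresentation) f)
    (hd : AlgSt.IsSurjective (FibCat.diag f) ∧ LocQ (AlgSp.LocP @Flat) (FibCat.diag f) ∧
      LocQ (AlgSp.LocP @LocallyOfFinitePresentation) (FibCat.diag f)) :
    Gerb.IsGerbeOver (QuotSh.J Scheme.fppfPrecoverage S) f := by
  refine ⟨locSurjObj_of_flat_lfp_surjective h𝒳 h𝒴 hf.1 hf.2.1 hf.2.2, fun x x' b hb => ?_⟩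
  have hD := locSurjObj_of_flat_lfp_surjective h𝒳 (isAlgStack_fp h𝒴.isStack h𝒴.diag h𝒳 h𝒳 f f)
    hd.1 hd.2.1 hd.2.2
  haveI := Fib44.isIso_of_fibGrpd 𝒴.p h𝒴.isStack.1 (𝟙 (𝒳.p.obj x)) b
  let w : (fp f f).obj := Fib44.fpMk x x' (asIso b) hb
  refine Fib44.OnCover.mono (Fib44.onCover_obj hD w (U := 𝒳.p.obj x) rfl) ?_
  rintro W k ⟨x₀, g, hg⟩
  have hψ := BasedFunctor.preserves_isHomLift (fpSnd f f) k g
  have hw : f.map g.hom.fst ≫ b = 𝟙 _ ≫ f.map g.hom.snd := g.hom.w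
  rw [Category.id_comp] at hw
  exact ⟨x₀, g.hom.fst, g.hom.snd, BasedFunctor.preserves_isHomLift (fpFst f f) k g, hψ, hw⟩

theorem isGerbeOver_iff (h𝒳 : IsAlgStack Scheme.fppfPrecoverage 𝒳)
    (h𝒴 : IsAlgStack Scheme.fppfPrecoverage 𝒴) (f : 𝒳 ⥤ᵇ 𝒴) :
    Gerb.IsGerbeOver (QuotSh.J Scheme.fppfPrecoverage S) f ↔
      (AlgSt.IsSurjective f ∧ LocQ (AlgSp.LocP @Flat) f ∧
        LocQ (AlgSp.LocP @LocallyOfFinitePresentation) f) ∧
      (AlgSt.IsSurjective (FibCat.diag f) ∧ LocQ (AlgSp.LocP @Flat) (FibCat.diag f) ∧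
        LocQ (AlgSp.LocP @LocallyOfFinitePresentation) (FibCat.diag f)) :=
  ⟨fun h => ⟨gerbe_surjective_flat_lfp h𝒳 h𝒴 h,
      (gerbe_diag_repFppf h𝒳 h𝒴 h).locQ h𝒳 (isAlgStack_fp h𝒴.isStack h𝒴.diag h𝒳 h𝒳 f f)⟩,
    fun h => isGerbeOver_of_flat_lfp h𝒳 h𝒴 h.1 h.2⟩

theorem locQ_inertiaToBase (h𝒳 : IsAlgStack Scheme.fppfPrecoverage 𝒳)
    (h𝒴 : IsAlgStack Scheme.fppfPrecoverage 𝒴) {f : 𝒳 ⥤ᵇ 𝒴}
    (hf : Gerb.IsGerbeOver (QuotSh.J Scheme.fppfPrecoverage S) f) :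
    LocQ (AlgSp.LocP @Flat) (inertiaToBase f) ∧
      LocQ (AlgSp.LocP @LocallyOfFinitePresentation) (inertiaToBase f) := by
  have hX := h𝒳.isStack.1
  have hD := gerbe_diag_repFppf h𝒳 h𝒴 hf
  have hF := isAlgStack_fp h𝒴.isStack h𝒴.diag h𝒳 h𝒳 f f
  have hFF := isAlgStack_fp hF.isStack hF.diag h𝒳 h𝒳 (FibCat.diag f) (FibCat.diag f)
  obtain ⟨G, hG, -, -⟩ := isEquivOver_inverse (isEquivOver_inertiaToFp hX f)
  have hI := isAlgStack_of_equiv hG hFF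
  exact (RepFppf.locQ ⟨repByAlgSpWith_inertiaToBase hX f hD.flat, repByAlgSpWith_inertiaToBase hX f hD.lfp,
    repByAlgSpWith_inertiaToBase hX f hD.surj⟩ hI h𝒳).2

theorem fpComparison_locQ (h𝒳 : IsAlgStack Scheme.fppfPrecoverage 𝒳)
    (h𝒴 : IsAlgStack Scheme.fppfPrecoverage 𝒴) {f : 𝒳 ⥤ᵇ 𝒴}
    (hf : Gerb.IsGerbeOver (QuotSh.J Scheme.fppfPrecoverage S) f)
    (T₁ T₂ : AlgSp.Space S) (x₁ : ofSp T₁.obj ⥤ᵇ 𝒳) (x₂ : ofSp T₂.obj ⥤ᵇ 𝒳)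
    (e : BasedFunctor.comp (fpFst x₁ x₂) (BasedFunctor.comp x₁ f) ≅
      BasedFunctor.comp (fpSnd x₁ x₂) (BasedFunctor.comp x₂ f))
    (he : ∀ a, e.hom.toNatTrans.app a = f.map a.obj.iso.hom) :
    AlgSt.IsSurjective (fpLift (fpFst x₁ x₂) (fpSnd x₁ x₂) e) ∧
      LocQ (AlgSp.LocP @Flat) (fpLift (fpFst x₁ x₂) (fpSnd x₁ x₂) e) ∧
      LocQ (AlgSp.LocP @LocallyOfFinitePresentation) (fpLift (fpFst x₁ x₂) (fpSnd x₁ x₂) e) := by
  have hD := gerbe_diag_repFppf h𝒳 h𝒴 hf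
  refine RepFppf.locQ ⟨repByAlgSpWith_fpComparison x₁ x₂ e he hD.flat,
    repByAlgSpWith_fpComparison x₁ x₂ e he hD.lfp, repByAlgSpWith_fpComparison x₁ x₂ e he hD.surj⟩
    (isAlgStack_fp h𝒳.isStack h𝒳.diag (isDM_ofSp T₁).1 (isDM_ofSp T₂).1 x₁ x₂)
    (isAlgStack_fp h𝒴.isStack h𝒴.diag (isDM_ofSp T₁).1 (isDM_ofSp T₂).1 _ _)

/-- A flat, locally finitely presented morphism of algebraic stacks is open. -/
theorem isOpenMap_of_locQ (h𝒳 : IsAlgStack Scheme.fppfPrecoverage 𝒳)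
    (h𝒴 : IsAlgStack Scheme.fppfPrecoverage 𝒴) {f : 𝒳 ⥤ᵇ 𝒴} (hf₁ : LocQ (AlgSp.LocP @Flat) f)
    (hf₂ : LocQ (AlgSp.LocP @LocallyOfFinitePresentation) f) : IsOpenMap (Points.map f) := by
  have hX := h𝒳.isStack.1
  have hY := h𝒴.isStack.1
  obtain ⟨V, y, hy, hy'⟩ := exists_space_atlas h𝒴
  obtain ⟨U, l, hl, hl'⟩ := exists_lift_chart h𝒳 h𝒴 f (V := spY V) y
  let x := BasedFunctor.comp l (fpFst f y)
  let h := homOfBased (BasedFunctor.comp l (fpSnd f y))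
  have hU := Stk.isFibGrpd_ofPsh (spY U).obj.obj
  have hC := isFibGrpd_fp hX (Stk.isFibGrpd_ofPsh (spY V).obj.obj) hY f y
  have hxs : AlgSt.IsSurjective x :=
    isSurjective_of_sj hX (repByAlgSpWith_surj_comp hU hC hl' (repByAlgSpWith_fpFst f hy'))
  have h1 := (spQ_of_locQ hf₁).prop smoothLocal_flat hX hY (U := spY U) (V := spY V) y l hy hl
  have h2 := (spQ_of_locQ hf₂).prop smoothLocal_lfp hX hY (U := spY U) (V := spY V) y l hy hl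
  have ho : IsOpenMap (AlgSp.Points.map h) :=
    SpFP87.isOpenMap_of_locP_flat_lfp (spY U).property (spY V).property h1 h2
  obtain ⟨γ⟩ := exists_hom_iso (BasedFunctor.comp l (fpSnd f y))
  have key : ∀ τ, Points.map f (Points.map x (stPt _ τ)) = Points.map y (stPt _ (AlgSp.Points.map h τ)) := by
    intro τ
    rw [← stPt_natural, ← points_map_congr γ, ← points_map_comp, ← points_map_comp]
    exact points_map_congr (bLeft l (fpIso f y)) _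
  intro A hA
  have hB : IsOpen (stPt (spY U).obj ⁻¹' (Points.map x ⁻¹' A)) :=
    (hA.preimage (continuous_map h𝒳 x)).preimage (isHomeomorph_stPt (spY U)).continuous
  have e : Points.map f '' A = Points.map y '' (stPt (spY V).obj '' (AlgSp.Points.map h ''
      (stPt (spY U).obj ⁻¹' (Points.map x ⁻¹' A)))) := by
    ext z
    constructor
    · rintro ⟨w, hw, rfl⟩
      obtain ⟨υ, rfl⟩ := hxs w
      obtain ⟨τ, rfl⟩ := stPt_bijective.2 υ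
      exact ⟨_, ⟨_, ⟨τ, hw, rfl⟩, rfl⟩, (key τ).symm⟩
    · rintro ⟨_, ⟨_, ⟨τ, hτ, rfl⟩, rfl⟩, rfl⟩
      exact ⟨_, hτ, key τ⟩
  rw [e]
  exact isOpenMap_of_flat_lfp hY (U := spY V) y (rep_flat_of_sm hy) (rep_lfp_of_sm hy) _
    ((isHomeomorph_stPt (spY V)).isOpenMap _ (ho _ hB))

theorem isUnivHomeo_of_gerbe (h𝒳 : IsAlgStack Scheme.fppfPrecoverage 𝒳)
    (h𝒴 : IsAlgStack Scheme.fppfPrecoverage 𝒴) {f : 𝒳 ⥤ᵇ 𝒴}
    (hf : Gerb.IsGerbeOver (QuotSh.J Scheme.fppfPrecoverage S) f) :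
    IsUnivHomeo Scheme.fppfPrecoverage f := by
  intro 𝒵 h𝒵 g
  have hP := isAlgStack_fp h𝒴.isStack h𝒴.diag h𝒵 h𝒳 g f
  obtain ⟨hs, h1, h2⟩ := gerbe_surjective_flat_lfp hP h𝒵
    (isGerbeOver_fpFst h𝒳.isStack.1 h𝒴.isStack.1 h𝒵.isStack.1 g hf)
  refine ⟨continuous_map h𝒵 _, isOpenMap_of_locQ hP h𝒵 h1 h2, ?_, hs⟩
  exact isUnivInjective_of_surjective_diag h𝒳.isStack.1 h𝒴.isStack.1 f
    ((gerbe_diag_repFppf h𝒳 h𝒴 hf).isSurjective (isFibGrpd_fp h𝒳.isStack.1 h𝒳.isStack.1 h𝒴.isStack.1 f f))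
    𝒵 h𝒵 g

end Groth.Agent.Gerb44
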