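import Groth.Agent.Gerb44.GerbeFlat
import Groth.Agent.Gerb44.GerbeProps
import Groth.Agent.AlgSt88.QCMorSt
import Groth.Agent.AlgSt88.QCOverS
import Groth.Agent.AlgSt88.FppfDescent
import Groth.Agent.AlgSt88.Self
import Groth.Agent.SpFP87.Covers

/-!
Quasi-compactness of the diagonal passes to the base of a gerbe.
-/

set_option autoImplicit false
set_option maxHeartbeats 1000000
set_option linter.style.haveILetI false
set_option backward.isDefEq.respectTransparency false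
set_option backward.isDefEq.respectTransparency.types false
universe u

open CategoryTheory CategoryTheory.Limits AlgebraicGeometry Opposite AlgSt FibCat
open Groth.Agent.AlgSt88

namespace Groth.Agent.Gerb44

variable {S : Scheme.{u}} {𝒳 𝒴 : AlgSt.Cat S}

theorem isSurjective_fpMapFst_family {ι : Type*} {T : Over S} {W : ι → Over S} (c : ∀ j, W j ⟶ T)
    (hc : ∀ t : ↥T.left, ∃ j, t ∈ Set.range (c j).left) {𝒵 : AlgSt.Cat S} (hY : IsFibGrpd 𝒴.p)
    (hZ : IsFibGrpd 𝒵.p) (t : overCat T ⥤ᵇ 𝒴) (g : 𝒵 ⥤ᵇ 𝒴) (w : Points (fp t g)) :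
    ∃ j, w ∈ Set.range (Points.map (fpMapFst t g (overMap (c j)))) := by
  obtain ⟨a, ha⟩ := (points_map_bijective (isEquivOver_toOverCat T)).2 (Points.map (fpFst t g) w)
  obtain ⟨a, rfl⟩ := stPt_bijective.2 a
  obtain ⟨a, rfl⟩ := (AlgSp.Points.schemeHomeo T).surjective a
  obtain ⟨j, b, rfl⟩ := hc a
  refine ⟨j, ?_⟩
  obtain ⟨s, hs⟩ : ∃ s, Points.map (overMap (c j)) s = Points.map (fpFst t g) w := by
    refine ⟨Points.map (toOverCat (W j)) (stPt _ (AlgSp.Points.schemeHomeo (W j) b)), ?_⟩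
    obtain ⟨i⟩ := toOver_overMap (c j)
    rw [← points_map_comp, points_map_congr i, points_map_comp, stPt_natural, ← ha]
    exact congrArg (fun q => Points.map (toOverCat T) (stPt _ q)) (AlgSp.Points.map_yon_map_apply (c j) b)
  obtain ⟨v, -, hv⟩ := exists_points_fp (isFibGrpd_overCat T)
    (isFibGrpd_fp (isFibGrpd_overCat T) hZ hY t g) (isFibGrpd_overCat (W j)) (fpFst t g) (overMap (c j)) s w hs
  refine ⟨Points.map (fpPaste (overMap (c j)) t g) v, ?_⟩
  rw [← points_map_comp, ← hv]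
  exact points_map_congr (fpNatIso
    (Φ := BasedFunctor.comp (fpPaste (overMap (c j)) t g) (fpMapFst t g (overMap (c j))))
    (Ψ := fpSnd (overMap (c j)) (fpFst t g))
    (fpIso (overMap (c j)) (fpFst t g)) (Iso.refl _) (fun x => (by
      change t.map x.obj.iso.hom ≫ x.obj.snd.obj.iso.hom =
        (t.map x.obj.iso.hom ≫ x.obj.snd.obj.iso.hom) ≫ g.map (𝟙 _)
      rw [g.map_id, Category.comp_id]))) v

theorem isQuasiCompactMor_diag_of_gerbe (h𝒳 : IsAlgStack Scheme.fppfPrecoverage 𝒳)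
    (h𝒴 : IsAlgStack Scheme.fppfPrecoverage 𝒴) (f : 𝒳 ⥤ᵇ 𝒴)
    (hf : Gerb.IsGerbeOver (QuotSh.J Scheme.fppfPrecoverage S) f)
    (hΔ : IsQuasiCompactMor Scheme.fppfPrecoverage (diag (toSelf 𝒳))) :
    IsQuasiCompactMor Scheme.fppfPrecoverage (diag (toSelf 𝒴)) := by
  have hS := isAlgStack_selfOver (S := S)
  have hX := h𝒳.isStack.1
  have hY := h𝒴.isStack.1
  have hXX := isAlgStack_fp hS.isStack hS.diag h𝒳 h𝒳 (toSelf 𝒳) (toSelf 𝒳)
  have hYY := isAlgStack_fp hS.isStack hS.diag h𝒴 h𝒴 (toSelf 𝒴) (toSelf 𝒴)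
  have hff := isAlgStack_fp h𝒴.isStack h𝒴.diag h𝒳 h𝒳 f f
  let q := fpToProd f f
  have hq : IsQuasiCompactMor Scheme.fppfPrecoverage q := by
    refine isQuasiCompactMor_of_surjective h𝒳 hff hXX
      ((gerbe_diag_repFppf h𝒳 h𝒴 hf).isSurjective hff.isStack.1) ?_
    refine isQuasiCompactMor_of_iso (fpNatIso (Φ := diag (toSelf 𝒳)) (Ψ := BasedFunctor.comp (diag f) q)
      (Iso.refl _) (Iso.refl _) (fun x => ?_)) hΔ
    refine self_hom_ext (𝟙 (𝒳.p.obj x)) ?_ ?_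
    · change (selfOver _).p.IsHomLift _ ((toSelf 𝒳).map (𝟙 x) ≫ _)
      rw [(toSelf 𝒳).map_id, Category.id_comp]
      exact ((BasedFunctor.comp (diag f) q).obj x).property
    · change (selfOver _).p.IsHomLift _ (_ ≫ (toSelf 𝒳).map (𝟙 x))
      rw [(toSelf 𝒳).map_id, Category.comp_id]
      exact ((diag (toSelf 𝒳)).obj x).property
  let P := prodMap f f
  let E := fpToDiag f f
  have hE : IsEquivOver E := isEquivOver_fpToDiag f f
  have hPD := isAlgStack_fp hYY.isStack hYY.diag hXX h𝒴 P (diag (toSelf 𝒴))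
  have hb : IsQuasiCompactMor Scheme.fppfPrecoverage (fpFst P (diag (toSelf 𝒴))) :=
    isQuasiCompactMor_of_surjective hff hPD hXX (surjective_of_equiv hE)
      (isQuasiCompactMor_of_iso (f := q) (Iso.refl _) hq)
  refine isQuasiCompactMor_of_affine h𝒴 hYY fun T hT t => ?_
  haveI := hT
  have hTY := isAlgStack_fp hYY.isStack hYY.diag (isAlgStack_overCat T) h𝒴 t (diag (toSelf 𝒴))
  let t₁ := BasedFunctor.comp t (fpFst (toSelf 𝒴) (toSelf 𝒴))
  let t₂ := BasedFunctor.comp t (fpSnd (toSelf 𝒴) (toSelf 𝒴))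
  have lifts : ∀ s : overCat T ⥤ᵇ 𝒴, ∃ R ∈ (QuotSh.J Scheme.fppfPrecoverage S) T,
      ∀ ⦃V : Over S⦄ (c : V ⟶ T), R.arrows c →
        ∃ x : overCat V ⥤ᵇ 𝒳, Nonempty (BasedFunctor.comp x f ≅ BasedFunctor.comp (overMap c) s) := by
    intro s
    obtain ⟨R, hR, hl⟩ := hf.1 (s.obj (Fib44.idObj T))
    have hb : 𝒴.p.obj (s.obj (Fib44.idObj T)) = T := s.w_obj _
    refine ⟨R.pullback (eqToHom hb.symm), (QuotSh.J _ S).pullback_stable _ hR, fun V c hc => ?_⟩
    obtain ⟨ξ, φ, hφ⟩ := hl (c ≫ eqToHom hb.symm) hc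
    haveI := hφ
    have hξ : 𝒳.p.obj ξ = V :=
      (f.w_obj ξ).symm.trans (IsHomLift.domain_eq 𝒴.p (c ≫ eqToHom hb.symm) φ)
    obtain ⟨ε, hε⟩ := classify_mk_id hX ξ hξ
    haveI := hε
    haveI : 𝒴.p.IsHomLift c φ :=
      IsHomLift.of_fac' _ _ _ (IsHomLift.domain_eq 𝒴.p (c ≫ eqToHom hb.symm) φ) hb
        (by rw [IsHomLift.fac' 𝒴.p (c ≫ eqToHom hb.symm) φ]; simp)
    exact ⟨classify hX ξ hξ, nonempty_iso_of_lift hY (BasedFunctor.comp (classify hX ξ hξ) f) s c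
      (f.map ε.hom ≫ φ) inferInstance⟩
  obtain ⟨R₁, hR₁, hl₁⟩ := lifts t₁
  obtain ⟨R₂, hR₂, hl₂⟩ := lifts t₂
  obtain ⟨V, c, hcR, hcfl, hcs⟩ := exists_fppf_members ((QuotSh.J _ S).intersection_covering hR₁ hR₂)
  obtain ⟨m, i, W, hW, hWs⟩ := SpFP87.exists_affine_opens_cover (fun a => (c a).left)
    (fun a => by
      haveI := (hcfl a).1
      haveI := (hcfl a).2
      exact (c a).left.isOpenMap) (fun a => ⟨a, hcs a⟩)
  let W' : Fin m → Over S := fun j => Over.mk ((W j).ι ≫ (V (i j)).hom)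
  let ι' : ∀ j, W' j ⟶ V (i j) := fun j => Over.homMk (W j).ι rfl
  let c' : ∀ j, W' j ⟶ T := fun j => ι' j ≫ c (i j)
  have hcov : ∀ a : ↥T.left, ∃ j, a ∈ Set.range (c' j).left := hWs
  have hcpt : ∀ j, CompactSpace (Points (fp (BasedFunctor.comp (overMap (c' j)) t) (diag (toSelf 𝒴)))) := by
    intro j
    haveI : IsAffine (W' j).left := hW j
    obtain ⟨x₁, ⟨α₁⟩⟩ := hl₁ (c' j) (R₁.downward_closed (hcR (i j)).1 (ι' j))
    obtain ⟨x₂, ⟨α₂⟩⟩ := hl₂ (c' j) (R₂.downward_closed (hcR (i j)).2 (ι' j))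
    let x : overCat (W' j) ⥤ᵇ fp (toSelf 𝒳) (toSelf 𝒳) := fpLift x₁ x₂ (selfIso _ _)
    let γ : BasedFunctor.comp x P ≅ BasedFunctor.comp (overMap (c' j)) t :=
      fpNatIso (Φ := BasedFunctor.comp x P) (Ψ := BasedFunctor.comp (overMap (c' j)) t) α₁ α₂ (fun a => by
        refine self_hom_ext (𝟙 a.left) ?_ ?_
        · haveI : 𝒴.p.IsHomLift (𝟙 a.left) (α₁.hom.toNatTrans.app a) := α₁.hom.isHomLift' a
          haveI h1 : (selfOver _).p.IsHomLift (𝟙 a.left) ((toSelf 𝒴).map (α₁.hom.toNatTrans.app a)) :=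
            @BasedFunctor.preserves_isHomLift _ _ _ _ (toSelf 𝒴) _ _ _ _ _ _ this
          have h2 : (selfOver _).p.IsHomLift (𝟙 a.left) ((BasedFunctor.comp (overMap (c' j)) t).obj a).obj.iso.hom :=
            Fib44.lift_id_of_eq _ ((BasedFunctor.comp (overMap (c' j)) t).w_obj a)
              ((BasedFunctor.comp (overMap (c' j)) t).obj a).property
          exact @IsHomLift.comp_of_lift_id _ _ _ _ (selfOver _).p _ _ _ _ _ _ h1 h2
        · haveI : 𝒴.p.IsHomLift (𝟙 a.left) (α₂.hom.toNatTrans.app a) := α₂.hom.isHomLift' a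
          haveI h1 : (selfOver _).p.IsHomLift (𝟙 a.left) ((toSelf 𝒴).map (α₂.hom.toNatTrans.app a)) :=
            @BasedFunctor.preserves_isHomLift _ _ _ _ (toSelf 𝒴) _ _ _ _ _ _ this
          have h2 : (selfOver _).p.IsHomLift (𝟙 a.left) ((BasedFunctor.comp x P).obj a).obj.iso.hom :=
            Fib44.lift_id_of_eq _ ((BasedFunctor.comp x P).w_obj a) ((BasedFunctor.comp x P).obj a).property
          exact @IsHomLift.comp_of_lift_id _ _ _ _ (selfOver _).p _ _ _ _ _ _ h2 h1)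
    haveI := compactSpace_of_isQuasiCompactMor hPD hXX hb (isAlgStack_overCat (W' j))
      (isQuasiCompact_overCat (W' j)) x
    have h2 := isAlgStack_fp hYY.isStack hYY.diag (isAlgStack_overCat (W' j)) h𝒴
      (BasedFunctor.comp (overMap (c' j)) t) (diag (toSelf 𝒴))
    exact compactSpace_of_surjective h2
      (BasedFunctor.comp (fpPaste x P (diag (toSelf 𝒴))) (fpCongr γ (Iso.refl _)))
      (surjective_of_equiv (isEquivOver_comp (isEquivOver_fpPaste x P _) (isEquivOver_fpCongr γ _)))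
  refine ⟨?_⟩
  have hU : (Set.univ : Set (Points (fp t (diag (toSelf 𝒴))))) =
      ⋃ j, Set.range (Points.map (fpMapFst t (diag (toSelf 𝒴)) (overMap (c' j)))) := by
    refine (Set.eq_univ_of_forall fun w => Set.mem_iUnion.2 ?_).symm
    exact isSurjective_fpMapFst_family c' hcov hYY.isStack.1 hY t _ w
  rw [hU]
  exact isCompact_iUnion fun j => @isCompact_range _ _ _ _ (hcpt j) _ (continuous_map hTY _)

end Groth.Agent.Gerb44
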