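import Groth.Agent.Gerb44.GerbeFlat

/-!
Gerbes of algebraic stacks are smooth.
-/

set_option autoImplicit false
set_option maxHeartbeats 1000000
set_option linter.style.haveILetI false
set_option backward.isDefEq.respectTransparency false
set_option backward.isDefEq.respectTransparency.types false
universe u

open CategoryTheory CategoryTheory.Limits AlgebraicGeometry Opposite AlgSt FibCat
open Groth.Agent.AlgSt88

namespace Groth.Agent.Gerb44

variable {S : Scheme.{u}} {𝒳 𝒴 : AlgSt.Cat S}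

theorem isLocalOnBase_smooth :
    AlgSp.IsLocalOnBase (AlgSp.IsFppfCover (S := S)) (AlgSp.LocP @Smooth) :=
  fppf_local_of_fpqc SpFP87.isLocalOnBase_fpqc_locP

theorem gerbe_smooth (h𝒳 : IsAlgStack Scheme.fppfPrecoverage 𝒳)
    (h𝒴 : IsAlgStack Scheme.fppfPrecoverage 𝒴) {f : 𝒳 ⥤ᵇ 𝒴}
    (hf : Gerb.IsGerbeOver (QuotSh.J Scheme.fppfPrecoverage S) f) :
    LocQ (AlgSp.LocP @Smooth) f := by
  obtain ⟨W, z, s, hz, ⟨α⟩⟩ := exists_local_section h𝒳 h𝒴 hf
  have hW := (isDM_ofSp (spY W)).1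
  have hP := isAlgStack_fp h𝒴.isStack h𝒴.diag hW h𝒳 z f
  have hπ := isGerbeOver_fpFst h𝒳.isStack.1 h𝒴.isStack.1 hW.isStack.1 z hf
  let σ : ofSch W ⥤ᵇ fp z f := fpLift (BasedFunctor.id (ofSch W)) s α
  have hσ : RepFppf σ := repFppf_section (U := spY W) hP (fpFst z f) hπ σ (Iso.refl _)
  obtain ⟨s1, s2, s3⟩ := hσ.locQ hW hP
  have hid : Sm (BasedFunctor.id (ofSch W)) := sm_equiv (isEquivOver_id _)
  have h1 : LocQ (AlgSp.LocP @Smooth) (fpFst z f) := locQ_of_precomp smoothLocal_smooth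
    (fun {U V T} a b h1 h2 h3 h => SpFP87.locP_smooth_of_fppf_comp (AlgSp.IsAlgSpace.yon_obj U)
      (AlgSp.IsAlgSpace.yon_obj V) (AlgSp.IsAlgSpace.yon_obj T) h3 h1 h2 h)
    hW hP hW s2 s3 s1 ((locQ_iff_repByAlgSpWith smoothLocal_smooth (stableBC_locP _) isLocalOnBase_smooth
      hW hW (repByAlgSp1_of_with hid)).2 hid)
  obtain ⟨z1, z2, z3⟩ := hz.locQ hW h𝒴
  exact spQ_of_fpFst smoothLocal_smooth isLocalOnBase_smooth h𝒳 h𝒴 hW z (spQ_of_locQ z2) (spQ_of_locQ z3)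
    z1 (spQ_of_locQ h1)

end Groth.Agent.Gerb44
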