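import Groth.Agent.Gerb44.GerbeFlat
import Groth.Agent.AlgSt88.MonoFull
import Groth.Agent.Fib44.StackEquiv
import Groth.Agent.SpFP87.FieldMono
import Groth.Agent.AlgSt88.QCMorSt

/-!
Factorisation of field-valued points and of locally factoring objects through monomorphisms of stacks.
-/

set_option autoImplicit false
set_option maxHeartbeats 1000000
set_option linter.style.haveILetI false
set_option backward.isDefEq.respectTransparency false
set_option backward.isDefEq.respectTransparency.types false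
universe u

open CategoryTheory CategoryTheory.Limits AlgebraicGeometry Opposite AlgSt FibCat
open Groth.Agent.AlgSt88

namespace Groth.Agent.Gerb44

variable {S : Scheme.{u}} {𝒵' 𝒵 : AlgSt.Cat S}

/-- An object lying locally in the image of a fully faithful functor of stacks lies in the essential image. -/
theorem exists_preimage_of_locally {J : GrothendieckTopology (Over S)} (h' : Stk.IsStack J 𝒵')
    (h : Stk.IsPrestack J 𝒵) (F : 𝒵' ⥤ᵇ 𝒵) [F.toFunctor.Full] [F.toFunctor.Faithful] (y : 𝒵.obj)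
    (hl : ∃ R ∈ J (𝒵.p.obj y), ∀ ⦃V : Over S⦄ (f : V ⟶ 𝒵.p.obj y), R f →
      ∃ (x : 𝒵'.obj) (φ : F.obj x ⟶ y), 𝒵.p.IsHomLift f φ) :
    ∃ (x : 𝒵'.obj) (k : F.obj x ≅ y), 𝒵.p.IsHomLift (𝟙 (𝒵.p.obj y)) k.hom := by
  obtain ⟨R, hR, hl⟩ := hl
  obtain ⟨H, δ, hδ⟩ := Fib44.exists_descent_of_fullyFaithful h.1 F (R := R) rfl hl
  obtain ⟨x, γ, hγ⟩ := ((Fib44.isStack_iff.mp h').2 R hR).2 H
  obtain ⟨k, hk, -⟩ := Fib44.exists_glue_iso h.1 ((Fib44.isPrestack_iff.mp h).2 R hR) (hγ.map F) hδ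
  exact ⟨x, k, hk⟩

/-- A slice over the spectrum of a field has exactly one point. -/
theorem nonempty_points_overCat {T : Over S} [Nonempty ↥T.left] : Nonempty (Points (overCat T)) :=
  ⟨Points.map (toOverCat T) (stPt _ (AlgSp.Points.schemeHomeo T (Classical.arbitrary _)))⟩

theorem subsingleton_points_overCat {T : Over S} [Subsingleton ↥T.left] : Subsingleton (Points (overCat T)) :=
  ⟨fun a b => by
    obtain ⟨a, rfl⟩ := (points_map_bijective (isEquivOver_toOverCat T)).2 a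
    obtain ⟨b, rfl⟩ := (points_map_bijective (isEquivOver_toOverCat T)).2 b
    obtain ⟨a, rfl⟩ := stPt_bijective.2 a
    obtain ⟨b, rfl⟩ := stPt_bijective.2 b
    obtain ⟨a, rfl⟩ := (AlgSp.Points.schemeHomeo T).surjective a
    obtain ⟨b, rfl⟩ := (AlgSp.Points.schemeHomeo T).surjective b
    rw [Subsingleton.elim a b]⟩

/-- A morphism factors through a monomorphism once the base change of the latter is an isomorphism. -/
theorem exists_factor_of_isIso {f : 𝒵' ⥤ᵇ 𝒵} {T : Over S} {y : overCat T ⥤ᵇ 𝒵} {F : AlgSp.Sp S}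
    (e : ofSp F ⥤ᵇ fp y f) (hm : IsIso (spMapOfOver (BasedFunctor.comp e (fpFst y f)))) :
    ∃ q : overCat T ⥤ᵇ 𝒵', Nonempty (BasedFunctor.comp q f ≅ y) := by
  let m := spMapOfOver (BasedFunctor.comp e (fpFst y f))
  let s : overCat T ⥤ᵇ fp y f :=
    BasedFunctor.comp (ofOverCat T) (BasedFunctor.comp (ofSpMap (inv m)) e)
  obtain ⟨k, ⟨ι⟩⟩ := exists_overMap_iso (BasedFunctor.comp s (fpFst y f))
  have hk := toOver_overMap_hom k _ ι
  have h1 : spMapOfOver (BasedFunctor.comp (toOverCat T) (BasedFunctor.comp s (fpFst y f))) = 𝟙 _ := by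
    refine (spMapOfOver_congr (bRight (sliceIso T)
      (BasedFunctor.comp (ofSpMap (inv m)) (BasedFunctor.comp e (fpFst y f))))).trans ?_
    change spMapOfOver (BasedFunctor.comp (ofSpMap (inv m)) (BasedFunctor.comp e (fpFst y f))) = _
    rw [spMapOfOver_comp, homOfBased_ofSpMap]
    exact IsIso.inv_hom_id m
  have hk' : k = 𝟙 T := (AlgSp.yon S).map_injective (by rw [← hk, h1, (AlgSp.yon S).map_id])
  subst hk'
  obtain ⟨δ⟩ : Nonempty (overMap (𝟙 T) ≅ BasedFunctor.id (overCat T)) :=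
    nonempty_iso_of_app_id (isFibGrpd_overCat T) (Over.isoMk (Iso.refl _) (by simp [overMap]; rfl))
      (IsHomLift.of_fac' _ _ _ rfl rfl (by simp [overCat]; rfl))
  exact ⟨BasedFunctor.comp s (fpSnd y f),
    ⟨(bLeft s (fpIso y f)).symm ≪≫ bRight (ι ≪≫ δ) y⟩⟩

/-- A point in the image of a monomorphism factors through it. -/
theorem exists_factor_field (hX : IsFibGrpd 𝒵'.p) (hY : IsFibGrpd 𝒵.p) {f : 𝒵' ⥤ᵇ 𝒵} (hf : AlgSt.IsMono f)
    {k : Type u} [Field k] {str : Spec (CommRingCat.of k) ⟶ S} (y : overCat (Over.mk str) ⥤ᵇ 𝒵)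
    {t : Points (overCat (Over.mk str))} {x : Points 𝒵'} (ht : Points.map f x = Points.map y t) :
    ∃ q : overCat (Over.mk str) ⥤ᵇ 𝒵', Nonempty (BasedFunctor.comp q f ≅ y) := by
  obtain ⟨F, e, he, hm⟩ := hf (Over.mk str) y
  obtain ⟨w, -, -⟩ := exists_points_fp hY hX (isFibGrpd_overCat _) f y t x ht.symm
  obtain ⟨w', -⟩ := (points_map_bijective he).2 w
  haveI : Mono (spMapOfOver (BasedFunctor.comp e (fpFst y f))) := hm
  exact exists_factor_of_isIso e (SpFP87.isIso_of_mono_to_field str F.property _ (spPt _ w'))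

/-- A monomorphism from a nonempty stack to one with an fppf field chart is an equivalence. -/
theorem isEquivOver_of_mono_fppf_field (h' : IsAlgStack Scheme.fppfPrecoverage 𝒵')
    (h : IsAlgStack Scheme.fppfPrecoverage 𝒵) {f : 𝒵' ⥤ᵇ 𝒵} (hf : AlgSt.IsMono f)
    (hne : Nonempty (Points 𝒵')) {k : Type u} [Field k] {str : Spec (CommRingCat.of k) ⟶ S}
    {z : overCat (Over.mk str) ⥤ᵇ 𝒵} (hz : RepFppf z) : IsEquivOver f := by
  have hX := h'.isStack.1
  have hY := h.isStack.1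
  haveI := full_of_isMono hX hY hf
  haveI := faithful_of_isMono hX hY hf
  obtain ⟨p⟩ := hne
  obtain ⟨t, ht⟩ := hz.isSurjective hY (Points.map f p)
  obtain ⟨q, ⟨α⟩⟩ := exists_factor_field hX hY hf z ht.symm
  have hT := isAlgStack_overCat (Over.mk str)
  obtain ⟨z1, z2, z3⟩ := hz.locQ hT h
  refine Fib44.isEquivOver_of_locally_essSurj h'.isStack (Fib44.isPrestack_of_isStack h.isStack) f fun y => ?_
  obtain ⟨R, hR, hl⟩ := locSurjObj_of_flat_lfp_surjective hT h z1 z2 z3 y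
  refine ⟨R, hR, fun V g hg => ?_⟩
  obtain ⟨a, φ, hφ⟩ := hl g hg
  haveI := hφ
  have hd : 𝒵.p.obj (z.obj a) = V := IsHomLift.domain_eq 𝒵.p g φ
  haveI : 𝒵.p.IsHomLift (𝟙 V) (α.hom.toNatTrans.app a) :=
    α.hom.isHomLift ((z.w_obj a).symm.trans hd)
  exact ⟨q.obj a, (α.hom.toNatTrans.app a : f.obj (q.obj a) ⟶ z.obj a) ≫ φ, inferInstance⟩

end Groth.Agent.Gerb44
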