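import Groth.Agent.Gerb44.AlgGerbeIff
import Groth.Agent.Gerb44.ResGerbe
import Groth.Agent.AlgSt88.DiagLFT2
import Groth.Agent.S13038

/-!
A reduced locally Noetherian stack with one point is a gerbe over such an algebraic space.
-/

set_option autoImplicit false
set_option maxHeartbeats 1000000
set_option linter.style.haveILetI false
set_option backward.isDefEq.respectTransparency false
set_option backward.isDefEq.respectTransparency.types false
universe u

open CategoryTheory CategoryTheory.Limits AlgebraicGeometry Opposite AlgSt FibCat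
open Groth.Agent.AlgSt88

namespace Groth.Agent.Gerb44

variable {S : Scheme.{u}} {𝒵 : AlgSt.Cat S}

theorem inertia_flat_lfp_of_fieldPoint (h : IsAlgStack Scheme.fppfPrecoverage 𝒵) {k : Type u} [Field k]
    {str : Spec (CommRingCat.of k) ⟶ S} {z : overCat (Over.mk str) ⥤ᵇ 𝒵} (hz : RepFppf z) :
    LocQ (AlgSp.LocP @Flat) (inertiaToBase (toSelf 𝒵)) ∧
      LocQ (AlgSp.LocP @LocallyOfFinitePresentation) (inertiaToBase (toSelf 𝒵)) := by
  have hX := h.isStack.1
  have hS := isAlgStack_selfOver (S := S)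
  have hXX := isAlgStack_fp hS.isStack hS.diag h h (toSelf 𝒵) (toSelf 𝒵)
  have hFF := isAlgStack_fp hXX.isStack hXX.diag h h (diag (toSelf 𝒵)) (diag (toSelf 𝒵))
  obtain ⟨G, hG, -, -⟩ := isEquivOver_inverse (isEquivOver_inertiaToFp hX (toSelf 𝒵))
  have hI := isAlgStack_of_equiv hG hFF
  have hl := repByAlgSpWith_inertiaToBase hX (toSelf 𝒵) (lft_diag_toSelf h)
  have hr : RepByAlgSp1 (inertiaToBase (toSelf 𝒵)) := repByAlgSp1_of_with hl
  let K : Over S := Over.mk str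
  let z₁ : ofSch K ⥤ᵇ 𝒵 := BasedFunctor.comp (toOverCat K) z
  have hz₁ : ∀ {P : MorphismProperty (AlgSp.Sp S)}, RepByAlgSpWith P z → RepByAlgSpWith P z₁ :=
    fun hP => (repByAlgSpWith_precomp_equiv (isEquivOver_toOverCat K)).2 hP
  obtain ⟨F, a, e, he, ⟨α⟩, -⟩ := exists_space_fp hI.isStack.1 hX hr (spY K) z₁
  have hf : RepByAlgSpWith (AlgSp.LocP @Flat) (inertiaToBase (toSelf 𝒵)) := by
    refine repByAlgSpWith_of_repSp_cover hI.isStack.1 hX (stableBC_locP _) isLocalOnBase_flat hr (spY K) z₁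
      (hz₁ hz.flat) (hz₁ hz.lfp) (hz₁ hz.surj) ⟨F, e, he, ?_⟩
    rw [homOfBased_congr α, homOfBased_ofSpMap]
    exact locP_flat_to_field a
  have hp := lfp_of_lft h (smoothLocally_noetherian_of_field h hz) hI.isStack.1 hl
  exact ⟨(locQ_iff_repByAlgSpWith smoothLocal_flat (stableBC_locP _) isLocalOnBase_flat hI h hr).2 hf,
    (locQ_iff_repByAlgSpWith smoothLocal_lfp (stableBC_locP _) isLocalOnBase_lfp hI h hr).2 hp⟩

theorem props_of_gerbe_field (h : IsAlgStack Scheme.fppfPrecoverage 𝒵) {k : Type u} [Field k]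
    {str : Spec (CommRingCat.of k) ⟶ S} {z : overCat (Over.mk str) ⥤ᵇ 𝒵} (hz : RepFppf z)
    (X : AlgSp.Space S) (π : 𝒵 ⥤ᵇ ofSp X.obj)
    (hπ : Gerb.IsGerbeOver (QuotSh.J Scheme.fppfPrecoverage S) π) :
    AlgSp.EtaleLocally (fun T => IsReduced T) X.obj ∧ AlgSp.IsLocNoethSp X.obj ∧
      Nonempty (AlgSp.Points X.obj) ∧ Subsingleton (AlgSp.Points X.obj) := by
  let K : Over S := Over.mk str
  let z₁ : ofSch K ⥤ᵇ 𝒵 := BasedFunctor.comp (toOverCat K) z
  let m : ofSch K ⥤ᵇ ofSp X.obj := BasedFunctor.comp z₁ π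
  have hz₁ : RepFppf z₁ := ⟨(repByAlgSpWith_precomp_equiv (isEquivOver_toOverCat K)).2 hz.flat,
    (repByAlgSpWith_precomp_equiv (isEquivOver_toOverCat K)).2 hz.lfp,
    (repByAlgSpWith_precomp_equiv (isEquivOver_toOverCat K)).2 hz.surj⟩
  have hK := (isDM_ofSp (spY K)).1
  have hX := (isDM_ofSp X).1
  obtain ⟨z1, z2, z3⟩ := hz₁.locQ hK h
  obtain ⟨p1, p2, p3⟩ := gerbe_surjective_flat_lfp h hX hπ
  have hm : RepByAlgSp1 m := repByAlgSp1_from_space hX.isStack.1
    ((diag_iff hX.isStack.1).1 hX.diag) (repByAlgSp_ofSp (spY K)) m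
  have hf : RepByAlgSpWith (AlgSp.LocP @Flat) m :=
    (locQ_iff_repByAlgSpWith smoothLocal_flat (stableBC_locP _) isLocalOnBase_flat hK hX hm).1
      (S13038.result S _ smoothLocal_flat (fun _ _ _ a b c _ _ ha hb => SpFP87.locP_comp a b c ha hb)
        _ _ _ hK h hX z₁ π z2 p2)
  have hp : RepByAlgSpWith (AlgSp.LocP @LocallyOfFinitePresentation) m :=
    (locQ_iff_repByAlgSpWith smoothLocal_lfp (stableBC_locP _) isLocalOnBase_lfp hK hX hm).1
      (S13038.result S _ smoothLocal_lfp (fun _ _ _ a b c _ _ ha hb => SpFP87.locP_comp a b c ha hb)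
        _ _ _ hK h hX z₁ π z3 p3)
  have hs : Sj m := sj_of_isSurjective (Stk.isFibGrpd_ofPsh _) hX.isStack.1 hm (surjective_comp z1 p1)
  exact (SpFP87.reduced_locNoeth_singleton_iff X.property).2 ⟨k, inferInstance, str,
    homOfBased (F := (AlgSp.yon S).obj K) (G := X.obj) m,
    prop_homOfBased (F := spY K) (G := X) (respectsIso_locP _) (spaceDescends_locP _) hp,
    prop_homOfBased (F := spY K) (G := X) (respectsIso_locP _) (spaceDescends_locP _) hf,
    prop_homOfBased (F := spY K) (G := X) respectsIso_surj spaceDescends_surj hs⟩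

theorem exists_gerbe_of_point (h : IsAlgStack Scheme.fppfPrecoverage 𝒵) (hz : HasFppfPoint 𝒵) :
    ∃ (Z : AlgSp.Space S) (π : 𝒵 ⥤ᵇ ofSp Z.obj),
      Gerb.IsGerbeOver (QuotSh.J Scheme.fppfPrecoverage S) π ∧
        AlgSp.EtaleLocally (fun T => IsReduced T) Z.obj ∧ AlgSp.IsLocNoethSp Z.obj ∧
        Nonempty (AlgSp.Points Z.obj) ∧ Subsingleton (AlgSp.Points Z.obj) := by
  obtain ⟨k, _, str, z, hz⟩ := hz
  obtain ⟨X, π, hπ⟩ := (isAlgGerbe_iff h).2 (inertia_flat_lfp_of_fieldPoint h hz)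
  exact ⟨X, π, hπ, props_of_gerbe_field h hz X π hπ⟩

end Groth.Agent.Gerb44
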