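import Groth.Agent.Gerb44.GerbeProps
import Groth.Agent.AlgSt88.CompP
import Groth.Agent.AlgSt88.PointsRel
import Groth.Agent.SpFP87.Residual
import Groth.Agent.SpFP87.PointSpace

/-!
Residual gerbes of gerbes over algebraic spaces.
-/

set_option autoImplicit false
set_option maxHeartbeats 1000000
set_option linter.style.haveILetI false
set_option backward.isDefEq.respectTransparency false
set_option backward.isDefEq.respectTransparency.types false
universe u

open CategoryTheory CategoryTheory.Limits AlgebraicGeometry Opposite AlgSt FibCat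
open Groth.Agent.AlgSt88

namespace Groth.Agent.Gerb44

variable {S : Scheme.{u}} {𝒳 : AlgSt.Cat S}

theorem resGerbeExists_of_gerbe (h : IsAlgStack Scheme.fppfPrecoverage 𝒳) (X : AlgSp.Space S)
    (π : 𝒳 ⥤ᵇ ofSp X.obj) (hπ : Gerb.IsGerbeOver (QuotSh.J Scheme.fppfPrecoverage S) π) (x : Points 𝒳) :
    Gerb.ResGerbeExists Scheme.fppfPrecoverage 𝒳 x := by
  have hX := (isDM_ofSp X).1
  obtain ⟨y, hy⟩ := stPt_bijective.2 (Points.map π x)
  obtain ⟨Q, i, hi, hr, hk⟩ := SpFP87.exists_residualSpace X.property y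
  have hQ := (isDM_ofSp Q).1
  obtain ⟨-, -, hne, hsub⟩ := (SpFP87.reduced_locNoeth_singleton_iff Q.property).2 hk
  obtain ⟨q⟩ := hne
  let m : ofSp Q.obj ⥤ᵇ ofSp X.obj := ofSpMap i
  have huh := isUnivHomeo_of_gerbe h hX hπ
  have hbij := (huh _ hQ m).bijective
  have hinj : Function.Injective (Points.map π) := by
    intro a b hab
    let j : ofSp X.obj ⥤ᵇ ofSp X.obj := BasedFunctor.id _
    obtain ⟨v, hv, hv'⟩ := exists_points_fp hX.isStack.1 h.isStack.1 hX.isStack.1 π j _ a
      (points_map_id (Points.map π a))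
    obtain ⟨w, hw, hw'⟩ := exists_points_fp hX.isStack.1 h.isStack.1 hX.isStack.1 π j _ b
      (points_map_id (Points.map π b))
    rw [← hv', ← hw', (huh _ hX j).injective (hv.trans (hab.trans hw.symm))]
  have hiq : ∀ p : Points (ofSp Q.obj), Points.map m p = Points.map π x := by
    intro p
    obtain ⟨p, rfl⟩ := stPt_bijective.2 p
    rw [← hy, show Points.map m (stPt Q.obj p) = _ from stPt_natural i p]
    exact congrArg _ ((hr ▸ Set.mem_range_self p : AlgSp.Points.map i p ∈ ({y} : Set _)))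
  have hm : AlgSt.IsMono m := repByAlgSpWith_ofSpMap
    (P := MorphismProperty.monomorphisms (AlgSp.Sp S)) (fun _ _ _ _ _ _ _ _ _ _ _ _ sq hf => MorphismProperty.of_isPullback sq hf)
    inferInstance i hi
  refine ⟨fp m π, fpSnd m π, isAlgStack_fp hX.isStack hX.diag hQ h m π,
    repByAlgSpWith_fpSnd π hm, ⟨(hbij.2 (stPt _ q)).choose⟩, ⟨fun a b => hbij.1 ?_⟩, fun z => hinj ?_⟩
  · obtain ⟨a', ha⟩ := stPt_bijective.2 (Points.map (fpFst m π) a)
    obtain ⟨b', hb⟩ := stPt_bijective.2 (Points.map (fpFst m π) b)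
    rw [← ha, ← hb, hsub.elim a' b']
  · rw [← hiq (Points.map (fpFst m π) z), ← points_map_comp, ← points_map_comp]
    exact (points_map_congr (fpIso m π) z).symm

end Groth.Agent.Gerb44
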