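import Groth.Agent.Gerb44.RedFactor
import Groth.Agent.Gerb44.DenseGerbe
import Groth.Agent.Gerb44.ResGerbeOfGerbe
import Groth.Agent.AlgSt88.PointsBasic

/-!
Closed substacks on points, and residual gerbes of stacks with quasi-compact inertia.
-/

set_option autoImplicit false
set_option maxHeartbeats 1000000
set_option linter.style.haveILetI false
set_option backward.isDefEq.respectTransparency false
set_option backward.isDefEq.respectTransparency.types false
universe u

open CategoryTheory CategoryTheory.Limits AlgebraicGeometry Opposite AlgSt FibCat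
open Groth.Agent.AlgSt88

namespace Groth.Agent.Gerb44

variable {S : Scheme.{u}} {𝒳 𝒵 : AlgSt.Cat S}

theorem exists_scheme_of_closedImm {F : AlgSp.Sp S} {V : Over S} (a : F ⟶ (AlgSp.yon S).obj V)
    (ha : AlgSp.RepWith @IsClosedImmersion a) :
    ∃ (D : Over S) (d : D ⟶ V) (θ : (AlgSp.yon S).obj D ≅ F),
      IsClosedImmersion d.left ∧ θ.hom ≫ a = (AlgSp.yon S).map d := by
  have sq := ha.1.isPullback (𝟙 ((AlgSp.yon S).obj V))
  haveI : IsIso (ha.1.fst (𝟙 ((AlgSp.yon S).obj V))) := sq.isIso_fst_of_isIso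
  exact ⟨_, ha.1.snd (𝟙 _), asIso (ha.1.fst (𝟙 ((AlgSp.yon S).obj V))), ha.2 (𝟙 _) _ _ sq,
    sq.w.trans (Category.comp_id _)⟩

theorem isClosedMap_of_closedImm (h : IsAlgStack Scheme.fppfPrecoverage 𝒳)
    (h𝒵 : IsAlgStack Scheme.fppfPrecoverage 𝒵) (i : 𝒵 ⥤ᵇ 𝒳) (hi : IsClosedImm i) :
    IsClosedMap (Points.map i) := by
  intro K hK
  have hX := h.isStack.1
  obtain ⟨U, y, hy, hy'⟩ := h.atlas
  have hq := (isOpenMap_ofChart hX y (rep_flat_of_sm hy) (rep_lfp_of_sm hy)).isQuotientMap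
    (continuous_ofChart h y) (surjective_ofChart hX y hy')
  refine hq.isClosed_preimage.1 ?_
  obtain ⟨F, e, he, ha⟩ := hi U y
  obtain ⟨D, d, θ, hd, hθ⟩ := exists_scheme_of_closedImm _ ha
  haveI := hd
  let m : ofSch D ⥤ᵇ fp y i := BasedFunctor.comp (ofSpMap θ.hom) e
  let φ : ↥D.left → Points (fp y i) := fun o => Points.map m (stPt _ (AlgSp.Points.schemeHomeo D o))
  have hfp := isAlgStack_fp h.isStack h.diag (isAlgStack_overCat U) h𝒵 y i
  have hφ : Continuous φ := (continuous_map hfp m).comp ((isHomeomorph_stPt (spY D)).continuous.comp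
    (AlgSp.Points.schemeHomeo D).continuous)
  have hφs : Function.Surjective φ := fun w => by
    obtain ⟨w', rfl⟩ := (points_map_bijective he).2 w
    obtain ⟨w'', rfl⟩ := stPt_bijective.2 w'
    obtain ⟨o, ho⟩ := (AlgSp.Points.schemeHomeo D).surjective (AlgSp.Points.map θ.inv w'')
    refine ⟨o, ?_⟩
    have h2 : AlgSp.Points.map θ.hom (AlgSp.Points.schemeHomeo D o) = w'' := by
      rw [ho, ← AlgSp.Points.map_comp, Iso.inv_hom_id, AlgSp.Points.map_id]
    change Points.map (BasedFunctor.comp (ofSpMap θ.hom) e) _ = _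
    rw [points_map_comp]
    exact congrArg (Points.map e) ((stPt_natural _ _).trans (congrArg (stPt _) h2))
  let ψ : ↥U.left → Points (overCat U) :=
    fun t => Points.map (toOverCat U) (stPt _ (AlgSp.Points.schemeHomeo U t))
  have hψ : Function.Injective ψ := (points_map_bijective (isEquivOver_toOverCat U)).1.comp
    (stPt_bijective.1.comp (AlgSp.Points.schemeHomeo U).injective)
  have hfst : ∀ o, Points.map (fpFst y i) (φ o) = ψ (d.left o) := by
    intro o
    obtain ⟨α⟩ := exists_hom_iso (BasedFunctor.comp (BasedFunctor.comp m (fpFst y i)) (ofOverCat U))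
    let β : BasedFunctor.comp (ofOverCat U) (toOverCat U) ≅ BasedFunctor.id (overCat U) :=
      BasedNatIso.mkNatIso
        (NatIso.ofComponents (fun a => Iso.refl _)
          (fun {a b} f => Over.OverMorphism.ext ((Category.comp_id _).trans (Category.id_comp _).symm)))
        (fun a => IsHomLift.id rfl)
    have h1 : homOfBased (F := (AlgSp.yon S).obj D) (G := (AlgSp.yon S).obj U)
        (BasedFunctor.comp (BasedFunctor.comp m (fpFst y i)) (ofOverCat U)) = (AlgSp.yon S).map d := by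
      rw [← hθ, spMapOfOver_eq]
      refine (homOfBased_comp (ofSpMap θ.hom) (BasedFunctor.comp (BasedFunctor.comp e (fpFst y i)) (ofOverCat U))).trans ?_
      rw [homOfBased_ofSpMap]
    rw [← points_map_comp]
    refine (points_map_congr (bLeft (BasedFunctor.comp m (fpFst y i)) β) _).symm.trans ?_
    refine (points_map_congr (bRight α (toOverCat U)) _).trans ?_
    rw [points_map_comp]
    refine congrArg (Points.map (toOverCat U)) ?_
    rw [h1]
    exact (stPt_natural _ _).trans (congrArg (stPt _) (AlgSp.Points.map_yon_map_apply d o))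
  have key : Points.ofChart y ⁻¹' (Points.map i '' K) =
      d.left '' ((fun o => Points.map (fpSnd y i) (φ o)) ⁻¹' K) := by
    ext t
    constructor
    · rintro ⟨k, hk, hkt⟩
      obtain ⟨w, hw1, hw2⟩ := exists_points_fp hX h𝒵.isStack.1 (isFibGrpd_overCat U) i y (ψ t) k (by
        rw [hkt, ofChart_eq, ← points_map_comp]
        rfl)
      obtain ⟨o, rfl⟩ := hφs w
      exact ⟨o, by simpa [hw2] using hk, hψ ((hfst o).symm.trans hw1)⟩
    · rintro ⟨o, ho, rfl⟩
      refine ⟨_, ho, ?_⟩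
      rw [← points_map_comp, ← points_map_congr (fpIso y i), points_map_comp, hfst, ofChart_eq,
        ← points_map_comp]
      rfl
  rw [key]
  exact d.left.isClosedEmbedding.isClosedMap _ (hK.preimage ((continuous_map h𝒵 _).comp hφ))

theorem isClosedEmbedding_subIncl (h : IsAlgStack Scheme.fppfPrecoverage 𝒳) {Q : 𝒳.obj → Prop}
    (hQ : IsClosedSubstack 𝒳 Q Scheme.fppfPrecoverage) :
    Topology.IsClosedEmbedding (Points.map (subIncl 𝒳 Q)) := by
  haveI : (subIncl 𝒳 Q).toFunctor.Full := inferInstanceAs (ObjectProperty.ι Q).Full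
  exact Topology.IsClosedEmbedding.of_continuous_injective_isClosedMap (continuous_map h _)
    (points_map_injective hQ.2.1.isStack.1 h.isStack.1 _) (isClosedMap_of_closedImm h hQ.2.1 _ hQ.2.2)

theorem isQuasiCompactMor_inertia_sub (Q : 𝒳.obj → Prop)
    (hI : IsQuasiCompactMor Scheme.fppfPrecoverage (inertiaToBase (toSelf 𝒳))) :
    IsQuasiCompactMor Scheme.fppfPrecoverage (inertiaToBase (toSelf (fullSub 𝒳 Q))) := fun 𝒲 hW hq g => by
  have h1 := isQuasiCompactMor_fpFst (subIncl 𝒳 Q) hI 𝒲 hW hq g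
  obtain ⟨E, hE, -, -⟩ := isEquivOver_inverse (isEquivOver_fpMapSnd g
    (fpFst (subIncl 𝒳 Q) (inertiaToBase (toSelf 𝒳))) (inertiaSubFp (𝒳 := 𝒳) Q) (isEquivOver_inertiaSubFp Q))
  exact isQuasiCompact_of_equiv hE h1

theorem resGerbeExists_of_mono (h : IsAlgStack Scheme.fppfPrecoverage 𝒳)
    (h𝒵 : IsAlgStack Scheme.fppfPrecoverage 𝒵) (i : 𝒵 ⥤ᵇ 𝒳) (hi : AlgSt.IsMono i) (x : Points 𝒵)
    (hx : Gerb.ResGerbeExists Scheme.fppfPrecoverage 𝒵 x) :
    Gerb.ResGerbeExists Scheme.fppfPrecoverage 𝒳 (Points.map i x) := by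
  obtain ⟨𝒢, j, hG, hj, hne, hsub, hjx⟩ := hx
  exact ⟨𝒢, BasedFunctor.comp j i, hG, isMono_comp hG.isStack.1 h𝒵.isStack.1 hj hi, hne, hsub,
    fun z => by rw [points_map_comp, hjx]⟩

theorem resGerbeExists_of_qc_inertia (h : IsAlgStack Scheme.fppfPrecoverage 𝒳)
    (hI : IsQuasiCompactMor Scheme.fppfPrecoverage (inertiaToBase (toSelf 𝒳))) (x : Points 𝒳) :
    Gerb.ResGerbeExists Scheme.fppfPrecoverage 𝒳 x := by
  obtain ⟨Q, hQ, hpts, hred⟩ := exists_reduced_closedSubstack h (closure {x}) isClosed_closure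
  let incl := subIncl 𝒳 Q
  obtain ⟨x', hx'⟩ : x ∈ Set.range (Points.map incl) := hpts ▸ subset_closure rfl
  have hemb := isClosedEmbedding_subIncl h hQ
  have hgen : closure ({x'} : Set (Points (fullSub 𝒳 Q))) = Set.univ := by
    rw [hemb.isEmbedding.closure_eq_preimage_closure_image, Set.image_singleton, hx']
    exact Set.eq_univ_of_forall fun p => hpts.subset ⟨p, rfl⟩
  obtain ⟨P, hP, hdense, X, π, hπ⟩ :=
    exists_dense_open_gerbe hQ.2.1 hred (isQuasiCompactMor_inertia_sub Q hI)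
  have hopen := isOpen_range_substack hQ.2.1 hP
  haveI : Nonempty (Points (fullSub 𝒳 Q)) := ⟨x'⟩
  obtain ⟨p, hp⟩ := hdense.nonempty
  obtain ⟨_, hmem, rfl⟩ := mem_closure_iff.1 (hgen.symm.subset (Set.mem_univ p)) _ hopen hp
  obtain ⟨x'', hx''⟩ := hmem
  haveI : incl.toFunctor.Full := inferInstanceAs (ObjectProperty.ι Q).Full
  haveI : incl.toFunctor.Faithful := inferInstanceAs (ObjectProperty.ι Q).Faithful
  haveI : (subIncl (fullSub 𝒳 Q) P).toFunctor.Full := inferInstanceAs (ObjectProperty.ι P).Full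
  haveI : (subIncl (fullSub 𝒳 Q) P).toFunctor.Faithful := inferInstanceAs (ObjectProperty.ι P).Faithful
  rw [← hx', ← hx'']
  exact resGerbeExists_of_mono h hQ.2.1 incl (isMono_of_fullyFaithful hQ.2.1 h) _
    (resGerbeExists_of_mono hQ.2.1 hP.2.1 _ (isMono_of_fullyFaithful hP.2.1 hQ.2.1) _
      (resGerbeExists_of_gerbe hP.2.1 X π hπ x''))

end Groth.Agent.Gerb44
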