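import Groth.Agent.Gerb44.RedSubstack
import Groth.Agent.Gerb44.GerbeProps
import Groth.Agent.SpFP87.FpqcMono

/-!
Morphisms from reduced stacks factor through closed substacks on points.
-/

set_option autoImplicit false
set_option maxHeartbeats 1000000
set_option linter.style.haveILetI false
set_option backward.isDefEq.respectTransparency false
set_option backward.isDefEq.respectTransparency.types false
universe u

open CategoryTheory CategoryTheory.Limits AlgebraicGeometry Opposite AlgSt FibCat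
open Groth.Agent.AlgSt88

namespace Groth.Agent.Gerb44

variable {S : Scheme.{u}} {𝒳 𝒴 : AlgSt.Cat S}

theorem isIso_of_closedImm_surjective {F : AlgSp.Sp S} {V : Over S} [IsReduced V.left]
    (a : F ⟶ (AlgSp.yon S).obj V) (ha : AlgSp.RepWith @IsClosedImmersion a)
    (hs : AlgSp.IsSurjectiveMor a) : IsIso a := by
  have sq := ha.1.isPullback (𝟙 ((AlgSp.yon S).obj V))
  have hc : IsClosedImmersion (ha.1.snd (𝟙 ((AlgSp.yon S).obj V))).left := ha.2 (𝟙 _) _ _ sq
  haveI : IsIso (ha.1.fst (𝟙 ((AlgSp.yon S).obj V))) := sq.isIso_fst_of_isIso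
  haveI : Surjective (ha.1.snd (𝟙 ((AlgSp.yon S).obj V))).left :=
    surjective_left_of_map _ (SpFP87.isSurjectiveMor_baseChange sq hs)
  haveI := hc
  haveI : IsIso (ha.1.snd (𝟙 ((AlgSp.yon S).obj V))).left := isIso_of_isClosedImmersion_of_surjective _
  haveI : IsIso ((Over.forget S).map (ha.1.snd (𝟙 ((AlgSp.yon S).obj V)))) :=
    inferInstanceAs (IsIso (ha.1.snd (𝟙 ((AlgSp.yon S).obj V))).left)
  haveI : IsIso (ha.1.snd (𝟙 ((AlgSp.yon S).obj V))) := isIso_of_reflects_iso _ (Over.forget S)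
  have : IsIso (ha.1.fst (𝟙 ((AlgSp.yon S).obj V)) ≫ a) := by
    rw [sq.w, Category.comp_id]
    infer_instance
  exact IsIso.of_isIso_comp_left (ha.1.fst (𝟙 ((AlgSp.yon S).obj V))) a

theorem factors_iff_points (h𝒳 : IsAlgStack Scheme.fppfPrecoverage 𝒳)
    (h𝒴 : IsAlgStack Scheme.fppfPrecoverage 𝒴) (hred : SmoothLocally (fun X => IsReduced X) 𝒴)
    (Q : 𝒳.obj → Prop) (hQ : IsClosedSubstack 𝒳 Q Scheme.fppfPrecoverage) (f : 𝒴 ⥤ᵇ 𝒳) :
    (∀ y : 𝒴.obj, Q (f.obj y)) ↔
      Set.range (Points.map f) ⊆ Set.range (Points.map (subIncl 𝒳 Q)) := by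
  obtain ⟨hiso, hZ, hcl⟩ := hQ
  have hX := h𝒳.isStack.1
  let incl := subIncl 𝒳 Q
  refine ⟨fun h => ?_, fun h y₀ => ?_⟩
  · rintro _ ⟨p, rfl⟩
    exact ⟨Points.map (liftSub f h) p, (points_map_comp (liftSub f h) incl p).symm⟩
  haveI : incl.toFunctor.Full := inferInstanceAs (ObjectProperty.ι Q).Full
  haveI : incl.toFunctor.Faithful := inferInstanceAs (ObjectProperty.ι Q).Faithful
  obtain ⟨V, v, hv, hv'⟩ := h𝒴.atlas
  haveI : IsReduced V.left := hred V v hv
  let x := BasedFunctor.comp v f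
  obtain ⟨F, e, he, ha⟩ := hcl V x
  let a := spMapOfOver (BasedFunctor.comp e (fpFst x incl))
  haveI : IsIso a := by
    refine isIso_of_closedImm_surjective a ha fun p => ?_
    obtain ⟨t, rfl⟩ := (AlgSp.Points.schemeHomeo V).surjective p
    obtain ⟨q, hq⟩ := h ⟨Points.map v (Points.map (toOverCat V) (stPt _ (AlgSp.Points.schemeHomeo V t))), rfl⟩
    obtain ⟨w, hw, -⟩ := exists_points_fp hX hZ.isStack.1 (isFibGrpd_overCat V) incl x
      (Points.map (toOverCat V) (stPt _ (AlgSp.Points.schemeHomeo V t))) q (by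
        rw [points_map_comp]; exact hq.symm)
    obtain ⟨w', hw'⟩ := (points_map_bijective he).2 w
    obtain ⟨w'', rfl⟩ := stPt_bijective.2 w'
    refine ⟨w'', stPt_bijective.1 ((points_map_bijective (isEquivOver_toOverCat V)).1 ?_)⟩
    rw [← stPt_natural, ← hw, ← hw', ← points_map_comp, ← points_map_comp]
    change Points.map (BasedFunctor.comp (ofSpMap (spMapOfOver (BasedFunctor.comp e (fpFst x incl))))
      (toOverCat V)) _ = _
    rw [spMapOfOver_eq]
    obtain ⟨α⟩ := exists_hom_iso (BasedFunctor.comp (BasedFunctor.comp e (fpFst x incl)) (ofOverCat V))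
    let β : BasedFunctor.comp (ofOverCat V) (toOverCat V) ≅ BasedFunctor.id (overCat V) :=
      BasedNatIso.mkNatIso
        (NatIso.ofComponents (fun a => Iso.refl _)
          (fun {a b} f => Over.OverMorphism.ext ((Category.comp_id _).trans (Category.id_comp _).symm)))
        (fun a => IsHomLift.id rfl)
    exact points_map_congr ((bRight α (toOverCat V)).symm ≪≫ bLeft (BasedFunctor.comp e (fpFst x incl)) β) _
  obtain ⟨q, ⟨i⟩⟩ := exists_factor_of_isIso (f := incl) (y := x) e ‹_›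
  have hQ' : ∀ b, Q (x.obj b) := fun b =>
    hiso.of_iso (⟨i.hom.toNatTrans.app b, i.inv.toNatTrans.app b,
      congrArg (fun t => t.toNatTrans.app b) i.hom_inv_id, congrArg (fun t => t.toNatTrans.app b) i.inv_hom_id⟩ :
        incl.obj (q.obj b) ≅ x.obj b) (q.obj b).property
  have hV := isAlgStack_overCat V
  obtain ⟨z1, z2, z3⟩ := (⟨rep_flat_of_sm hv, rep_lfp_of_sm hv, hv'⟩ : RepFppf v).locQ hV h𝒴
  obtain ⟨R, hR, hl⟩ := locSurjObj_of_flat_lfp_surjective hV h𝒴 z1 z2 z3 y₀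
  obtain ⟨ξ, k, -⟩ := exists_preimage_of_locally hZ.isStack (Fib44.isPrestack_of_isStack h𝒳.isStack) incl
    (f.obj y₀) ⟨R.pullback (eqToHom (f.w_obj y₀)), (QuotSh.J _ S).pullback_stable _ hR, fun W c hc => by
      obtain ⟨b, g, hg⟩ := hl (c ≫ eqToHom (f.w_obj y₀)) hc
      haveI := hg
      refine ⟨⟨x.obj b, hQ' b⟩, f.map g, ?_⟩
      refine IsHomLift.of_fac' _ _ _ ((f.w_obj _).trans (IsHomLift.domain_eq 𝒴.p (c ≫ eqToHom (f.w_obj y₀)) g))
        rfl ?_
      rw [p_map_eq, IsHomLift.fac' 𝒴.p (c ≫ eqToHom (f.w_obj y₀)) g]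
      simp⟩
  exact hiso.of_iso k ξ.property

theorem eq_of_reduced_points (h𝒳 : IsAlgStack Scheme.fppfPrecoverage 𝒳)
    (hred : SmoothLocally (fun X => IsReduced X) 𝒳) (Q : 𝒳.obj → Prop)
    (hQ : IsClosedSubstack 𝒳 Q Scheme.fppfPrecoverage)
    (hpts : Set.range (Points.map (subIncl 𝒳 Q)) = Set.univ) (y : 𝒳.obj) : Q y :=
  (factors_iff_points h𝒳 h𝒳 hred Q hQ (BasedFunctor.id 𝒳)).2 (hpts ▸ Set.subset_univ _) y

end Groth.Agent.Gerb44
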