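import Groth.Agent.Gerb44.MonoFactor
import Groth.Agent.Gerb44.GerbeProps
import Groth.Agent.Gerb44.SubInertia
import Groth.Agent.AlgSt88.RepCrit
import Groth.Agent.AlgSt88.Bootstrap
import Groth.Agent.AlgSt88.SmoothLoc
import Groth.Agent.AlgSt88.QC
import Groth.Agent.AlgSt88.DiagDescent
import Groth.Agent.Csa25.SBStable
import Groth.Agent.SpFP87.RedInduced
import Groth.Agent.SpFP87.RepDescProps
import Groth.Agent.Fib44.StackFp

/-!
The reduced closed substack on a closed set of points of an algebraic stack.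
-/

set_option autoImplicit false
set_option maxHeartbeats 1000000
set_option linter.style.haveILetI false
set_option backward.isDefEq.respectTransparency false
set_option backward.isDefEq.respectTransparency.types false
universe u

open CategoryTheory CategoryTheory.Limits AlgebraicGeometry Opposite AlgSt FibCat
open Groth.Agent.AlgSt88

namespace Groth.Agent.Gerb44

variable {S : Scheme.{u}} {𝒳 : AlgSt.Cat S}

theorem isReduced_smoothLocal (U : Scheme.{u}) (R : Presieve U) (hR : R ∈ Scheme.precoverage @Smooth U) :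
    IsReduced U ↔ ∀ ⦃V : Scheme.{u}⦄ (g : V ⟶ U), R g → IsReduced V := by
  obtain ⟨κ, Y, f, rfl⟩ := Presieve.exists_eq_ofArrows R
  obtain ⟨hj, hs⟩ := (Scheme.ofArrows_mem_precoverage_iff _).1 hR
  refine ⟨fun h V g hg => ?_, fun h => ?_⟩
  · obtain ⟨i⟩ := hg
    haveI := hs i
    exact SpFP87.isReduced_of_smooth (f i)
  · haveI : ∀ y, _root_.IsReduced (U.presheaf.stalk y) := fun y => by
      obtain ⟨i, x, rfl⟩ := hj y
      haveI := h (f i) ⟨i⟩
      haveI : Smooth (f i) := hs i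
      letI := ((f i).stalkMap x).hom.toAlgebra
      haveI : Module.Flat (U.presheaf.stalk ((f i) x)) ((Y i).presheaf.stalk x) := Flat.stalkMap (f i) x
      haveI : IsLocalHom (algebraMap (U.presheaf.stalk ((f i) x)) ((Y i).presheaf.stalk x)) :=
        inferInstanceAs (IsLocalHom ((f i).stalkMap x).hom)
      haveI := Module.FaithfullyFlat.of_flat_of_isLocalHom (A := U.presheaf.stalk ((f i) x))
        (B := (Y i).presheaf.stalk x)
      exact isReduced_of_injective ((f i).stalkMap x).hom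
        (FaithfulSMul.algebraMap_injective (U.presheaf.stalk ((f i) x)) ((Y i).presheaf.stalk x))
    exact isReduced_of_isReduced_stalk U

theorem isLocalOnBase_closedImm :
    AlgSp.IsLocalOnBase (AlgSp.IsFppfCover (S := S)) (AlgSp.RepWith @IsClosedImmersion) :=
  fppf_local_of_fpqc SpFP87.isLocalOnBase_fpqc_closedImmersion

theorem stableBC_repWith_closedImm : StableBC (S := S) (AlgSp.RepWith @IsClosedImmersion) :=
  fun _ _ _ _ _ _ _ _ _ _ _ _ sq h => (AlgSp.repWith_isStableUnderBaseChange _).of_isPullback sq h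

theorem exists_factor_of_locally {U C : Over S} (ι : C ⟶ U) [Mono ι] {W : Over S} (l : W ⟶ U)
    {R : Sieve W} (hR : R ∈ (QuotSh.J Scheme.fppfPrecoverage S) W)
    (h : ∀ ⦃V : Over S⦄ (c : V ⟶ W), R.arrows c → ∃ k : V ⟶ C, k ≫ ι = c ≫ l) :
    ∃ k : W ⟶ C, k ≫ ι = l := by
  haveI : (overMap ι).toFunctor.Full := ⟨fun {a b} g => ⟨Over.homMk g.left
    ((cancel_mono ι).1 ((Category.assoc _ _ _).trans (Over.w g))), Over.OverMorphism.ext rfl⟩⟩
  haveI : (overMap ι).toFunctor.Faithful :=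
    ⟨fun {a b} f g e => Over.OverMorphism.ext (congrArg (fun t => t.left) e :)⟩
  obtain ⟨x, e, -⟩ := exists_preimage_of_locally
    ((isAlgStack_overCat C).isStack)
    (Fib44.isPrestack_of_isStack (isAlgStack_overCat U).isStack) (overMap ι) (Over.mk l)
    ⟨R, hR, fun V c hc => by
      obtain ⟨k, hk⟩ := h c hc
      exact ⟨Over.mk k, (Over.homMk c hk.symm : (Over.map ι).obj (Over.mk k) ⟶ Over.mk l),
        IsHomLift.of_fac' _ _ _ rfl rfl (by simp [overCat]; rfl)⟩⟩
  exact ⟨e.inv.left ≫ x.hom, (Category.assoc _ _ _).trans (Over.w e.inv)⟩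

/-- Objects all of whose lifts to a chart factor through a given subobject. -/
def FactorProp {U C : Over S} (y : overCat U ⥤ᵇ 𝒳) (ι : C ⟶ U) (ξ : 𝒳.obj) : Prop :=
  ∀ (a : Over U), (y.obj a ⟶ ξ) → ∃ k : a.left ⟶ C, k ≫ ι = a.hom

variable {U C : Over S} (y : overCat U ⥤ᵇ 𝒳) (ι : C ⟶ U)

theorem factorProp_of_hom {η ξ : 𝒳.obj} (ψ : η ⟶ ξ) (h : FactorProp y ι ξ) : FactorProp y ι η :=
  fun a φ => h a (φ ≫ ψ)

theorem factorProp_iso : ObjectProperty.IsClosedUnderIsomorphisms (FactorProp y ι) :=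
  ⟨fun e h => factorProp_of_hom y ι e.inv h⟩

theorem factorProp_local [Mono ι] (hX : IsFibGrpd 𝒳.p) {x : 𝒳.obj} {R : Sieve (𝒳.p.obj x)}
    (hR : R ∈ (QuotSh.J Scheme.fppfPrecoverage S) (𝒳.p.obj x))
    (h : ∀ ⦃V : Over S⦄ (f : V ⟶ 𝒳.p.obj x), R f → ∀ (z : 𝒳.obj) (φ : z ⟶ x), 𝒳.p.IsHomLift f φ →
      FactorProp y ι z) : FactorProp y ι x := by
  intro a φ
  let b : a.left ⟶ 𝒳.p.obj x := eqToHom (y.w_obj a).symm ≫ 𝒳.p.map φ
  refine exists_factor_of_locally ι a.hom ((QuotSh.J _ S).pullback_stable b hR) fun V c hc => ?_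
  let a' : Over U := Over.mk (c ≫ a.hom)
  let m : a' ⟶ a := Over.homMk c rfl
  refine h (c ≫ b) hc (y.obj a') (y.map m ≫ φ) ?_ a' (𝟙 _)
  refine IsHomLift.of_fac' _ _ _ (y.w_obj a') rfl ?_
  rw [Functor.map_comp, p_map_eq]
  simp [b, m, overCat]
  rfl

theorem isStack_factor [Mono ι] (h : Stk.IsStack (QuotSh.J Scheme.fppfPrecoverage S) 𝒳) :
    Stk.IsStack (QuotSh.J Scheme.fppfPrecoverage S) (fullSub 𝒳 (FactorProp y ι)) := by
  refine Fib44.isStack_fullSubcategory h (FactorProp y ι)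
    (fun z x ψ hx => ⟨z, Iso.refl z, factorProp_of_hom y ι ψ hx, IsHomLift.id rfl⟩) fun W R hR x hxW hl => ?_
  subst hxW
  refine ⟨x, Iso.refl x, factorProp_local y ι h.1 hR fun V f hf z φ hφ => ?_, IsHomLift.id rfl⟩
  obtain ⟨z', e, hz', -⟩ := hl f hf z φ hφ
  exact (factorProp_iso y ι).of_iso e.symm hz'

/-- A closed subscheme of a chart cut out by a set of points of the stack is invariant. -/
theorem factor_invariant [IsClosedImmersion ι.left] [IsReduced C.left] {T : Set (Points 𝒳)}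
    (hr : ∀ u : ↥U.left, u ∈ Set.range ι.left ↔ Points.ofChart y u ∈ T) {A : Over S} (t s : A ⟶ U)
    [Smooth t.left] (hpts : ∀ z : ↥A.left, Points.ofChart y (t.left z) = Points.ofChart y (s.left z))
    {W : Over S} (x : W ⟶ A) (k : W ⟶ C) (hk : k ≫ ι = x ≫ t) : ∃ k' : W ⟶ C, k' ≫ ι = x ≫ s := by
  haveI : IsReduced (pullback ι.left t.left) := SpFP87.isReduced_of_smooth (pullback.fst ι.left t.left)
  have hsub : Set.range (pullback.snd ι.left t.left ≫ s.left) ⊆ Set.range ι.left := by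
    rintro _ ⟨z, rfl⟩
    rw [Scheme.Hom.comp_apply, hr, ← hpts, ← hr]
    exact ⟨pullback.fst ι.left t.left z, by
      rw [← Scheme.Hom.comp_apply, pullback.condition, Scheme.Hom.comp_apply]⟩
  obtain ⟨k₂, hk₂⟩ := SpFP87.exists_lift_of_reduced (pullback.snd ι.left t.left ≫ s.left) ι.left hsub
  let m := pullback.lift (f := ι.left) (g := t.left) k.left x.left (congrArg CommaMorphism.left hk)
  have hk' : (m ≫ k₂) ≫ ι.left = (x ≫ s).left := by
    rw [Category.assoc, hk₂, pullback.lift_snd_assoc]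
    rfl
  refine ⟨Over.homMk (m ≫ k₂) ?_, Over.OverMorphism.ext hk'⟩
  rw [← Over.w ι, ← Category.assoc, hk', Over.w]

theorem ofChart_congr {W : Over S} {f g : overCat W ⥤ᵇ 𝒳} (i : f ≅ g) (z : ↥W.left) :
    Points.ofChart f z = Points.ofChart g z := by
  rw [ofChart_eq, ofChart_eq]
  exact points_map_congr (bLeft (toOverCat W) i) _

/-- The chart values on the subscheme satisfy the factorisation property. -/
theorem factorProp_chart (h : IsAlgStack Scheme.fppfPrecoverage 𝒳) (hy : Sm y) [IsClosedImmersion ι.left]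
    [IsReduced C.left] {T : Set (Points 𝒳)}
    (hr : ∀ u : ↥U.left, u ∈ Set.range ι.left ↔ Points.ofChart y u ∈ T) (c : Over C) :
    FactorProp y ι (y.obj ((overMap ι).obj c)) := by
  haveI : Mono ι := (Over.forget S).mono_of_mono_map (f := ι) (inferInstanceAs (Mono ι.left))
  have hX := h.isStack.1
  have hU := isFibGrpd_overCat U
  intro a φ
  let j := (overMap ι).obj c
  let β : a.left ⟶ c.left := eqToHom (y.w_obj a).symm ≫ 𝒳.p.map φ ≫ eqToHom (y.w_obj j)
  let a₂ : Over U := Over.mk (β ≫ j.hom)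
  obtain ⟨χ, hχ, -⟩ := fg_exists_fac hX (y.map (Over.homMk β rfl : a₂ ⟶ j)) φ
    (eqToHom ((y.w_obj a).trans (y.w_obj a₂).symm)) (by
      rw [p_map_eq]
      change eqToHom _ ≫ eqToHom _ ≫ β ≫ eqToHom _ = _
      simp [β])
  haveI : IsIso (𝒳.p.map χ) := by rw [hχ]; infer_instance
  haveI := fg_isIso_of_isIso_map hX χ
  let w : (fp y y).obj := ⟨⟨a, a₂, asIso χ⟩, by
    refine IsHomLift.of_fac' _ _ _ (y.w_obj a) (y.w_obj a₂) ?_
    change 𝒳.p.map χ = _
    rw [hχ]
    simp [overCat]⟩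
  have hP := isAlgStack_fp h.isStack h.diag (isAlgStack_overCat U) (isAlgStack_overCat U) y y
  obtain ⟨A, f₁, hf, hf'⟩ := hP.atlas
  obtain ⟨q1, q2, q3⟩ := (⟨rep_flat_of_sm hf, rep_lfp_of_sm hf, hf'⟩ : RepFppf f₁).locQ (isAlgStack_overCat A) hP
  obtain ⟨R, hR, hl⟩ := locSurjObj_of_flat_lfp_surjective (isAlgStack_overCat A) hP q1 q2 q3 w
  obtain ⟨t, ⟨it⟩⟩ := exists_overMap_iso (BasedFunctor.comp f₁ (fpSnd y y))
  obtain ⟨s, ⟨is⟩⟩ := exists_overMap_iso (BasedFunctor.comp f₁ (fpFst y y))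
  haveI : Smooth t.left := by
    have h1 : Sm (BasedFunctor.comp (toOverCat A) (BasedFunctor.comp (overMap t) (ofOverCat U))) :=
      (repByAlgSpWith_precomp_equiv (isEquivOver_toOverCat A)).2
        ((repByAlgSpWith_postcomp_equiv (isEquivOver_ofOverCat U)).2
          (repByAlgSpWith_of_iso it (sm_comp (isFibGrpd_overCat A) hP.isStack.1 hf (repByAlgSpWith_fpSnd y hy))))
    exact (SpFP87.locP_yon_map_iff (P := @Smooth) t).1 (homOfBased_overMap t ▸
      prop_homOfBased (F := spY A) (G := spY U) (respectsIso_locP _) (spaceDescends_locP _) h1)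
  have hpts : ∀ z : ↥A.left, Points.ofChart y (t.left z) = Points.ofChart y (s.left z) := fun z => by
    rw [← ofChart_overMap t y z, ← ofChart_overMap s y z, ← ofChart_congr (bRight it y) z,
      ← ofChart_congr (bRight is y) z]
    exact (ofChart_congr (bLeft f₁ (fpIso y y)) z).symm
  refine exists_factor_of_locally ι a.hom hR fun V d hd => ?_
  obtain ⟨x, g, hg⟩ := hl d hd
  have hV : x.left = V := (f₁.w_obj x).symm.trans (IsHomLift.domain_eq (fp y y).p d g)
  subst hV
  have hd' := IsHomLift.fac' (fp y y).p d g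
  have hbase : (f₁.obj x).obj.fst.left = x.left := f₁.w_obj x
  have e1 : g.hom.fst.left = eqToHom hbase ≫ d := hd'.trans (by simp)
  have e2 : d ≫ a.hom = eqToHom hbase.symm ≫ (f₁.obj x).obj.fst.hom := by
    rw [← Over.w g.hom.fst, e1]
    simp
    rfl
  have hbase' : (f₁.obj x).obj.snd.left = x.left :=
    ((fpSnd y y).w_obj (f₁.obj x)).trans (f₁.w_obj x)
  obtain ⟨m, hm⟩ : ∃ m : (f₁.obj x).obj.snd.left ⟶ C, m ≫ ι = (f₁.obj x).obj.snd.hom :=
    ⟨g.hom.snd.left ≫ β ≫ c.hom, by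
      rw [← Over.w g.hom.snd]
      change _ = g.hom.snd.left ≫ β ≫ (c.hom ≫ ι)
      simp only [Category.assoc]⟩
  have hst : ∀ {r : A ⟶ U} {Φ : overCat A ⥤ᵇ overCat U} (i : Φ ≅ overMap r) (hb : (Φ.obj x).left = x.left),
      (Φ.obj x).hom = eqToHom hb ≫ x.hom ≫ r := fun {r Φ} i hb => by
    haveI : (overCat U).p.IsHomLift (𝟙 x.left) (i.hom.toNatTrans.app x) := i.hom.isHomLift rfl
    have h1 := IsHomLift.fac' (overCat U).p (𝟙 x.left) (i.hom.toNatTrans.app x)
    rw [← Over.w (i.hom.toNatTrans.app x)]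
    change (overCat U).p.map _ ≫ _ = _
    rw [h1]
    simp [overCat]
    rfl
  obtain ⟨k', hk'⟩ := factor_invariant y ι hr t s hpts x.hom (eqToHom hbase'.symm ≫ m) (by
    rw [Category.assoc, hm]
    exact (congrArg (eqToHom hbase'.symm ≫ ·) (hst it hbase')).trans (by simp))
  exact ⟨k', hk'.trans (by
    rw [e2]
    exact Eq.trans (by simp) (congrArg (eqToHom hbase.symm ≫ ·) (hst is hbase)).symm)⟩

theorem exists_reduced_closedSubstack (h : IsAlgStack Scheme.fppfPrecoverage 𝒳) (T : Set (Points 𝒳))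
    (hT : IsClosed T) :
    ∃ Q : 𝒳.obj → Prop, IsClosedSubstack 𝒳 Q Scheme.fppfPrecoverage ∧
      Set.range (Points.map (subIncl 𝒳 Q)) = T ∧
      SmoothLocally (fun X => IsReduced X) (fullSub 𝒳 Q) := by
  have hX := h.isStack.1
  obtain ⟨U, y, hy, hy'⟩ := h.atlas
  let A : Set ↥U.left := Points.ofChart y ⁻¹' T
  have hA : IsClosed A := hT.preimage (continuous_ofChart h y)
  let I := Scheme.IdealSheafData.vanishingIdeal (⟨A, hA⟩ : TopologicalSpace.Closeds ↥U.left)
  let C : Over S := Over.mk (I.subschemeι ≫ U.hom)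
  let ι : C ⟶ U := Over.homMk I.subschemeι rfl
  haveI : IsClosedImmersion ι.left := inferInstanceAs (IsClosedImmersion I.subschemeι)
  haveI : IsReduced C.left := SchBasics.isReduced_vanishingIdeal_subscheme _
  haveI : Mono ι := (Over.forget S).mono_of_mono_map (f := ι) (inferInstanceAs (Mono ι.left))
  have hr : ∀ u : ↥U.left, u ∈ Set.range ι.left ↔ Points.ofChart y u ∈ T := fun u => by
    change u ∈ Set.range I.subschemeι ↔ u ∈ A
    rw [Scheme.IdealSheafData.range_subschemeι, Scheme.IdealSheafData.coe_support_vanishingIdeal]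
    rfl
  let Q := FactorProp y ι
  let incl := subIncl 𝒳 Q
  let j := overMap ι
  let z : overCat C ⥤ᵇ fullSub 𝒳 Q :=
    liftSub (BasedFunctor.comp j y) (factorProp_chart y ι h hy hr)
  let G : overCat C ⥤ᵇ fp incl y := fpLift z j (Iso.refl (BasedFunctor.comp z incl))
  have hG : IsEquivOver G := by
    refine IsEquivData.isEquivOver ⟨fun a b e => ?_, fun {a b} g => ?_, fun w => ?_⟩
    · exact Over.OverMorphism.ext (congrArg (fun t => t.hom.snd.left) e)
    · have hw : g.hom.fst.hom ≫ 𝟙 _ = 𝟙 _ ≫ y.map g.hom.snd := g.hom.w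
      rw [Category.comp_id, Category.id_comp] at hw
      refine ⟨Over.homMk g.hom.snd.left ((cancel_mono ι).1
        ((Category.assoc _ _ _).trans (Over.w g.hom.snd))), fpHom_ext (ObjectProperty.hom_ext _ ?_)
          (Over.OverMorphism.ext rfl)⟩
      change y.map _ = g.hom.fst.hom
      rw [hw]
      exact congrArg y.map (Over.OverMorphism.ext rfl)
    · obtain ⟨k, hk⟩ := w.obj.fst.property w.obj.snd w.obj.iso.inv
      let e₂ : j.obj (Over.mk k) ≅ w.obj.snd := Over.isoMk (Iso.refl _) ((Category.id_comp _).trans hk.symm)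
      let e₁ : z.obj (Over.mk k) ≅ w.obj.fst :=
        (ObjectProperty.fullyFaithfulι Q).preimageIso (y.toFunctor.mapIso e₂ ≪≫ w.obj.iso.symm)
      have he₁ : e₁.hom.hom = y.map e₂.hom ≫ w.obj.iso.inv :=
        (ObjectProperty.fullyFaithfulι Q).map_preimage (X := z.obj (Over.mk k)) (Y := w.obj.fst)
          (y.map e₂.hom ≫ w.obj.iso.inv)
      refine ⟨Over.mk k, fpObjIso e₁ e₂ ?_, fp_isHomLift _ ?_⟩
      · change e₁.hom.hom ≫ w.obj.iso.hom = 𝟙 _ ≫ y.map e₂.hom
        rw [he₁]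
        simp
      · have hp := @IsHomLift.fac' _ _ _ _ 𝒳.p _ _ _ _ _ w.obj.iso.hom w.property
        have hd : (fullSub 𝒳 Q).p.obj w.obj.fst = w.obj.snd.left :=
          (fpSnd incl y).w_obj w |>.symm
        have hinv : 𝒳.p.map w.obj.iso.inv =
            eqToHom ((y.w_obj w.obj.snd).trans hd.symm) := by
          haveI : IsIso (𝒳.p.map w.obj.iso.hom) := inferInstance
          rw [← cancel_mono (𝒳.p.map w.obj.iso.hom), ← Functor.map_comp, Iso.inv_hom_id, hp]
          simp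
        refine IsHomLift.of_fac' _ _ _ ((z.w_obj _).trans hd.symm) rfl ?_
        change 𝒳.p.map e₁.hom.hom = _
        rw [he₁, Functor.map_comp, p_map_eq, hinv]
        change (eqToHom _ ≫ 𝟙 _ ≫ eqToHom _) ≫ eqToHom _ = _
        simp
  have hz : Sm z := repByAlgSpWith_of_iso (f := BasedFunctor.comp G (fpFst incl y)) (Iso.refl _)
    ((repByAlgSpWith_precomp_equiv hG).2 (repByAlgSpWith_fpFst incl hy))
  have hz' : Sj z := repByAlgSpWith_of_iso (f := BasedFunctor.comp G (fpFst incl y)) (Iso.refl _)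
    ((repByAlgSpWith_precomp_equiv hG).2 (repByAlgSpWith_fpFst incl hy'))
  have hQs := isStack_factor y ι h.isStack
  have hZ : IsAlgStack Scheme.fppfPrecoverage (fullSub 𝒳 Q) :=
    isAlgStack_of_chart hQs (spY C) (BasedFunctor.comp (toOverCat C) z)
      ((repByAlgSpWith_precomp_equiv (isEquivOver_toOverCat C)).2 hz)
      ((repByAlgSpWith_precomp_equiv (isEquivOver_toOverCat C)).2 hz')
  haveI : incl.toFunctor.Full := inferInstanceAs (ObjectProperty.ι Q).Full
  haveI : incl.toFunctor.Faithful := inferInstanceAs (ObjectProperty.ι Q).Faithful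
  have hmono : AlgSt.IsMono incl := isMono_of_fullyFaithful hZ h
  have hcl : RepByAlgSpWith (AlgSp.RepWith @IsClosedImmersion) incl := by
    let y' : ofSch U ⥤ᵇ 𝒳 := BasedFunctor.comp (toOverCat U) y
    refine repByAlgSpWith_of_repSp_cover hZ.isStack.1 hX stableBC_repWith_closedImm isLocalOnBase_closedImm
      (repByAlgSp1_of_with hmono) (spY U) y'
      ((repByAlgSpWith_precomp_equiv (isEquivOver_toOverCat U)).2 (rep_flat_of_sm hy))
      ((repByAlgSpWith_precomp_equiv (isEquivOver_toOverCat U)).2 (rep_lfp_of_sm hy))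
      ((repByAlgSpWith_precomp_equiv (isEquivOver_toOverCat U)).2 hy') ?_
    obtain ⟨M, hM, -, ⟨bM⟩⟩ := isEquivOver_inverse
      (isEquivOver_fpMapFst y incl _ (isEquivOver_toOverCat U))
    let Ψ : ofSch C ⥤ᵇ fp y incl := BasedFunctor.comp (toOverCat C) (BasedFunctor.comp G (fpSwap incl y))
    have hΨ : IsEquivOver Ψ :=
      isEquivOver_comp (isEquivOver_toOverCat C) (isEquivOver_comp hG isEquivOver_fpSwap)
    refine ⟨spY C, BasedFunctor.comp Ψ M, isEquivOver_comp hΨ hM, ?_⟩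
    obtain ⟨ij⟩ := toOver_overMap ι
    let Φ : ofSch C ⥤ᵇ ofSch U := BasedFunctor.comp (BasedFunctor.comp Ψ M) (fpFst y' incl)
    have i1 : BasedFunctor.comp Φ (toOverCat U) ≅ BasedFunctor.comp (ofSpMap ((AlgSp.yon S).map ι)) (toOverCat U) :=
      bLeft Ψ (bRight bM (fpFst y incl)) ≪≫ ij
    have i2 : Φ ≅ ofSpMap ((AlgSp.yon S).map ι) :=
      (bLeft Φ (sliceIso U)).symm ≪≫ bRight i1 (ofOverCat U) ≪≫ bLeft _ (sliceIso U)
    have : homOfBased (F := (AlgSp.yon S).obj C) (G := (AlgSp.yon S).obj U) Φ = (AlgSp.yon S).map ι :=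
      (homOfBased_congr i2).trans (homOfBased_ofSpMap _)
    have h2 : AlgSp.RepWith @IsClosedImmersion
        (homOfBased (F := (AlgSp.yon S).obj C) (G := (AlgSp.yon S).obj U) Φ) := by
      rw [this]
      exact (AlgSp.repWith_yon_map_iff _ _).2 (inferInstanceAs (IsClosedImmersion ι.left))
    exact h2
  refine ⟨Q, ⟨factorProp_iso y ι, hZ, hcl⟩, ?_, ?_⟩
  · ext p
    constructor
    · rintro ⟨q, rfl⟩
      obtain ⟨o, rfl⟩ := surjective_ofChart hZ.isStack.1 z hz' q
      have h1 : Points.map incl (Points.ofChart z o) = Points.ofChart (BasedFunctor.comp j y) o := by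
        rw [ofChart_eq, ofChart_eq]
        exact (points_map_comp _ incl _).symm
      rw [h1, ofChart_overMap ι y o]
      exact (hr _).1 ⟨o, rfl⟩
    · intro hp
      obtain ⟨u, rfl⟩ := surjective_ofChart hX y hy' p
      obtain ⟨o, rfl⟩ := (hr u).2 hp
      refine ⟨Points.ofChart z o, ?_⟩
      rw [← ofChart_overMap ι y o, ofChart_eq, ofChart_eq]
      exact (points_map_comp _ incl _).symm
  · exact smoothLocally_of_chart hZ.isStack.1 isReduced_smoothLocal (BasedFunctor.comp (toOverCat C) z)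
      ((repByAlgSpWith_precomp_equiv (isEquivOver_toOverCat C)).2 hz)
      ((repByAlgSpWith_precomp_equiv (isEquivOver_toOverCat C)).2 hz') ‹_›

end Groth.Agent.Gerb44
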