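import Groth.Agent.Gerb44.ResGerbe
import Groth.Agent.Gerb44.FullLocal
import Groth.Agent.SpFP87.Covers
import Groth.Agent.SpFP87.FpqcMono

/-!
Morphisms of residual gerbes which are equivalences.
-/

set_option autoImplicit false
set_option maxHeartbeats 2000000
set_option linter.style.haveILetI false
set_option backward.isDefEq.respectTransparency false
set_option backward.isDefEq.respectTransparency.types false
universe u

open CategoryTheory CategoryTheory.Limits AlgebraicGeometry Opposite AlgSt FibCat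
open Groth.Agent.AlgSt88

namespace Groth.Agent.Gerb44

variable {S : Scheme.{u}} {𝒲 𝒳 𝒴 : AlgSt.Cat S}

/-- A comparison of self fibre products which is an equivalence makes `f` bijective on arrows between values. -/
theorem liftBij_of_comparison {p : 𝒲 ⥤ᵇ 𝒳} {f : 𝒳 ⥤ᵇ 𝒴}
    (e : BasedFunctor.comp (fpFst p p) (BasedFunctor.comp p f) ≅ BasedFunctor.comp (fpSnd p p) (BasedFunctor.comp p f))
    (he : ∀ c, e.hom.toNatTrans.app c = f.map c.obj.iso.hom)
    (hiso : IsEquivOver (fpLift (fpFst p p) (fpSnd p p) e)) (U : Over S) (c d : 𝒲.obj)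
    (hc : 𝒲.p.obj c = U) (hd : 𝒲.p.obj d = U) (hX : IsFibGrpd 𝒳.p) (hY : IsFibGrpd 𝒴.p) :
    LiftBij f U (p.obj c) (p.obj d) := by
  subst hc
  let L := fpLift (fpFst p p) (fpSnd p p) e
  have hL := isEquivData_of_isEquivOver hiso
  refine ⟨fun n n' hn hn' hnn => ?_, fun m hm => ?_⟩
  · haveI := hn
    haveI := hn'
    haveI := fg_isIso_of_lift_id hX n (𝒲.p.obj c)
    haveI := fg_isIso_of_lift_id hX n' (𝒲.p.obj c)
    let o : (fp p p).obj := ⟨⟨c, d, asIso n⟩, hn⟩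
    let o' : (fp p p).obj := ⟨⟨c, d, asIso n'⟩, hn'⟩
    let g : L.obj o ⟶ L.obj o' := fpHom (𝟙 c) (𝟙 d) (by
      change (BasedFunctor.comp p f).map (𝟙 c) ≫ e.hom.toNatTrans.app o' =
        e.hom.toNatTrans.app o ≫ (BasedFunctor.comp p f).map (𝟙 d)
      rw [he, he]
      change f.map (p.map (𝟙 c)) ≫ f.map n' = f.map n ≫ f.map (p.map (𝟙 d))
      rw [p.map_id, p.map_id, f.map_id, f.map_id]
      exact (Category.id_comp _).trans (hnn.symm.trans (Category.comp_id _).symm))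
    obtain ⟨t, ht⟩ := hL.full g
    have h1 : t.hom.fst = 𝟙 c := congrArg (fun s => s.hom.fst) ht
    have h2 : t.hom.snd = 𝟙 d := congrArg (fun s => s.hom.snd) ht
    have hw := t.hom.w
    rw [h1, h2, p.map_id, p.map_id] at hw
    exact (((Category.comp_id _).symm.trans hw.symm).trans (Category.id_comp _))
  · haveI := hm
    haveI := fg_isIso_of_lift_id hY m (𝒲.p.obj c)
    let o : (fp (BasedFunctor.comp p f) (BasedFunctor.comp p f)).obj := ⟨⟨c, d, asIso m⟩, hm⟩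
    obtain ⟨o', ε, hε⟩ := hL.essSurj o
    haveI : (fp (BasedFunctor.comp p f) (BasedFunctor.comp p f)).p.IsHomLift (𝟙 (𝒲.p.obj c)) ε.hom := hε
    have hbase : 𝒲.p.obj o'.obj.fst = 𝒲.p.obj c :=
      IsHomLift.domain_eq (fp (BasedFunctor.comp p f) (BasedFunctor.comp p f)).p (𝟙 (𝒲.p.obj c)) ε.hom
    let ε₁ : o'.obj.fst ≅ c :=
      (fpFst (BasedFunctor.comp p f) (BasedFunctor.comp p f)).toFunctor.mapIso ε
    let ε₂ : o'.obj.snd ≅ d :=
      (fpSnd (BasedFunctor.comp p f) (BasedFunctor.comp p f)).toFunctor.mapIso ε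
    haveI : 𝒲.p.IsHomLift (𝟙 (𝒲.p.obj c)) ε₁.hom :=
      (fpFst (BasedFunctor.comp p f) (BasedFunctor.comp p f)).preserves_isHomLift _ ε.hom
    haveI : 𝒲.p.IsHomLift (𝟙 (𝒲.p.obj c)) ε₂.hom :=
      (fpSnd (BasedFunctor.comp p f) (BasedFunctor.comp p f)).preserves_isHomLift _ ε.hom
    haveI : 𝒳.p.IsHomLift (𝟙 (𝒲.p.obj c)) o'.obj.iso.hom := Fib44.lift_id_of_eq 𝒳.p hbase o'.property
    refine ⟨p.map ε₁.inv ≫ o'.obj.iso.hom ≫ p.map ε₂.hom, inferInstance, ?_⟩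
    have hw : (BasedFunctor.comp p f).map ε₁.hom ≫ m =
        e.hom.toNatTrans.app o' ≫ (BasedFunctor.comp p f).map ε₂.hom := ε.hom.hom.w
    rw [he] at hw
    change f.map (p.map ε₁.hom) ≫ m = f.map o'.obj.iso.hom ≫ f.map (p.map ε₂.hom) at hw
    rw [f.map_comp, f.map_comp, ← hw, ← Category.assoc, ← f.map_comp, ← p.map_comp, ε₁.inv_hom_id, p.map_id,
      f.map_id]
    exact Category.id_comp _

/-- Two field-valued points of one point become isomorphic over a common extension. -/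
theorem exists_common_field {k K : Type u} [Field k] [Field K] {sk : Spec (CommRingCat.of k) ⟶ S}
    {sK : Spec (CommRingCat.of K) ⟶ S} (hX : IsFibGrpd 𝒳.p) (p : overCat (Over.mk sk) ⥤ᵇ 𝒳)
    (z : overCat (Over.mk sK) ⥤ᵇ 𝒳) {s : Points (overCat (Over.mk sk))} {t : Points (overCat (Over.mk sK))}
    (h : Points.map p s = Points.map z t) :
    ∃ (L : Type u) (_ : Field L) (sL : Spec (CommRingCat.of L) ⟶ S) (a : Over.mk sL ⟶ Over.mk sk)
      (b : Over.mk sL ⟶ Over.mk sK),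
      Nonempty (BasedFunctor.comp (overMap a) p ≅ BasedFunctor.comp (overMap b) z) := by
  obtain ⟨w, -, -⟩ := exists_points_fp hX (isFibGrpd_overCat _) (isFibGrpd_overCat _) z p s t h
  obtain ⟨w, rfl⟩ := Points.mk_surjective w
  let c := w.obj.obj.fst
  let d := w.obj.obj.snd
  have hc : c.left = Over.mk w.str := w.lies
  have hdc : d.left = c.left :=
    haveI : 𝒳.p.IsHomLift (𝟙 c.left) w.obj.obj.iso.hom := w.obj.property
    (z.w_obj d).symm.trans (IsHomLift.codomain_eq 𝒳.p (𝟙 c.left) w.obj.obj.iso.hom)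
  let a : Over.mk w.str ⟶ Over.mk sk := eqToHom hc.symm ≫ c.hom
  let b : Over.mk w.str ⟶ Over.mk sK := eqToHom (hc.symm.trans hdc.symm) ≫ d.hom
  let i₁ : (overMap a).obj (Over.mk (𝟙 (Over.mk w.str))) ≅ c :=
    Over.isoMk (eqToIso hc.symm) (by simp [overMap, a])
  let i₂ : (overMap b).obj (Over.mk (𝟙 (Over.mk w.str))) ≅ d :=
    Over.isoMk (eqToIso (hc.symm.trans hdc.symm)) (by simp [overMap, b])
  refine ⟨w.K, w.field, w.str, a, b, nonempty_iso_of_app_id hX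
    (p.toFunctor.mapIso i₁ ≪≫ w.obj.obj.iso ≪≫ (z.toFunctor.mapIso i₂).symm) ?_⟩
  haveI : (overCat (Over.mk sk)).p.IsHomLift (𝟙 (Over.mk w.str)) i₁.hom :=
    IsHomLift.of_fac' _ _ _ rfl hc (by simp [i₁, overCat]; rfl)
  haveI : (overCat (Over.mk sK)).p.IsHomLift (𝟙 (Over.mk w.str)) i₂.hom :=
    IsHomLift.of_fac' _ _ _ rfl (hdc.trans hc) (by simp [i₂, overCat]; rfl)
  haveI : 𝒳.p.IsHomLift (𝟙 (Over.mk w.str)) w.obj.obj.iso.hom := Fib44.lift_id_of_eq 𝒳.p hc w.obj.property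
  haveI : 𝒳.p.IsHomLift (𝟙 (Over.mk w.str)) (z.toFunctor.mapIso i₂).hom :=
    z.preserves_isHomLift _ i₂.hom
  change 𝒳.p.IsHomLift (𝟙 (Over.mk w.str)) (p.map i₁.hom ≫ w.obj.obj.iso.hom ≫ (z.toFunctor.mapIso i₂).inv)
  infer_instance

section Descent

variable {K L : Type u} [Field K] [Field L] {sK : Spec (CommRingCat.of K) ⟶ S}
  {sL : Spec (CommRingCat.of L) ⟶ S} (b : Over.mk sL ⟶ Over.mk sK)

theorem isFpqcCover_field :
    AlgSp.IsFpqcCover (fun _ : PUnit.{u + 1} => (AlgSp.yon S).obj (Over.mk sL)) (fun _ => (AlgSp.yon S).map b) := by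
  haveI : Flat b.left := SpFP87.flat_to_specField b.left
  haveI : Surjective b.left := ⟨fun y => ⟨(Classical.arbitrary (PrimeSpectrum L) :),
    Subsingleton.elim (α := PrimeSpectrum K) _ _⟩⟩
  refine ⟨fun _ => (SpFP87.locP_yon_map_iff b).2 inferInstance, fun Z hZ h => ?_⟩
  haveI := hZ
  obtain ⟨z, rfl⟩ := (AlgSp.yon S).map_surjective h
  let R : Over S := Over.mk (pullback.fst z.left b.left ≫ Z.hom)
  let r : R ⟶ Z := Over.homMk (pullback.fst z.left b.left) rfl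
  let r' : R ⟶ Over.mk sL := Over.homMk (pullback.snd z.left b.left) (by
    show pullback.snd z.left b.left ≫ (Over.mk sL).hom = pullback.fst z.left b.left ≫ Z.hom
    rw [← Over.w b, ← Over.w z, pullback.condition_assoc])
  haveI : IsAffine (Over.mk sK).left := inferInstanceAs (IsAffine (Spec _))
  haveI : IsAffine (Over.mk sL).left := inferInstanceAs (IsAffine (Spec _))
  haveI : IsAffine R.left := inferInstanceAs (IsAffine (pullback z.left b.left))
  refine ⟨1, fun _ => R, fun _ => r, fun _ => inferInstance,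
    fun _ => inferInstanceAs (Flat (pullback.fst z.left b.left)),
    fun y => ⟨0, Surjective.surj (f := pullback.fst z.left b.left) y⟩,
    fun _ => ⟨PUnit.unit, (AlgSp.yon S).map r', ?_⟩⟩
  rw [← Functor.map_comp, ← Functor.map_comp]
  exact congrArg (AlgSp.yon S).map (Over.OverMorphism.ext pullback.condition.symm)

theorem isIso_of_field_baseChange {F₁ F₂ : AlgSp.Sp S} (h₁ : AlgSp.IsAlgSpace F₁) (h₂ : AlgSp.IsAlgSpace F₂)
    (a : F₁ ⟶ F₂) (q : F₂ ⟶ (AlgSp.yon S).obj (Over.mk sK))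
    (h : IsIso (pullback.snd a (pullback.fst q ((AlgSp.yon S).map b)))) : IsIso a := by
  have hK := AlgSp.IsAlgSpace.yon_obj (Over.mk sK)
  have hL := AlgSp.IsAlgSpace.yon_obj (Over.mk sL)
  have h₂' := SpFP87.isAlgSpace_pullback q ((AlgSp.yon S).map b) h₂ hL hK
  have hcov : AlgSp.IsFpqcCover (fun _ : PUnit.{u + 1} => pullback q ((AlgSp.yon S).map b))
      (fun _ => pullback.fst q ((AlgSp.yon S).map b)) :=
    SpFP87.isFpqcCover_baseChange q _ (fun _ => (AlgSp.yon S).map b) _ _ (fun _ => pullback.snd _ _)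
      (fun _ => IsPullback.of_hasPullback _ _) hK h₂ (fun _ => hL) (isFpqcCover_field b)
  exact (SpFP87.isLocalOnBase_fpqc_isomorphisms (fun _ => pullback q ((AlgSp.yon S).map b))
    (fun _ => pullback.fst q ((AlgSp.yon S).map b)) h₂ (fun _ => h₂') hcov a h₁
    (fun _ => pullback a (pullback.fst q ((AlgSp.yon S).map b))) (fun _ => pullback.snd _ _) (fun _ => pullback.fst _ _)
    (fun _ => SpFP87.isAlgSpace_pullback a _ h₁ h₂' h₂) (fun _ => IsPullback.of_hasPullback _ _)).2 fun _ => h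

/-- Bijectivity on arrows between values descends along an extension of fields. -/
theorem liftBij_descend (h𝒳 : IsAlgStack Scheme.fppfPrecoverage 𝒳) (h𝒴 : IsAlgStack Scheme.fppfPrecoverage 𝒴)
    (f : 𝒳 ⥤ᵇ 𝒴) (z : overCat (Over.mk sK) ⥤ᵇ 𝒳)
    (hb : ∀ (U : Over S) (c d : (overCat (Over.mk sK)).obj), c.left = U → d.left = U →
      (∃ l, l ≫ b = c.hom) → (∃ l, l ≫ b = d.hom) → LiftBij f U (z.obj c) (z.obj d)) :
    ∀ (U : Over S) (c d : (overCat (Over.mk sK)).obj), c.left = U → d.left = U →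
      LiftBij f U (z.obj c) (z.obj d) := by
  have hX := h𝒳.isStack.1
  have hY := h𝒴.isStack.1
  have hK := isFibGrpd_overCat (Over.mk sK)
  obtain ⟨F₁, e₁, he₁⟩ := repByAlgSp1_of_diag hX h𝒳.diag hK (repByAlgSp_overCat _) (repByAlgSp_overCat _) z z
  let zf := BasedFunctor.comp z f
  obtain ⟨F₂, e₂, he₂⟩ := repByAlgSp1_of_diag hY h𝒴.diag hK (repByAlgSp_overCat _) (repByAlgSp_overCat _) zf zf
  let L₁ : fp z z ⥤ᵇ fp zf zf := fpPost z z f
  obtain ⟨G, -, -, ⟨β⟩⟩ := isEquivOver_inverse he₂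
  let Ψ : ofSp F₁.obj ⥤ᵇ ofSp F₂.obj := BasedFunctor.comp (BasedFunctor.comp e₁ L₁) G
  obtain ⟨γ⟩ := exists_hom_iso Ψ
  let a : F₁.obj ⟶ F₂.obj := homOfBased Ψ
  let α : BasedFunctor.comp (ofSpMap a) e₂ ≅ BasedFunctor.comp e₁ L₁ :=
    (bRight γ e₂).symm ≪≫ bLeft (BasedFunctor.comp e₁ L₁) β
  let q : F₂.obj ⟶ (AlgSp.yon S).obj (Over.mk sK) := spMapOfOver (BasedFunctor.comp e₂ (fpFst zf zf))
  let q' : F₂.obj ⟶ (AlgSp.yon S).obj (Over.mk sK) := spMapOfOver (BasedFunctor.comp e₂ (fpSnd zf zf))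
  have hq : a ≫ q = spMapOfOver (BasedFunctor.comp e₁ (fpFst z z)) := by
    rw [← homOfBased_ofSpMap a, ← spMapOfOver_comp]
    exact spMapOfOver_congr (bRight α (fpFst zf zf))
  have hq' : a ≫ q' = spMapOfOver (BasedFunctor.comp e₁ (fpSnd z z)) := by
    rw [← homOfBased_ofSpMap a, ← spMapOfOver_comp]
    exact spMapOfOver_congr (bRight α (fpSnd zf zf))
  have hd₁ := isEquivData_of_isEquivOver he₁
  have hd₂ := isEquivData_of_isEquivOver he₂
  have sfac : ∀ {F : AlgSp.Sp S} (Φ : ofSp F ⥤ᵇ overCat (Over.mk sK)) (Z : Over S) (x : F.obj.obj (op Z))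
      (l : Z ⟶ Over.mk sL), (spMapOfOver Φ).hom.app (op Z) x = ⟨l ≫ b⟩ →
      ∃ l', l' ≫ b = (Φ.obj ⟨Z, x⟩).hom := fun Φ Z x l h => by
    have h' : secHom Φ ⟨Z, x⟩ = l ≫ b := congrArg ULift.down h
    exact ⟨eqToHom (Φ.w_obj ⟨Z, x⟩) ≫ l, by rw [Category.assoc, ← h']; simp [secHom]⟩
  have key : ∀ (Z : Over S) (x : F₂.obj.obj.obj (op Z)), (∃ l, q.hom.app (op Z) x = ⟨l ≫ b⟩) →
      (∃ l, q'.hom.app (op Z) x = ⟨l ≫ b⟩) → ∃! x₁, a.hom.app (op Z) x₁ = x := by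
    rintro Z x ⟨l, hl⟩ ⟨l', hl'⟩
    let O := e₂.obj ⟨Z, x⟩
    have hOc : O.obj.fst.left = Z := e₂.w_obj ⟨Z, x⟩
    have hO : 𝒴.p.IsHomLift (𝟙 Z) O.obj.iso.hom := Fib44.lift_id_of_eq 𝒴.p hOc O.property
    have hOd : O.obj.snd.left = Z :=
      ((BasedFunctor.comp z f).w_obj O.obj.snd).symm.trans (IsHomLift.codomain_eq 𝒴.p (𝟙 Z) O.obj.iso.hom)
    have hbij := hb Z O.obj.fst O.obj.snd hOc hOd (sfac _ Z x l hl) (sfac _ Z x l' hl')
    obtain ⟨n, hn, hnf⟩ := hbij.2 O.obj.iso.hom hO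
    haveI := hn
    haveI := fg_isIso_of_lift_id hX n Z
    let O₁ : (fp z z).obj := ⟨⟨O.obj.fst, O.obj.snd, asIso n⟩, Fib44.lift_id_of_eq 𝒳.p hOc.symm hn⟩
    obtain ⟨o₁, θ, -⟩ := hd₁.essSurj O₁
    let η : L₁.obj O₁ ≅ O := fpObjIso (Iso.refl _) (Iso.refl _) (by
      change f.map (z.map (𝟙 _)) ≫ O.obj.iso.hom = f.map n ≫ f.map (z.map (𝟙 _))
      rw [z.map_id, z.map_id, f.map_id, f.map_id, hnf, Category.id_comp, Category.comp_id])
    obtain ⟨ψ, -⟩ := hd₂.full (x := ⟨Z, x⟩) (x' := (ofSpMap a).obj o₁)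
      ((L₁.toFunctor.mapIso θ ≪≫ η).inv ≫ α.inv.toNatTrans.app o₁)
    refine ⟨F₁.obj.obj.map ψ.hom.op o₁.sec, ?_, fun x₂ hx₂ => ?_⟩
    · change a.hom.app (op Z) (F₁.obj.obj.map ψ.hom.op o₁.sec) = x
      rw [NatTrans.naturality_apply a.hom ψ.hom.op o₁.sec]
      exact ψ.map_sec
    · have hx₁ : a.hom.app (op Z) (F₁.obj.obj.map ψ.hom.op o₁.sec) = x := by
        rw [NatTrans.naturality_apply a.hom ψ.hom.op o₁.sec]
        exact ψ.map_sec
      generalize F₁.obj.obj.map ψ.hom.op o₁.sec = x₁ at hx₁ ⊢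
      let s₂ : (ofSp F₁.obj).obj := ⟨Z, x₂⟩
      let s₁ : (ofSp F₁.obj).obj := ⟨Z, x₁⟩
      let i : (ofSpMap a).obj s₂ ≅ (ofSpMap a).obj s₁ := eltIso (hx₂.trans hx₁.symm)
      haveI : (ofSp F₂.obj).p.IsHomLift (𝟙 Z) i.hom :=
        IsHomLift.of_fac' _ _ _ rfl rfl (by simp [i, eltIso]; rfl)
      haveI : (fp zf zf).p.IsHomLift (𝟙 Z) (α.inv.toNatTrans.app s₂) := α.inv.isHomLift' s₂
      haveI : (fp zf zf).p.IsHomLift (𝟙 Z) (α.hom.toNatTrans.app s₁) := α.hom.isHomLift' s₁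
      let t : L₁.obj (e₁.obj s₂) ⟶ L₁.obj (e₁.obj s₁) :=
        α.inv.toNatTrans.app s₂ ≫ e₂.map i.hom ≫ α.hom.toNatTrans.app s₁
      haveI ht : (fp zf zf).p.IsHomLift (𝟙 Z) t :=
        @IsHomLift.comp_of_lift_id _ _ _ _ (fp zf zf).p Z _ _ _ (α.inv.toNatTrans.app s₂)
          (e₂.map i.hom ≫ α.hom.toNatTrans.app s₁) (α.inv.isHomLift' s₂)
          (@IsHomLift.comp_of_lift_id _ _ _ _ (fp zf zf).p Z _ _ _ (e₂.map i.hom) (α.hom.toNatTrans.app s₁)
            (e₂.preserves_isHomLift (𝟙 Z) i.hom) (α.hom.isHomLift' s₁))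
      have hu : (overCat (Over.mk sK)).p.IsHomLift (𝟙 Z) t.hom.fst := (fpFst zf zf).preserves_isHomLift _ t
      have hv : (overCat (Over.mk sK)).p.IsHomLift (𝟙 Z) t.hom.snd := (fpSnd zf zf).preserves_isHomLift _ t
      haveI := hu
      haveI := hv
      let A := e₁.obj s₂
      let B := e₁.obj s₁
      have hA : A.obj.fst.left = Z := e₁.w_obj s₂
      have hB : B.obj.fst.left = Z := e₁.w_obj s₁
      haveI : 𝒳.p.IsHomLift (𝟙 Z) A.obj.iso.hom := Fib44.lift_id_of_eq 𝒳.p hA A.property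
      haveI : 𝒳.p.IsHomLift (𝟙 Z) B.obj.iso.hom := Fib44.lift_id_of_eq 𝒳.p hB B.property
      have hBd : B.obj.snd.left = Z :=
        (z.w_obj B.obj.snd).symm.trans (IsHomLift.codomain_eq 𝒳.p (𝟙 Z) B.obj.iso.hom)
      have hAl : ∃ l, l ≫ b = A.obj.fst.hom := by
        refine sfac (BasedFunctor.comp e₁ (fpFst z z)) Z x₂ l ?_
        rw [← hq]
        change q.hom.app (op Z) (a.hom.app (op Z) x₂) = _
        rw [hx₂, hl]
      have hBl : ∃ l, l ≫ b = B.obj.snd.hom := by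
        refine sfac (BasedFunctor.comp e₁ (fpSnd z z)) Z x₁ l' ?_
        rw [← hq']
        change q'.hom.app (op Z) (a.hom.app (op Z) x₁) = _
        rw [hx₁, hl']
      have hw : f.map (z.map t.hom.fst) ≫ f.map B.obj.iso.hom = f.map A.obj.iso.hom ≫ f.map (z.map t.hom.snd) :=
        t.hom.w
      rw [← f.map_comp, ← f.map_comp] at hw
      have hwz : z.map t.hom.fst ≫ B.obj.iso.hom = A.obj.iso.hom ≫ z.map t.hom.snd :=
        (hb Z A.obj.fst B.obj.snd hA hBd hAl hBl).1 (z.map t.hom.fst ≫ B.obj.iso.hom)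
          (A.obj.iso.hom ≫ z.map t.hom.snd) inferInstance inferInstance hw
      obtain ⟨ρ, hρ⟩ := hd₁.full (fpHom t.hom.fst t.hom.snd hwz : A ⟶ B)
      have hρl : (ofSp F₁.obj).p.IsHomLift (𝟙 Z) ρ := by
        haveI : (fp z z).p.IsHomLift (𝟙 Z) (e₁.map ρ) := by rw [hρ]; exact fp_isHomLift _ hu
        exact e₁.isHomLift_map (𝟙 Z) ρ
      have h' : ρ.hom = 𝟙 Z := (@IsHomLift.eq_of_isHomLift _ _ _ _ (ofSp F₁.obj).p s₂ s₁ (𝟙 Z) ρ hρl).symm
      have hsec : F₁.obj.obj.map ρ.hom.op x₁ = x₂ := ρ.map_sec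
      rw [h'] at hsec
      exact hsec.symm.trans (F₁.obj.obj.map_id_apply _ _)
  haveI : IsIso a := by
    refine isIso_of_field_baseChange b F₁.property F₂.property a q ?_
    let π := pullback.fst q ((AlgSp.yon S).map b)
    have h₂' := SpFP87.isAlgSpace_pullback q ((AlgSp.yon S).map b) F₂.property (AlgSp.IsAlgSpace.yon_obj _)
      (AlgSp.IsAlgSpace.yon_obj _)
    let a' := pullback.snd a π
    refine isIso_of_field_baseChange b (SpFP87.isAlgSpace_pullback a π F₁.property h₂' F₂.property) h₂' a' (π ≫ q') ?_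
    let π₂ := pullback.fst (π ≫ q') ((AlgSp.yon S).map b)
    refine SpFP87.isIso_of_probe _ fun Z g => ?_
    let s := g ≫ π₂ ≫ π
    obtain ⟨l, hl⟩ := (AlgSp.yon S).map_surjective ((g ≫ π₂) ≫ pullback.snd q ((AlgSp.yon S).map b))
    obtain ⟨l', hl'⟩ := (AlgSp.yon S).map_surjective (g ≫ pullback.snd (π ≫ q') ((AlgSp.yon S).map b))
    have hs : s ≫ q = (AlgSp.yon S).map (l ≫ b) := by
      rw [Functor.map_comp, hl]
      simp only [s, π, Category.assoc, pullback.condition]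
    have hs' : s ≫ q' = (AlgSp.yon S).map (l' ≫ b) := by
      rw [Functor.map_comp, hl']
      simp only [s, π₂, Category.assoc, pullback.condition]
    have sec : ∀ (r : F₂.obj ⟶ (AlgSp.yon S).obj (Over.mk sK)) (m : Z ⟶ Over.mk sK),
        s ≫ r = (AlgSp.yon S).map m → r.hom.app (op Z) (SpFP87.uE s) = ⟨m⟩ := fun r m h => by
      rw [← GrothendieckTopology.uliftYonedaEquiv_comp]
      change SpFP87.uE (s ≫ r) = _
      rw [h]
      exact congrArg ULift.up (Category.id_comp m)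
    obtain ⟨x₁, hx₁, hu⟩ := key Z (SpFP87.uE s) ⟨l, sec q _ hs⟩ ⟨l', sec q' _ hs'⟩
    let h₀ : (AlgSp.yon S).obj Z ⟶ F₁.obj := SpFP87.uE.symm x₁
    have hh₀ : h₀ ≫ a = s := SpFP87.uE.injective (by
      rw [GrothendieckTopology.uliftYonedaEquiv_comp, Equiv.apply_symm_apply]
      exact hx₁)
    have u₀ : ∀ h' : (AlgSp.yon S).obj Z ⟶ F₁.obj, h' ≫ a = s → h' = h₀ := fun h' hh' =>
      SpFP87.uE.injective (by
        rw [Equiv.apply_symm_apply]
        refine hu _ ?_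
        change a.hom.app (op Z) (SpFP87.uE h') = _
        rw [← GrothendieckTopology.uliftYonedaEquiv_comp, hh'])
    let r : (AlgSp.yon S).obj Z ⟶ pullback a π :=
      pullback.lift h₀ (g ≫ π₂) (by rw [hh₀]; simp only [s, Category.assoc])
    refine ⟨pullback.lift r g (pullback.lift_snd _ _ _), pullback.lift_snd _ _ _, fun y hy => ?_⟩
    apply pullback.hom_ext
    · rw [pullback.lift_fst]
      have hy' : (y ≫ pullback.fst a' π₂) ≫ pullback.snd a π = g ≫ π₂ := by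
        rw [← hy]
        simp only [Category.assoc]
        exact congrArg (y ≫ ·) pullback.condition
      apply pullback.hom_ext
      · rw [pullback.lift_fst]
        refine u₀ _ ?_
        rw [Category.assoc, pullback.condition, ← Category.assoc, hy']
        simp only [s, Category.assoc]
      · rw [pullback.lift_snd]
        exact hy'
    · rw [pullback.lift_snd]
      exact hy
  intro U c d hc hd
  have hL₁ : IsEquivOver L₁ := by
    obtain ⟨G₁, hG₁, -, ⟨β₁⟩⟩ := isEquivOver_inverse he₁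
    exact isEquivOver_of_iso ((bLeft G₁ α) ≪≫ bRight β₁ L₁)
      (isEquivOver_comp hG₁ (isEquivOver_comp (isEquivOver_ofSpMap a) he₂))
  exact liftBij_of_comparison (bRight (fpIso z z) f) (fun c => rfl) hL₁ U c d hc hd hX hY

end Descent

theorem exists_map_isEquivOver (h𝒳 : IsAlgStack Scheme.fppfPrecoverage 𝒳)
    (h𝒴 : IsAlgStack Scheme.fppfPrecoverage 𝒴) (f : 𝒳 ⥤ᵇ 𝒴) {x : Points 𝒳} {Q : 𝒳.obj → Prop}
    (hQ : Gerb.IsResGerbe Scheme.fppfPrecoverage 𝒳 x Q) {Q' : 𝒴.obj → Prop}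
    (hQ' : Gerb.IsResGerbe Scheme.fppfPrecoverage 𝒴 (Points.map f x) Q')
    {k : Type u} [Field k] {sk : Spec (CommRingCat.of k) ⟶ S} (p : overCat (Over.mk sk) ⥤ᵇ 𝒳)
    (hp : ∀ t : ↥(Over.mk sk).left, Points.ofChart p t = x)
    (e : BasedFunctor.comp (fpFst p p) (BasedFunctor.comp p f) ≅ BasedFunctor.comp (fpSnd p p) (BasedFunctor.comp p f))
    (he : ∀ c, e.hom.toNatTrans.app c = f.map c.obj.iso.hom)
    (hiso : IsEquivOver (fpLift (fpFst p p) (fpSnd p p) e)) :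
    ∃ g : fullSub 𝒳 Q ⥤ᵇ fullSub 𝒴 Q',
      Nonempty (BasedFunctor.comp g (subIncl 𝒴 Q') ≅ BasedFunctor.comp (subIncl 𝒳 Q) f) ∧ IsEquivOver g := by
  obtain ⟨g, ⟨γ⟩⟩ := exists_map_resGerbe h𝒳 h𝒴 f hQ hQ'
  obtain ⟨-, ha, hr, hn, hne, hsub, hx⟩ := hQ
  obtain ⟨-, ha', hr', hn', hne', hsub', -⟩ := hQ'
  have hX := h𝒳.isStack.1
  obtain ⟨K, _, sK, z, hz⟩ := hasFppfPoint_of_props ha hr hn hne hsub
  obtain ⟨K', _, sK', z', hz'⟩ := hasFppfPoint_of_props ha' hr' hn' hne' hsub'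
  let zz : overCat (Over.mk sK) ⥤ᵇ 𝒳 := BasedFunctor.comp z (subIncl 𝒳 Q)
  haveI : Nonempty ↥(Over.mk sK).left := inferInstanceAs (Nonempty (PrimeSpectrum K))
  obtain ⟨t⟩ := nonempty_points_overCat (T := Over.mk sK)
  have hzt : Points.map zz t = x := (points_map_comp z (subIncl 𝒳 Q) t).trans (hx _)
  obtain ⟨s, hs⟩ : ∃ s, Points.map p s = Points.map zz t := by
    let t₀ : ↥(Over.mk sk).left := (Classical.arbitrary (PrimeSpectrum k) : PrimeSpectrum k)
    refine ⟨Points.mk (𝒳 := overCat (Over.mk sk))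
      { K := ↥((Over.mk sk).left.residueField t₀)
        str := (Over.mk sk).left.fromSpecResidueField t₀ ≫ (Over.mk sk).hom
        obj := Over.mk (Over.homMk ((Over.mk sk).left.fromSpecResidueField t₀) rfl :
          Over.mk ((Over.mk sk).left.fromSpecResidueField t₀ ≫ (Over.mk sk).hom) ⟶ Over.mk sk)
        lies := rfl }, ?_⟩
    rw [hzt, ← hp t₀]
    rfl
  obtain ⟨L, _, sL, a, b, ⟨α⟩⟩ := exists_common_field hX p zz hs
  have hbase : ∀ (U : Over S) (c d : (overCat (Over.mk sK)).obj), c.left = U → d.left = U →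
      (∃ l, l ≫ b = c.hom) → (∃ l, l ≫ b = d.hom) → LiftBij f U (zz.obj c) (zz.obj d) := by
    rintro U c d hc hd ⟨l, hl⟩ ⟨l', hl'⟩
    have e1 : (overMap b).obj (Over.mk l) = c := congrArg Over.mk hl
    have e2 : (overMap b).obj (Over.mk l') = d := congrArg Over.mk hl'
    let c' : (overCat (Over.mk sL)).obj := Over.mk l
    let d' : (overCat (Over.mk sL)).obj := Over.mk l'
    have h0 : LiftBij f U (p.obj ((overMap a).obj c')) (p.obj ((overMap a).obj d')) :=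
      liftBij_of_comparison e he hiso U _ _ hc hd hX h𝒴.isStack.1
    let i : p.obj ((overMap a).obj c') ≅ zz.obj ((overMap b).obj c') :=
      ((BasedNatTrans.forgetful _ _).mapIso α).app c'
    let j : p.obj ((overMap a).obj d') ≅ zz.obj ((overMap b).obj d') :=
      ((BasedNatTrans.forgetful _ _).mapIso α).app d'
    haveI : 𝒳.p.IsHomLift (𝟙 U) i.hom := α.hom.isHomLift (a := c') hc
    haveI : 𝒳.p.IsHomLift (𝟙 U) j.hom := α.hom.isHomLift (a := d') hd
    have := h0.congr f i j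
    rwa [e1, e2] at this
  have hall := liftBij_descend b h𝒳 h𝒴 f zz hbase
  have hall' : ∀ (U : Over S) (c d : (overCat (Over.mk sK)).obj), c.left = U → d.left = U →
      LiftBij (BasedFunctor.comp (subIncl 𝒳 Q) f) U (z.obj c) (z.obj d) := fun U c d hc hd =>
    ⟨fun n n' hn hn' h => ObjectProperty.hom_ext _ ((hall U c d hc hd).1 n.hom n'.hom
      ((subIncl 𝒳 Q).preserves_isHomLift (𝟙 U) n) ((subIncl 𝒳 Q).preserves_isHomLift (𝟙 U) n') h),
    fun m hm => by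
      obtain ⟨n, hn, hnm⟩ := (hall U c d hc hd).2 m hm
      haveI : 𝒳.p.IsHomLift (𝟙 U) ((subIncl 𝒳 Q).map (ObjectProperty.homMk n : z.obj c ⟶ z.obj d)) := hn
      exact ⟨ObjectProperty.homMk n, (subIncl 𝒳 Q).isHomLift_map (𝟙 U) (ObjectProperty.homMk n : z.obj c ⟶ z.obj d), hnm⟩⟩
  obtain ⟨z1, z2, z3⟩ := hz.locQ (isAlgStack_overCat _) ha
  have hz0 := locSurjObj_of_flat_lfp_surjective (isAlgStack_overCat _) ha z1 z2 z3
  have hY' := Fib44.isPrestack_of_isStack h𝒴.isStack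
  have := full_of_liftBij ha.isStack hY' z hz0 (BasedFunctor.comp (subIncl 𝒳 Q) f) hall'
  have := faithful_of_liftBij ha.isStack hY' z hz0 (BasedFunctor.comp (subIncl 𝒳 Q) f) hall'
  let γ' : g.toFunctor ⋙ (subIncl 𝒴 Q').toFunctor ≅ (BasedFunctor.comp (subIncl 𝒳 Q) f).toFunctor :=
    (BasedNatTrans.forgetful _ _).mapIso γ
  haveI : (g.toFunctor ⋙ (subIncl 𝒴 Q').toFunctor).Full := Functor.Full.of_iso γ'.symm
  haveI : (g.toFunctor ⋙ (subIncl 𝒴 Q').toFunctor).Faithful := Functor.Faithful.of_iso γ'.symm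
  haveI : g.toFunctor.Faithful := Functor.Faithful.of_comp g.toFunctor (subIncl 𝒴 Q').toFunctor
  haveI : g.toFunctor.Full := Functor.Full.of_comp_faithful g.toFunctor (subIncl 𝒴 Q').toFunctor
  exact ⟨g, ⟨γ⟩, isEquivOver_of_mono_fppf_field ha ha' (isMono_of_fullyFaithful ha ha') hne hz'⟩

end Groth.Agent.Gerb44
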