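import Groth.Agent.Gerb44.SpBGGerbe
import Groth.Agent.Fib44.GerbeFunctor
import Groth.Agent.Gerb44.GerbeFlat

/-!
Gerbes are the morphisms that are fppf-locally classifying stacks.
-/

set_option autoImplicit false
set_option maxHeartbeats 1000000
set_option linter.style.haveILetI false
set_option backward.isDefEq.respectTransparency false
set_option backward.isDefEq.respectTransparency.types false
universe v₄ u₄ v₃ u₃ v₂ u₂ v u

open CategoryTheory CategoryTheory.Limits MonoidalCategory CartesianMonoidalCategory MonObj GrpObj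
  AlgebraicGeometry Opposite AlgSt FibCat

namespace Groth.Agent.Gerb44

section General

variable {C : Type u} [Category.{v} C] {J : GrothendieckTopology C}
  {𝒳 : BasedCategory.{v₂, u₂} C} {𝒴 : BasedCategory.{v₃, u₃} C}

theorem isGerbeOver_congr {F F' : 𝒳 ⥤ᵇ 𝒴} (α : F ≅ F') (h : Gerb.IsGerbeOver J F) :
    Gerb.IsGerbeOver J F' := by
  refine ⟨fun y => ?_, fun a a' b hb => ?_⟩
  · obtain ⟨R, hR, hl⟩ := h.1 y
    refine ⟨R, hR, fun V f hf => ?_⟩
    obtain ⟨x, g, hg⟩ := hl f hf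
    have hx : (𝟙 (𝒳.p.obj x)) = 𝟙 _ := rfl
    have hi : 𝒴.p.IsHomLift (𝟙 V) (α.inv.toNatTrans.app x) :=
      Fib44.lift_id_of_eq 𝒴.p ((F.w_obj x).symm.trans (@IsHomLift.domain_eq _ _ _ _ 𝒴.p _ _ _ _ f g hg))
        (α.inv.isHomLift' x)
    exact ⟨x, α.inv.toNatTrans.app x ≫ g,
      @IsHomLift.comp_lift_id_left _ _ _ _ 𝒴.p _ _ _ _ _ _ _ hg _ hi⟩
  · haveI := hb
    have ha' : 𝒳.p.obj a' = 𝒳.p.obj a :=
      (F'.w_obj a').symm.trans (IsHomLift.codomain_eq 𝒴.p (𝟙 (𝒳.p.obj a)) b)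
    haveI := α.hom.isHomLift' a
    haveI := Fib44.lift_id_of_eq 𝒴.p ha' (α.inv.isHomLift' a')
    obtain ⟨R, hR, hl⟩ := h.2 a a' (α.hom.toNatTrans.app a ≫ b ≫ α.inv.toNatTrans.app a') inferInstance
    refine ⟨R, hR, fun V f hf => ?_⟩
    obtain ⟨x₀, φ, ψ, hφ, hψ, he⟩ := hl f hf
    refine ⟨x₀, φ, ψ, hφ, hψ, ?_⟩
    have e1 := α.hom.toNatTrans.naturality φ
    have e2 := α.hom.toNatTrans.naturality ψ
    have e3 : α.inv.toNatTrans.app a' ≫ α.hom.toNatTrans.app a' = 𝟙 _ :=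
      (Fib44.isoApp α a').inv_hom_id
    haveI : IsIso (α.hom.toNatTrans.app x₀) := (Fib44.isoApp α x₀).isIso_hom
    rw [← cancel_epi (α.hom.toNatTrans.app x₀), ← Category.assoc, ← e1, ← e2, ← he]
    simp only [Category.assoc]
    rw [e3, Category.comp_id]

theorem isGerbeOver_equivalence (h𝒳 : IsFibGrpd 𝒳.p) (e : 𝒳 ⥤ᵇ 𝒴)
    (he : IsEquivOver e) : Gerb.IsGerbeOver J e := by
  haveI := Fib44.isEquivalence_of_isEquivOver he
  refine ⟨fun z => ⟨⊤, J.top_mem _, fun V f _ => ?_⟩, fun a a' b hb => ⟨⊤, J.top_mem _, fun V f _ => ?_⟩⟩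
  · obtain ⟨x, k, hk⟩ := Fib44.essSurjOver_of_isEquivOver he z
    haveI := hk
    have hx : 𝒳.p.obj x = 𝒴.p.obj z :=
      (e.w_obj x).symm.trans (IsHomLift.domain_eq 𝒴.p (𝟙 (𝒴.p.obj z)) k.hom)
    obtain ⟨x', φ, hφ⟩ := Fib44.exists_lift' 𝒳.p h𝒳 hx f
    haveI := hφ
    exact ⟨x', e.map φ ≫ k.hom, inferInstance⟩
  · obtain ⟨c, hc⟩ := e.toFunctor.map_surjective b
    haveI : 𝒳.p.IsHomLift (𝟙 (𝒳.p.obj a)) c := by
      rw [← BasedFunctor.isHomLift_iff e, hc]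
      exact hb
    obtain ⟨x', φ, hφ⟩ := Fib44.exists_lift' 𝒳.p h𝒳 rfl f
    haveI := hφ
    exact ⟨x', φ, φ ≫ c, hφ, inferInstance, by rw [Functor.map_comp, hc]⟩

end General

section Classifying

variable {S : Scheme.{u}} {B : AlgSp.Sp S} (G : Over B) [GrpObj G]

local notation "K" => Scheme.fppfPrecoverage
local notation "β" => W4stkstmgerbes.spQuotToBase Scheme.fppfPrecoverage G (trivGAction G)

/-- The classifying stack is a gerbe over its base. -/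
theorem isGerbeOver_spQuotToBase : Gerb.IsGerbeOver (AlgSp.J S) β := by
  refine ⟨fun y => ⟨⊤, (AlgSp.J S).top_mem _, fun V f _ => ?_⟩, fun A A' b hb => ?_⟩
  · obtain ⟨c, hc⟩ := sec_surj (B.obj.map f.op y.sec)
    let o : SpPt B := ⟨V, c⟩
    exact ⟨trivSp G o, (⟨f, hc.symm⟩ : o.toElt ⟶ y), IsHomLift.of_fac' _ _ _ rfl rfl (by
      change f = _
      simp)⟩
  · have hA' : A'.base = A.base := @IsHomLift.codomain_eq _ _ _ _ (ofSp B).p _ _ _ _ _ b hb
    have hbA : (AlgSp.yon S).map (eqToHom hA') ≫ A.b = A'.b := by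
      refine sec_inj ?_
      rw [← sec_comp]
      have h1 : b.hom = eqToHom hA'.symm :=
        (@IsHomLift.fac' _ _ _ _ (ofSp B).p _ _ _ _ _ b hb).trans (by simp)
      have h2 := b.map_sec
      rw [h1] at h2
      change B.obj.map (eqToHom hA').op (A.b.hom.app (op A.base) ⟨𝟙 A.base⟩) = _
      change B.obj.map _ (A'.b.hom.app (op A'.base) ⟨𝟙 A'.base⟩) = A.b.hom.app (op A.base) ⟨𝟙 A.base⟩ at h2
      rw [← h2, ← Functor.map_comp_apply, ← op_comp, eqToHom_trans]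
      exact B.obj.map_id_apply _ _
    obtain ⟨R, hR, hl⟩ := exists_spTriv_cover A
    obtain ⟨R', hR', hl'⟩ := exists_spTriv_cover A'
    refine ⟨R ⊓ R'.pullback (eqToHom hA'.symm), (AlgSp.J S).intersection_covering hR
      ((AlgSp.J S).pullback_stable _ hR'), fun V g hg => ?_⟩
    obtain ⟨o, m, hm⟩ := hl g hg.1
    obtain ⟨o', m', hm'⟩ := hl' _ hg.2
    let oo : SpPt B := o
    let oo' : SpPt B := o'
    have hV : oo.base = V := @IsHomLift.domain_eq _ _ _ _ (SpBG K G).p _ _ _ _ g m hm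
    have hV' : oo'.base = V :=
      @IsHomLift.domain_eq _ _ _ _ (SpBG K G).p _ _ _ _ (g ≫ eqToHom hA'.symm) m' hm'
    subst hV
    have hmb : m.base = g := by
      have := @IsHomLift.fac' _ _ _ _ (SpBG K G).p _ _ _ _ _ m hm
      simp at this
      exact this
    have hmb' : m'.base = eqToHom hV' ≫ g ≫ eqToHom hA'.symm := by
      have := @IsHomLift.fac' _ _ _ _ (SpBG K G).p _ _ _ _ _ m' hm'
      simp at this
      exact this
    have hwb : (AlgSp.yon S).map (eqToHom hV'.symm) ≫ oo'.b = oo.b := by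
      have e1 : (AlgSp.yon S).map m.base ≫ A.b = oo.b := m.wb
      have e2 : (AlgSp.yon S).map m'.base ≫ A'.b = oo'.b := m'.wb
      rw [← e1, ← e2, ← hbA, ← Category.assoc, ← Category.assoc, ← Functor.map_comp,
        ← Functor.map_comp, hmb, hmb']
      simp
    obtain ⟨k, hk, -⟩ := exists_spHom (G := G) (o := oo) (o' := oo') (eqToHom hV'.symm) hwb 1
    have hψ : (SpBG K G).p.IsHomLift g (k ≫ m') := IsHomLift.of_fac' _ _ _ rfl hA' (by
      change spBase k ≫ m'.base = _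
      rw [hk, hmb']
      simp)
    refine ⟨trivSp G oo, m, k ≫ m', hm, hψ, ?_⟩
    haveI h1 : (ofSp B).p.IsHomLift g ((β).map m) :=
      @BasedFunctor.preserves_isHomLift _ _ _ _ β _ _ _ _ g m hm
    haveI h2 : (ofSp B).p.IsHomLift g ((β).map (k ≫ m')) :=
      @BasedFunctor.preserves_isHomLift _ _ _ _ β _ _ _ _ g (k ≫ m') hψ
    haveI := hb
    exact ofSp_hom_ext _ _ g (IsHomLift.comp_lift_id_right (ofSp B).p _ _ _) h2

end Classifying

/-- A morphism of algebraic stacks is a gerbe iff it is fppf-locally a classifying stack. -/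
theorem isGerbeOver_iff_exists_cover {S : Scheme.{u}} {𝒳 𝒴 : AlgSt.Cat S}
    (h𝒳 : IsAlgStack Scheme.fppfPrecoverage 𝒳) (h𝒴 : IsAlgStack Scheme.fppfPrecoverage 𝒴)
    (π : 𝒳 ⥤ᵇ 𝒴) :
    Gerb.IsGerbeOver (QuotSh.J Scheme.fppfPrecoverage S) π ↔
      ∃ (U : AlgSp.Space S) (G : Over U.obj) (_ : GrpObj G),
        AlgSp.IsAlgSpace G.left ∧ AlgSp.LocP @Flat G.hom ∧ AlgSp.LocP @LocallyOfFinitePresentation G.hom ∧
        ∃ u : AlgSt.ofSp U.obj ⥤ᵇ 𝒴,
          AlgSt.RepByAlgSpWith (AlgSp.LocP @Flat) u ∧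
          AlgSt.RepByAlgSpWith (AlgSp.LocP @LocallyOfFinitePresentation) u ∧
          AlgSt.RepByAlgSpWith AlgSp.IsSurjectiveMor u ∧
          ∃ e : AlgSt.SpBG Scheme.fppfPrecoverage G ⥤ᵇ FibCat.fp u π,
            FibCat.IsEquivOver e ∧
            Nonempty (BasedFunctor.comp e (FibCat.fpFst u π) ≅
              W4stkstmgerbes.spQuotToBase Scheme.fppfPrecoverage G (AlgSt.trivGAction G)) := by
  constructor
  · intro hπ
    obtain ⟨W, z, s, hz, ⟨α⟩⟩ := exists_local_section h𝒳 h𝒴 hπ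
    have hW := (AlgSt88.isDM_ofSp (AlgSt88.spY W)).1
    have hP := AlgSt88.isAlgStack_fp h𝒴.isStack h𝒴.diag hW h𝒳 z π
    have hg := isGerbeOver_fpFst h𝒳.isStack.1 h𝒴.isStack.1 hW.isStack.1 z hπ
    let σ : ofSch W ⥤ᵇ fp z π := fpLift (BasedFunctor.id (ofSch W)) s α
    obtain ⟨G, hG, h1, h2, h3, e, he, he'⟩ :=
      exists_spBG_equivOver hP (AlgSt88.spY W) (fpFst z π) hg σ (Iso.refl _)
    exact ⟨AlgSt88.spY W, G, hG, h1, h2, h3, z, hz.flat, hz.lfp, hz.surj, e, he, he'⟩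
  · rintro ⟨U, G, hG, -, -, -, u, hu1, hu2, hu3, e, he, ⟨ε⟩⟩
    have hU := (AlgSt88.isDM_ofSp U).1
    have hP := AlgSt88.isFibGrpd_fp hU.isStack.1 h𝒳.isStack.1 h𝒴.isStack.1 u π
    obtain ⟨Ψ, ⟨a⟩, ⟨b⟩⟩ := he
    have hΨ : IsEquivOver Ψ := ⟨e, ⟨b⟩, ⟨a⟩⟩
    have hF' : Gerb.IsGerbeOver (QuotSh.J Scheme.fppfPrecoverage S) (fpFst u π) := by
      have h1 := Fib44.isGerbeOver_comp (J := QuotSh.J Scheme.fppfPrecoverage S) hP
        (AlgSt88.isFibGrpd_spQuotSt (trivGAction G)) (isGerbeOver_equivalence hP Ψ hΨ)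
        (isGerbeOver_spQuotToBase G)
      exact isGerbeOver_congr (AlgSt88.bLeft Ψ ε.symm ≪≫ AlgSt88.bRight b (fpFst u π)) h1
    obtain ⟨a1, a2, a3⟩ := (RepFppf.mk hu1 hu2 hu3).locQ hU h𝒴
    exact Fib44.isGerbeOver_descent h𝒳.isStack.1 h𝒴.isStack.1 (Fib44.isTwoCartOver_fp u π)
      (locSurjObj_of_flat_lfp_surjective hU h𝒴 a1 a2 a3) hF'

end Groth.Agent.Gerb44
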