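import Groth.Agent.Gerb44.AutSheaf
import Groth.Agent.Fib44.DenseEquiv
import Groth.Agent.Fib44.Psh
import Groth.Agent.AlgSt88.SpQuotStack
import Groth.Prelude.Def_W4stkstmgerbesQuotBase

/-!
A gerbe over a space with a section is the stack of torsors of the automorphisms of the section.
-/

set_option autoImplicit false
set_option maxHeartbeats 1000000
set_option linter.style.haveILetI false
set_option backward.isDefEq.respectTransparency false
set_option backward.isDefEq.respectTransparency.types false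
universe u

open CategoryTheory CategoryTheory.Limits MonoidalCategory CartesianMonoidalCategory MonObj GrpObj
  AlgebraicGeometry Opposite AlgSt FibCat

namespace Groth.Agent.Gerb44

variable {S : Scheme.{u}} {B : AlgSp.Sp S}

local notation "K" => Scheme.fppfPrecoverage

/-- A scheme over `S` with a section of `B`. -/
structure SpPt (B : AlgSp.Sp S) : Type (u + 1) where
  base : Over S
  b : (AlgSp.yon S).obj base ⟶ B

/-- The object of the category of `B`. -/
abbrev SpPt.toElt (o : SpPt B) : (ofSp B).obj := ⟨o.base, o.b.hom.app (op o.base) ⟨𝟙 o.base⟩⟩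

theorem sec_comp {T T' : Over S} (f : T ⟶ T') (b : (AlgSp.yon S).obj T' ⟶ B) :
    B.obj.map f.op (b.hom.app (op T') ⟨𝟙 T'⟩) =
      ((AlgSp.yon S).map f ≫ b).hom.app (op T) ⟨𝟙 T⟩ := by
  refine (NatTrans.naturality_apply b.hom f.op (⟨𝟙 T'⟩ : ULift (T' ⟶ T'))).symm.trans ?_
  exact congrArg (fun t : ULift (T ⟶ T') => b.hom.app (op T) t)
    (ULift.ext _ _ ((Category.comp_id f).trans (Category.id_comp f).symm))

theorem sec_inj {T : Over S} {Y : AlgSp.Sp S} {b b' : (AlgSp.yon S).obj T ⟶ Y}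
    (h : b.hom.app (op T) ⟨𝟙 T⟩ = b'.hom.app (op T) ⟨𝟙 T⟩) : b = b' :=
  (AlgSp.J S).uliftYonedaEquiv.injective h

theorem sec_surj {T : Over S} {Y : AlgSp.Sp S} (y : Y.obj.obj (op T)) :
    ∃ b : (AlgSp.yon S).obj T ⟶ Y, b.hom.app (op T) ⟨𝟙 T⟩ = y :=
  ((AlgSp.J S).uliftYonedaEquiv (X := T) (F := Y)).surjective y

/-- The morphism of objects attached to a compatible morphism of schemes. -/
abbrev eltMap {o o' : SpPt B} (f : o.base ⟶ o'.base) (wb : (AlgSp.yon S).map f ≫ o'.b = o.b) :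
    o.toElt ⟶ o'.toElt :=
  ⟨f, by rw [sec_comp, wb]⟩

section Triv

variable (G : Over B) [GrpObj G]

/-- The trivial torsor. -/
noncomputable def trivSp (o : SpPt B) : SpQuotObj K G (trivGAction G) where
  base := o.base
  b := o.b
  P := G ⊗ Over.mk o.b
  act := spLeftMul G _
  π := snd G _
  cart := isPullback_spLeftMul _
  loc := hasSecLoc_of_section K (snd G (Over.mk o.b)).left
    (lift (toUnit _ ≫ η[G]) (𝟙 (Over.mk o.b))).left (by
      rw [← Over.comp_left, lift_snd, Over.id_left]; rfl)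
  φ := toUnit _
  eqv := toUnit_unique _ _

/-- The category of trivial torsors. -/
noncomputable abbrev spTrivCat : BasedCategory.{u + 1, u + 1} (Over S) where
  obj := InducedCategory (SpQuotObj K G (trivGAction G)) (trivSp G)
  p := inducedFunctor (trivSp G) ⋙ SpQuotObj.forget K G (trivGAction G)

/-- The inclusion of trivial torsors. -/
noncomputable def spTrivIncl : spTrivCat G ⥤ᵇ SpBG K G where
  toFunctor := inducedFunctor (trivSp G)
  w := rfl

instance : (spTrivIncl G).toFunctor.Full := inferInstanceAs (inducedFunctor (trivSp G)).Full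
instance : (spTrivIncl G).toFunctor.Faithful := inferInstanceAs (inducedFunctor (trivSp G)).Faithful

variable {G}
variable {o o' o'' : SpPt B}

/-- The map of bases. -/
abbrev spBase (k : trivSp G o ⟶ trivSp G o') : o.base ⟶ o'.base := k.base

theorem spBase_wb (k : trivSp G o ⟶ trivSp G o') : (AlgSp.yon S).map (spBase k) ≫ o'.b = o.b := k.wb

/-- The map of total spaces. -/
abbrev spTop (k : trivSp G o ⟶ trivSp G o') : G ⊗ Over.mk o.b ⟶ G ⊗ Over.mk o'.b := k.top

/-- The map of bases over `B`. -/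
abbrev spBaseHom (k : trivSp G o ⟶ trivSp G o') : Over.mk o.b ⟶ Over.mk o'.b :=
  bHom (spBase k) (spBase_wb k)

/-- The group element of a morphism of trivial torsors. -/
noncomputable def spElt (k : trivSp G o ⟶ trivSp G o') : Over.mk o.b ⟶ G :=
  lift (1 : Over.mk o.b ⟶ G) (𝟙 (Over.mk o.b)) ≫ spTop k ≫ fst G (Over.mk o'.b)

theorem spUnit_top {T T' : Over B} (f : T ⟶ T') (g : T ⟶ G) :
    lift (1 : T ⟶ G) (𝟙 T) ≫ lift (fst G T * (snd G T ≫ g)) (snd G T ≫ f) = lift g f := by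
  simp [comp_lift, MonObj.comp_mul]

theorem spLeftMul_lift {T Z : Over B} (a b : Z ⟶ G) (t : Z ⟶ T) :
    lift a (lift b t) ≫ (spLeftMul G T).act = lift (a * b) t := by
  simp [spLeftMul, comp_lift, MonObj.comp_mul]

theorem spTop_eq (k : trivSp G o ⟶ trivSp G o') :
    spTop k = lift (fst G (Over.mk o.b) * (snd G (Over.mk o.b) ≫ spElt k))
      (snd G (Over.mk o.b) ≫ spBaseHom k) := by
  let T := Over.mk o.b
  have hw : spTop k ≫ snd G (Over.mk o'.b) = snd G T ≫ spBaseHom k := k.cart.w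
  have hu : lift (1 : T ⟶ G) (𝟙 T) ≫ spTop k = lift (spElt k) (spBaseHom k) := by
    apply CartesianMonoidalCategory.hom_ext
    · simp [spElt, T]
    · rw [Category.assoc, hw, lift_snd_assoc, Category.id_comp, lift_snd]
  have h1 : (spLeftMul G T).act ≫ spTop k = (G ◁ spTop k) ≫ (spLeftMul G (Over.mk o'.b)).act := k.eqv
  have h2 := congrArg (fun t => lift (fst G T) (lift (1 : G ⊗ T ⟶ G) (snd G T)) ≫ t) h1
  rw [← Category.assoc, spLeftMul_lift, _root_.mul_one, lift_fst_snd, Category.id_comp,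
    lift_whiskerLeft_assoc,
    show lift (1 : G ⊗ T ⟶ G) (snd G T) = snd G T ≫ lift (1 : T ⟶ G) (𝟙 T) by simp [comp_lift],
    Category.assoc, hu, comp_lift, spLeftMul_lift] at h2
  exact h2

theorem spElt_ext {k k' : trivSp G o ⟶ trivSp G o'} (h : spBase k = spBase k')
    (h' : spElt k = spElt k') : k = k' := by
  have hb : spBaseHom k = spBaseHom k' := Over.OverMorphism.ext (congrArg (AlgSp.yon S).map h)
  exact SpQuotObj.hom_ext h (show spTop k = spTop k' by rw [spTop_eq k, spTop_eq k', hb, h'])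

theorem exists_spHom (f : o.base ⟶ o'.base) (wb : (AlgSp.yon S).map f ≫ o'.b = o.b)
    (g : Over.mk o.b ⟶ G) : ∃ k : trivSp G o ⟶ trivSp G o', spBase k = f ∧ spElt k = g := by
  let T := Over.mk o.b
  let f' : T ⟶ Over.mk o'.b := bHom f wb
  let e : G ⊗ T ≅ G ⊗ T :=
    { hom := lift (fst G T * (snd G T ≫ g)) (snd G T)
      inv := lift (fst G T * (snd G T ≫ g)⁻¹) (snd G T)
      hom_inv_id := by simp [MonObj.comp_mul, GrpObj.comp_inv]
      inv_hom_id := by simp [MonObj.comp_mul, GrpObj.comp_inv] }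
  have he : e.hom ≫ (G ◁ f') = lift (fst G T * (snd G T ≫ g)) (snd G T ≫ f') := lift_whiskerLeft _ _ _
  let top : G ⊗ T ⟶ G ⊗ Over.mk o'.b := lift (fst G T * (snd G T ≫ g)) (snd G T ≫ f')
  refine ⟨{ base := f, wb := wb, top := top, eqv := ?_, cart := ?_, wφ := toUnit_unique _ _ }, rfl, ?_⟩
  · show (spLeftMul G T).act ≫ top = (G ◁ top) ≫ (spLeftMul G (Over.mk o'.b)).act
    rw [show G ◁ top = lift (fst G (G ⊗ T)) (snd G (G ⊗ T) ≫ top) by ext <;> simp,
      comp_lift (snd G (G ⊗ T)), spLeftMul_lift]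
    simp [top, spLeftMul, comp_lift, MonObj.comp_mul, _root_.mul_assoc]
  · show IsPullback top (snd G T) (snd G (Over.mk o'.b)) f'
    have : top = e.hom ≫ (G ◁ f') := he.symm
    rw [this]
    exact (isPullback_whiskerLeft' f').of_iso e.symm (Iso.refl _) (Iso.refl _) (Iso.refl _)
      (by simp) (by simp [e]) (by simp) (by simp)
  · show lift (1 : T ⟶ G) (𝟙 T) ≫ top ≫ fst G (Over.mk o'.b) = g
    rw [← Category.assoc, spUnit_top, lift_fst]

theorem spElt_id : spElt (𝟙 (trivSp G o)) = 1 := by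
  show lift (1 : Over.mk o.b ⟶ G) (𝟙 _) ≫ 𝟙 (G ⊗ Over.mk o.b) ≫ fst G (Over.mk o.b) = 1
  simp

theorem spElt_comp (k : trivSp G o ⟶ trivSp G o') (l : trivSp G o' ⟶ trivSp G o'') :
    spElt (k ≫ l) = spElt k * (spBaseHom k ≫ spElt l) := by
  show lift (1 : Over.mk o.b ⟶ G) (𝟙 _) ≫ (spTop k ≫ spTop l) ≫ fst G (Over.mk o''.b) = _
  rw [← Category.assoc, ← Category.assoc, spTop_eq k, spUnit_top, spTop_eq l, Category.assoc, lift_fst,
    MonObj.comp_mul, lift_fst, lift_snd_assoc]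

theorem exists_lift_spTrivCat {a : (spTrivCat G).obj} {V : Over S} (f : V ⟶ (spTrivCat G).p.obj a) :
    ∃ (a' : (spTrivCat G).obj) (k : a' ⟶ a), (spTrivCat G).p.IsHomLift f k := by
  let oo : SpPt B := a
  let o₁ : SpPt B := ⟨V, (AlgSp.yon S).map f ≫ oo.b⟩
  obtain ⟨k, hk, -⟩ := exists_spHom (G := G) (o := o₁) (o' := oo) f rfl 1
  exact ⟨o₁, InducedCategory.homMk k, IsHomLift.of_fac' _ _ _ rfl rfl (by
    change spBase k = _
    rw [hk]; simp)⟩

theorem mem_J_of_cover' {U : Over S} {R₀ : Presieve U.left} (hR₀ : R₀ ∈ K U.left) (R : Sieve U)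
    (h : ∀ ⦃W : Scheme.{u}⦄ (g : W ⟶ U.left), R₀ g →
      R (Over.homMk g rfl : Over.mk (g ≫ U.hom) ⟶ U)) : R ∈ AlgSp.J S U := by
  refine (GrothendieckTopology.mem_over_iff _ R).2 ?_
  refine (Precoverage.toGrothendieck _).superset_covering (S := Sieve.generate R₀) ?_
    (Precoverage.generate_mem_toGrothendieck hR₀)
  exact (Sieve.generate_le_iff _ _).2 fun W g hg => (Sieve.overEquiv_iff R g).2 (h g hg)

theorem exists_spTriv_cover (A : (SpBG K G).obj) :
    ∃ R ∈ AlgSp.J S ((SpBG K G).p.obj A), ∀ ⦃V : Over S⦄ (g : V ⟶ (SpBG K G).p.obj A), R g →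
      ∃ (a : (spTrivCat G).obj) (m : (spTrivIncl G).obj a ⟶ A), (SpBG K G).p.IsHomLift g m := by
  obtain ⟨R, hR, hs⟩ := A.loc
  let P : Sieve ((SpBG K G).p.obj A) :=
    { arrows := fun V g => ∃ (a : (spTrivCat G).obj) (m : (spTrivIncl G).obj a ⟶ A),
        (SpBG K G).p.IsHomLift g m
      downward_closed := by
        rintro Y Z g ⟨a, m, hm⟩ f
        have hT : (spTrivCat G).p.obj a = Y :=
          ((spTrivIncl G).w_obj a).symm.trans (IsHomLift.domain_eq (SpBG K G).p g m)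
        subst hT
        obtain ⟨a', k, hk⟩ := exists_lift_spTrivCat f
        exact ⟨a', (spTrivIncl G).map k ≫ m,
          @IsHomLift.comp _ _ _ _ (SpBG K G).p _ _ _ _ _ _ f g ((spTrivIncl G).map k) m
            (@BasedFunctor.preserves_isHomLift _ _ _ _ (spTrivIncl G) _ _ _ _ f k hk) hm⟩ }
  refine ⟨P, mem_J_of_cover' hR P fun W g hg => ?_, fun V g hg => hg⟩
  obtain ⟨s, hs'⟩ := hs g hg
  let T : Over S := Over.mk (g ≫ A.base.hom)
  let f : T ⟶ A.base := Over.homMk g rfl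
  let o₁ : SpPt B := ⟨T, (AlgSp.yon S).map f ≫ A.b⟩
  let σ : Over.mk o₁.b ⟶ A.P := Over.homMk s (by
    have e : A.π.left ≫ A.b = A.P.hom := Over.w A.π
    change s ≫ A.P.hom = (AlgSp.yon S).map f ≫ A.b
    rw [← e, ← Category.assoc, hs'])
  have hσ : σ ≫ A.π = bHom f rfl := Over.OverMorphism.ext hs'
  let m : trivSp G o₁ ⟶ A :=
    { base := f
      wb := rfl
      top := (G ◁ σ) ≫ A.act.act
      eqv := by
        show (spLeftMul G (Over.mk o₁.b)).act ≫ (G ◁ σ) ≫ A.act.act =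
          (G ◁ ((G ◁ σ) ≫ A.act.act)) ≫ A.act.act
        have hm : (G ◁ A.act.act) ≫ A.act.act = (α_ G G A.P).inv ≫ (μ[G] ▷ A.P) ≫ A.act.act := by
          rw [A.act.mul_act, Iso.inv_hom_id_assoc]
        have hμ : fst (G ⊗ G) A.P ≫ μ[G] = (fst _ _ ≫ fst G G) * (fst _ _ ≫ snd G G) := by
          rw [Hom.mul_def, ← comp_lift, lift_fst_snd, Category.comp_id]
        have h : (spLeftMul G (Over.mk o₁.b)).act ≫ (G ◁ σ) =
            (G ◁ (G ◁ σ)) ≫ (α_ G G A.P).inv ≫ (μ[G] ▷ A.P) := by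
          apply CartesianMonoidalCategory.hom_ext <;>
            simp [spLeftMul, comp_lift, MonObj.comp_mul, hμ]
        rw [MonoidalCategory.whiskerLeft_comp, Category.assoc, hm, reassoc_of% h]
      cart := by
        show IsPullback ((G ◁ σ) ≫ A.act.act) (snd G (Over.mk o₁.b)) A.π (bHom f rfl)
        rw [← hσ]
        exact (isPullback_whiskerLeft' σ).paste_horiz A.cart
      wφ := toUnit_unique _ _ }
  exact ⟨o₁, m, IsHomLift.of_fac' _ _ _ rfl rfl (by
    change f = _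
    simp
    rfl)⟩

end Triv

theorem ofSp_hom_ext {a a' : (ofSp B).obj} (φ ψ : a ⟶ a') {R R' : Over S} (f : R ⟶ R')
    (h : (ofSp B).p.IsHomLift f φ) (h' : (ofSp B).p.IsHomLift f ψ) : φ = ψ :=
  Stk.EltObj.hom_ext ((@IsHomLift.fac' _ _ _ _ (ofSp B).p _ _ _ _ f φ h).trans
    (@IsHomLift.fac' _ _ _ _ (ofSp B).p _ _ _ _ f ψ h').symm)

section Sect

variable {𝒳 : AlgSt.Cat S} (x : ofSp B ⥤ᵇ 𝒳) (hX : IsFibGrpd 𝒳.p)
  (hs : Presheaf.IsSheaf (AlgSp.J S) (autPsh x hX))

local notation "𝔾" => autOver x hX hs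

/-- The automorphism attached to a point of the group. -/
noncomputable def autEl (o : SpPt B) (g : Over.mk o.b ⟶ 𝔾) : Gerb.AutO (x.obj o.toElt) :=
  (famEquiv x hX hs (Over.mk o.b) g).1 (⟨o.base, ⟨𝟙 o.base⟩⟩ : (ofSch o.base).obj)

theorem autEl_mul (o : SpPt B) (g h : Over.mk o.b ⟶ 𝔾) :
    letI := autGrp x hX hs
    autEl x hX hs o (g * h) = autEl x hX hs o g * autEl x hX hs o h := by
  unfold autEl
  rw [famEquiv_mul]
  rfl

theorem autEl_bijective (o : SpPt B) : Function.Bijective (autEl x hX hs o) := by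
  constructor
  · intro g g' h
    refine Over.OverMorphism.ext (sec_inj ?_)
    refine (famEquiv_spec x hX hs g (⟨o.base, ⟨𝟙 o.base⟩⟩ : (ofSch o.base).obj)).trans ?_
    refine Eq.trans ?_ (famEquiv_spec x hX hs g' (⟨o.base, ⟨𝟙 o.base⟩⟩ : (ofSch o.base).obj)).symm
    exact congrArg (famVal x (Y := Over.mk o.b) (⟨o.base, ⟨𝟙 o.base⟩⟩ : (ofSch o.base).obj)) h
  · intro α
    obtain ⟨k, hk⟩ := sec_surj (Y := (𝔾).left) (T := o.base)
      (famVal x (Y := Over.mk o.b) (⟨o.base, ⟨𝟙 o.base⟩⟩ : (ofSch o.base).obj) α)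
    let g : Over.mk o.b ⟶ 𝔾 := Over.homMk k (sec_inj (by
      change (k.hom.app (op o.base) ⟨𝟙 o.base⟩ : AutTot x o.base).1 = _
      rw [hk]
      rfl))
    exact ⟨g, famVal_inj x ((famEquiv_spec x hX hs g _).symm.trans hk)⟩

theorem isRes_of_eq {T : Over S} {s s' : B.obj.obj (op T)} {α : Gerb.AutO (x.obj ⟨T, s⟩)}
    {β : Gerb.AutO (x.obj ⟨T, s'⟩)} (h : (⟨s, α⟩ : AutTot x T) = ⟨s', β⟩) {c : (ofSp B).obj}
    (m : (⟨T, s⟩ : (ofSp B).obj) ⟶ c) (m' : (⟨T, s'⟩ : (ofSp B).obj) ⟶ c) (hm : m.hom = m'.hom)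
    {δ : Gerb.AutO (x.obj c)} (hr : Fib44.IsRes (x.map m') δ β) : Fib44.IsRes (x.map m) δ α := by
  obtain ⟨rfl, h'⟩ := Sigma.mk.inj_iff.1 h
  obtain rfl := eq_of_heq h'
  obtain rfl : m = m' := Stk.EltObj.hom_ext hm
  exact hr

theorem autEl_natural {o o' : SpPt B} (f : o.base ⟶ o'.base)
    (wb : (AlgSp.yon S).map f ≫ o'.b = o.b) (g : Over.mk o'.b ⟶ 𝔾) :
    Fib44.IsRes (x.map (eltMap f wb)) (autEl x hX hs o' g) (autEl x hX hs o (bHom f wb ≫ g)) := by
  let c : (ofSch o.base).obj := ⟨o.base, ⟨𝟙 o.base⟩⟩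
  let c' : (ofSch o'.base).obj := ⟨o'.base, ⟨𝟙 o'.base⟩⟩
  let m : (ofSpMap ((AlgSp.yon S).map f)).obj c ⟶ c' :=
    ⟨f, ULift.ext _ _ ((Category.comp_id f).trans (Category.id_comp f).symm)⟩
  have h := (famEquiv x hX hs (Over.mk o'.b) g).2 m
  exact isRes_of_eq x (famEquiv_comp x hX hs (bHom f wb) g c) (eltMap f wb)
    ((ofSpMap o'.b).map m) rfl h

/-- The section on trivial torsors. -/
noncomputable def spTrivSection :
    letI := autGrp x hX hs
    spTrivCat 𝔾 ⥤ᵇ 𝒳 :=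
  letI := autGrp x hX hs
  { toFunctor :=
      { obj := fun (o : SpPt B) => x.obj o.toElt
        map := fun {o o'} k => (autEl x hX hs o (spElt k.hom)⁻¹).hom.1 ≫
          x.map (eltMap (spBase k.hom) (spBase_wb k.hom))
        map_id := fun (o : SpPt B) => by
          change (autEl x hX hs o (spElt (𝟙 (trivSp 𝔾 o)))⁻¹).hom.1 ≫
            x.map (eltMap (o := o) (o' := o) (𝟙 o.base) (spBase_wb (𝟙 (trivSp 𝔾 o)))) = _
          have h1 : autEl x hX hs o 1 = 1 := by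
            have := autEl_mul x hX hs o 1 1
            rw [_root_.mul_one] at this
            exact mul_eq_left.1 this.symm
          rw [spElt_id, inv_one, h1,
            show eltMap (o := o) (o' := o) (𝟙 o.base) (spBase_wb (𝟙 (trivSp 𝔾 o))) = 𝟙 o.toElt from
              Stk.EltObj.hom_ext rfl, x.toFunctor.map_id, Category.comp_id]
          rfl
        map_comp := fun {o o' o''} k l => by
          change (autEl x hX hs o (spElt (k.hom ≫ l.hom))⁻¹).hom.1 ≫
            x.map (eltMap (spBase k.hom ≫ spBase l.hom) (spBase_wb (k.hom ≫ l.hom))) =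
            ((autEl x hX hs o (spElt k.hom)⁻¹).hom.1 ≫ x.map (eltMap (spBase k.hom) (spBase_wb k.hom))) ≫
              (autEl x hX hs o' (spElt l.hom)⁻¹).hom.1 ≫ x.map (eltMap (spBase l.hom) (spBase_wb l.hom))
          rw [spElt_comp, _root_.mul_inv_rev, autEl_mul, ← GrpObj.comp_inv,
            show eltMap (spBase k.hom ≫ spBase l.hom) (spBase_wb (k.hom ≫ l.hom)) =
              eltMap (spBase k.hom) (spBase_wb k.hom) ≫ eltMap (spBase l.hom) (spBase_wb l.hom) from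
              Stk.EltObj.hom_ext rfl, x.toFunctor.map_comp]
          change (Fib44.autHom (autEl x hX hs o (spElt k.hom)⁻¹) ≫
            Fib44.autHom (autEl x hX hs o (spBaseHom k.hom ≫ (spElt l.hom)⁻¹))) ≫ _ = _
          simp only [Category.assoc]
          rw [reassoc_of% (autEl_natural x hX hs (spBase k.hom) (spBase_wb k.hom) (spElt l.hom)⁻¹)] }
    w := by
      refine CategoryTheory.Functor.ext (fun o => x.w_obj _) (fun o o' k => ?_)
      have h1 : 𝒳.p.IsHomLift (𝟙 (SpPt.base o)) (autEl x hX hs o (spElt k.hom)⁻¹).hom.1 :=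
        Fib44.lift_id_of_eq 𝒳.p (x.w_obj _) (autEl x hX hs o (spElt k.hom)⁻¹).hom.2
      have h2 : 𝒳.p.IsHomLift (spBase k.hom) (x.map (eltMap (spBase k.hom) (spBase_wb k.hom))) :=
        Fib44.based_isHomLift_self x (eltMap (spBase k.hom) (spBase_wb k.hom))
      exact @IsHomLift.fac' _ _ _ _ 𝒳.p _ _ _ _ _ _
        (@IsHomLift.comp_lift_id_left _ _ _ _ 𝒳.p _ _ _ _ _ _ _ h2 _ h1) }

variable (π : 𝒳 ⥤ᵇ ofSp B) (ex : BasedFunctor.comp x π ≅ BasedFunctor.id (ofSp B))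

include π ex in
theorem spTrivSection_full_faithful :
    letI := autGrp x hX hs
    (spTrivSection x hX hs).toFunctor.Full ∧ (spTrivSection x hX hs).toFunctor.Faithful := by
  letI := autGrp x hX hs
  refine ⟨⟨fun {o o'} φ => ?_⟩, ⟨fun {o o'} k k' h => ?_⟩⟩
  · let oo : SpPt B := o
    let oo' : SpPt B := o'
    change x.obj oo.toElt ⟶ x.obj oo'.toElt at φ
    let i := Fib44.isoApp ex oo.toElt
    let i' := Fib44.isoApp ex oo'.toElt
    let ψ : oo.toElt ⟶ oo'.toElt := i.inv ≫ π.map φ ≫ i'.hom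
    have wb : (AlgSp.yon S).map ψ.hom ≫ oo'.b = oo.b := by
      refine sec_inj ?_
      rw [← sec_comp]
      exact ψ.map_sec
    have hψ : (ofSp B).p.IsHomLift ψ.hom (π.map φ) := by
      have e : π.map φ = i.hom ≫ ψ ≫ i'.inv := by simp [ψ]
      rw [e]
      haveI : (ofSp B).p.IsHomLift (𝟙 oo.base) i.hom := ex.hom.isHomLift' oo.toElt
      haveI : (ofSp B).p.IsHomLift (𝟙 oo'.base) i'.inv := ex.inv.isHomLift' oo'.toElt
      haveI : (ofSp B).p.IsHomLift ψ.hom ψ := IsHomLift.map (ofSp B).p ψ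
      infer_instance
    haveI : 𝒳.p.IsHomLift ψ.hom φ := (BasedFunctor.isHomLift_iff π ψ.hom φ).1 hψ
    haveI : 𝒳.p.IsHomLift ψ.hom (x.map (eltMap ψ.hom wb)) :=
      Fib44.based_isHomLift_self x (eltMap (o := oo) (o' := oo') ψ.hom wb)
    haveI := Fib44.isSC_of_fibGrpd 𝒳.p hX ψ.hom (x.map (eltMap ψ.hom wb))
    let χ := Functor.IsCartesian.map 𝒳.p ψ.hom (x.map (eltMap ψ.hom wb)) φ
    have hχ : 𝒳.p.IsHomLift (𝟙 oo.base) χ :=
      Functor.IsCartesian.map_isHomLift 𝒳.p ψ.hom (x.map (eltMap ψ.hom wb)) φ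
    obtain ⟨α, hα⟩ := Fib44.exists_autO hX χ (Fib44.lift_id_of_eq 𝒳.p (x.w_obj oo.toElt).symm hχ)
    obtain ⟨g, hg⟩ := (autEl_bijective x hX hs oo).2 α
    obtain ⟨k, hk, hkg⟩ := exists_spHom ψ.hom wb g⁻¹
    refine ⟨InducedCategory.homMk k, ?_⟩
    change (autEl x hX hs oo (spElt k)⁻¹).hom.1 ≫ x.map (eltMap (spBase k) (spBase_wb k)) = φ
    rw [hkg, _root_.inv_inv, hg, show eltMap (spBase k) (spBase_wb k) = eltMap ψ.hom wb from
      Stk.EltObj.hom_ext hk]
    change Fib44.autHom α ≫ _ = φ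
    rw [hα]
    exact Functor.IsCartesian.fac 𝒳.p _ _ φ
  · let oo : SpPt B := o
    let oo' : SpPt B := o'
    change Fib44.autHom (autEl x hX hs oo (spElt k.hom)⁻¹) ≫
        x.map (eltMap (spBase k.hom) (spBase_wb k.hom)) =
      Fib44.autHom (autEl x hX hs oo (spElt k'.hom)⁻¹) ≫
        x.map (eltMap (spBase k'.hom) (spBase_wb k'.hom)) at h
    have hb : spBase k.hom = spBase k'.hom := by
      have e := congrArg (fun t => eqToHom (x.w_obj oo.toElt).symm ≫ 𝒳.p.map t ≫ eqToHom (x.w_obj oo'.toElt)) h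
      have hxm : ∀ m : oo.toElt ⟶ oo'.toElt, eqToHom (x.w_obj oo.toElt).symm ≫ 𝒳.p.map (x.map m) ≫
          eqToHom (x.w_obj oo'.toElt) = m.hom := fun m => by
        haveI : 𝒳.p.IsHomLift m.hom (x.map m) := Fib44.based_isHomLift_self x m
        rw [IsHomLift.fac' 𝒳.p m.hom (x.map m)]
        simp
      simp only [Functor.map_comp, Fib44.autHom_map, Category.id_comp] at e
      rwa [hxm, hxm] at e
    rw [show eltMap (spBase k.hom) (spBase_wb k.hom) = eltMap (spBase k'.hom) (spBase_wb k'.hom) from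
      Stk.EltObj.hom_ext hb] at h
    have h' := Fib44.autO_ext (Fib44.sc_hom_ext 𝒳.p _ (hX.isStronglyCartesian _)
      ((Fib44.autHom_map _).trans (Fib44.autHom_map _).symm) h)
    exact InducedCategory.Hom.ext
      (spElt_ext hb (inv_injective ((autEl_bijective x hX hs oo).1 h')))

include π ex in
theorem spTrivSection_cover (hπ : Gerb.LocSurjHom (AlgSp.J S) π) (ξ : 𝒳.obj) :
    letI := autGrp x hX hs
    ∃ R ∈ AlgSp.J S (𝒳.p.obj ξ), ∀ ⦃V : Over S⦄ (g : V ⟶ 𝒳.p.obj ξ), R g →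
      ∃ (a : (spTrivCat 𝔾).obj) (m : (spTrivSection x hX hs).obj a ⟶ ξ), 𝒳.p.IsHomLift g m := by
  letI := autGrp x hX hs
  obtain ⟨b, hb⟩ := sec_surj (π.obj ξ).sec
  let o : SpPt B := ⟨(π.obj ξ).base, b⟩
  have hbase : (π.obj ξ).base = 𝒳.p.obj ξ := π.w_obj ξ
  let j : o.toElt ≅ π.obj ξ := AlgSt88.eltIso hb
  let i := Fib44.isoApp ex o.toElt
  have hi : (ofSp B).p.IsHomLift (𝟙 o.base) i.hom := ex.hom.isHomLift' o.toElt
  have hj : (ofSp B).p.IsHomLift (𝟙 o.base) j.hom := IsHomLift.of_fac' _ _ _ rfl rfl (by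
    change 𝟙 _ = _
    simp)
  have hij : (ofSp B).p.IsHomLift (𝟙 (𝒳.p.obj (x.obj o.toElt))) (i.hom ≫ j.hom) :=
    Fib44.lift_id_of_eq (ofSp B).p (x.w_obj o.toElt).symm
      (@IsHomLift.comp_lift_id_left _ _ _ _ (ofSp B).p _ _ _ _ _ _ _ hj _ hi)
  have hx0 : 𝒳.p.obj (x.obj o.toElt) = 𝒳.p.obj ξ := (x.w_obj o.toElt).trans hbase
  obtain ⟨R, hR, hRP⟩ := hπ (x.obj o.toElt) ξ (i.hom ≫ j.hom) hij
  refine ⟨R.pullback (eqToHom hx0.symm), (AlgSp.J S).pullback_stable _ hR, fun V g hg => ?_⟩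
  obtain ⟨x₀, φ, ψ, hφ, hψ, -⟩ := hRP (g ≫ eqToHom hx0.symm) hg
  let f : V ⟶ o.base := g ≫ eqToHom hbase.symm
  let o₁ : SpPt B := ⟨V, (AlgSp.yon S).map f ≫ o.b⟩
  have hm : 𝒳.p.IsHomLift f (x.map (eltMap (o := o₁) (o' := o) f rfl)) :=
    Fib44.based_isHomLift_self x (eltMap (o := o₁) (o' := o) f rfl)
  have hd : 𝒳.p.obj x₀ = V := @IsHomLift.domain_eq _ _ _ _ 𝒳.p _ _ _ _ _ φ hφ
  have hφ' : 𝒳.p.IsHomLift f φ := IsHomLift.of_fac' _ _ _ hd (x.w_obj o.toElt) (by
    rw [@IsHomLift.fac' _ _ _ _ 𝒳.p _ _ _ _ _ φ hφ]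
    simp [f])
  haveI := Fib44.isSC_of_fibGrpd 𝒳.p hX f φ
  haveI := hm
  let χ := Functor.IsCartesian.map 𝒳.p f φ (x.map (eltMap (o := o₁) (o' := o) f rfl))
  have hχ : 𝒳.p.IsHomLift (𝟙 V) χ :=
    Functor.IsCartesian.map_isHomLift 𝒳.p f φ (x.map (eltMap (o := o₁) (o' := o) f rfl))
  have hψ' : 𝒳.p.IsHomLift g ψ := IsHomLift.of_fac' _ _ _ hd rfl (by
    rw [@IsHomLift.fac' _ _ _ _ 𝒳.p _ _ _ _ _ ψ hψ]
    simp)
  exact ⟨o₁, χ ≫ ψ, @IsHomLift.comp_lift_id_left _ _ _ _ 𝒳.p _ _ _ _ _ _ _ hψ' _ hχ⟩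

end Sect

/-- A gerbe over a space with a section is the classifying stack of the automorphisms of the
section. -/
theorem exists_spBG_equivOver {S : Scheme.{u}} {𝒳 : AlgSt.Cat S}
    (h𝒳 : IsAlgStack Scheme.fppfPrecoverage 𝒳) (U : AlgSp.Space S) (π : 𝒳 ⥤ᵇ ofSp U.obj)
    (hπ : Gerb.IsGerbeOver (QuotSh.J Scheme.fppfPrecoverage S) π) (x : ofSp U.obj ⥤ᵇ 𝒳)
    (ex : BasedFunctor.comp x π ≅ BasedFunctor.id (ofSp U.obj)) :
    ∃ (G : Over U.obj) (_ : GrpObj G),
      AlgSp.IsAlgSpace G.left ∧ AlgSp.LocP @Flat G.hom ∧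
      AlgSp.LocP @LocallyOfFinitePresentation G.hom ∧
      ∃ e : AlgSt.SpBG Scheme.fppfPrecoverage G ⥤ᵇ 𝒳,
        FibCat.IsEquivOver e ∧
        Nonempty (BasedFunctor.comp e π ≅
          W4stkstmgerbes.spQuotToBase Scheme.fppfPrecoverage G (AlgSt.trivGAction G)) := by
  obtain ⟨hs, hA, hf, hlfp⟩ := autOver_flat_lfp x h𝒳 π hπ
  have hX := h𝒳.isStack.1
  letI := autGrp x hX hs
  refine ⟨autOver x hX hs, autGrp x hX hs, hA, hf, hlfp, ?_⟩
  obtain ⟨hFull, hFaith⟩ := spTrivSection_full_faithful x hX hs π ex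
  haveI := hFull
  haveI := hFaith
  obtain ⟨Φ, hΦ, ⟨e⟩⟩ := Fib44.exists_equiv_of_dense (J := AlgSp.J S) h𝒳.isStack
    (AlgSt88.isStack_spQuotSt (trivGAction (autOver x hX hs)))
    (exists_lift_spTrivCat (G := autOver x hX hs)) (spTrivIncl (autOver x hX hs))
    (spTrivSection x hX hs) exists_spTriv_cover (spTrivSection_cover x hX hs π ex hπ.2)
  refine ⟨Φ, hΦ, ?_⟩
  have hU : Stk.IsStack (AlgSp.J S) (ofSp U.obj) :=
    (Fib44.isStack_ofPsh_iff (P := U.obj.obj) (AlgSp.J S)).2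
      ((isSheaf_iff_isSheaf_of_type _ _).1 U.obj.property)
  refine Fib44.exists_natIso_of_restr hU (AlgSt88.isFibGrpd_spQuotSt _)
    (exists_lift_spTrivCat (G := autOver x hX hs)) (inc := spTrivIncl (autOver x hX hs))
    exists_spTriv_cover _ _ ?_
  let d : BasedFunctor.comp (spTrivSection x hX hs) π ≅
      BasedFunctor.comp (spTrivIncl (autOver x hX hs))
        (W4stkstmgerbes.spQuotToBase Scheme.fppfPrecoverage (autOver x hX hs) (trivGAction _)) :=
    BasedNatIso.mkNatIso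
      (NatIso.ofComponents (fun o => Fib44.isoApp ex (SpPt.toElt o)) (fun {o o'} k =>
        ofSp_hom_ext _ _ (spBase k.hom)
          (by
            haveI : (ofSp U.obj).p.IsHomLift (spBase k.hom)
                ((BasedFunctor.comp (spTrivSection x hX hs) π).map k) :=
              Fib44.based_isHomLift_self (BasedFunctor.comp (spTrivSection x hX hs) π) k
            haveI : (ofSp U.obj).p.IsHomLift (𝟙 (SpPt.base o')) (Fib44.isoApp ex (SpPt.toElt o')).hom :=
              ex.hom.isHomLift' (SpPt.toElt o')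
            exact IsHomLift.comp_lift_id_right (ofSp U.obj).p _ _ _)
          (by
            haveI : (ofSp U.obj).p.IsHomLift (spBase k.hom)
                ((BasedFunctor.comp (spTrivIncl (autOver x hX hs))
                  (W4stkstmgerbes.spQuotToBase Scheme.fppfPrecoverage (autOver x hX hs)
                    (trivGAction _))).map k) :=
              Fib44.based_isHomLift_self (BasedFunctor.comp (spTrivIncl (autOver x hX hs)) _) k
            haveI : (ofSp U.obj).p.IsHomLift (𝟙 (SpPt.base o)) (Fib44.isoApp ex (SpPt.toElt o)).hom :=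
              ex.hom.isHomLift' (SpPt.toElt o)
            exact IsHomLift.comp_lift_id_left (ofSp U.obj).p _ _ _)))
      (fun o => ex.hom.isHomLift' (SpPt.toElt o))
  exact AlgSt88.bRight e π ≪≫ d

end Groth.Agent.Gerb44
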