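import Groth.Agent.Gerb44.QcResGerbe
import Groth.Agent.AlgSt88.ImageSubstack
import Groth.Agent.Fib44.Gerbe
import Mathlib.SetTheory.Cardinal.Ordinal

/-!
Stratifications of algebraic stacks with quasi-compact inertia by gerbes.
-/

set_option autoImplicit false
set_option maxHeartbeats 1000000
set_option linter.style.haveILetI false
set_option backward.isDefEq.respectTransparency false
set_option backward.isDefEq.respectTransparency.types false
universe v w u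

open CategoryTheory CategoryTheory.Limits AlgebraicGeometry Opposite AlgSt FibCat
open Groth.Agent.AlgSt88

namespace Groth.Agent.Gerb44

section Recursion

set_option linter.unusedSectionVars false

variable {α : Type v} [TopologicalSpace α] {ι : Type w} [LinearOrder ι] [WellFoundedLT ι]
  (W : Set α → Set α)

/-- The remainder before a stage of the exhaustion of a space by the choices `W`. -/
noncomputable def stratT : ι → Set α :=
  WellFoundedLT.fix fun i rec => {p | ∀ (j : ι) (h : j < i), p ∉ W (rec j h)}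

theorem stratT_eq (i : ι) : stratT (ι := ι) W i = {p | ∀ j, j < i → p ∉ W (stratT W j)} := by
  rw [stratT, WellFoundedLT.fix_eq]

theorem stratT_anti {i j : ι} (h : i ≤ j) : stratT W j ⊆ stratT W i := by
  rw [stratT_eq W i, stratT_eq W j]
  exact fun p hp k hk => hp k (hk.trans_le h)

theorem isClosed_stratT (hc : ∀ T : Set α, IsClosed T → IsClosed (T \ W T)) (i : ι) :
    IsClosed (stratT W i) := by
  induction i using WellFoundedLT.induction with
  | ind i ih =>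
    have e : stratT W i = ⋂ (j : ι) (_ : j < i), stratT W j \ W (stratT W j) := by
      ext p
      simp only [Set.mem_iInter]
      refine ⟨fun hp j hj => ⟨stratT_anti W hj.le hp, ?_⟩, fun hp => ?_⟩
      · rw [stratT_eq] at hp
        exact hp j hj
      · rw [stratT_eq]
        exact fun j hj => (hp j hj).2
    rw [e]
    exact isClosed_biInter fun j hj => hc _ (ih j hj)

end Recursion

theorem exists_strata {α : Type v} [TopologicalSpace α] (P : Set α → Set α → Prop)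
    (h : ∀ T : Set α, IsClosed T → T.Nonempty → ∃ W, W.Nonempty ∧ W ⊆ T ∧ IsClosed (T \ W) ∧ P T W) :
    ∃ (ι : Type v) (_ : LinearOrder ι) (_ : WellFoundedLT ι) (W T : ι → Set α),
      (∀ i, T i = {p | ∀ j, j < i → p ∉ W j}) ∧ (∀ p, ∃ i, p ∈ W i) ∧ (∀ i, IsClosed (T i)) ∧
      (∀ i, W i ⊆ T i ∧ P (T i) (W i)) := by
  classical
  let W₀ : Set α → Set α := fun T => if hT : IsClosed T ∧ T.Nonempty then (h T hT.1 hT.2).choose else ∅
  have hW₀ : ∀ T (h1 : IsClosed T) (h2 : T.Nonempty),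
      (W₀ T).Nonempty ∧ W₀ T ⊆ T ∧ IsClosed (T \ W₀ T) ∧ P T (W₀ T) := fun T h1 h2 => by
    simp only [W₀, dif_pos (And.intro h1 h2)]
    exact (h T h1 h2).choose_spec
  have hc : ∀ T : Set α, IsClosed T → IsClosed (T \ W₀ T) := fun T hT => by
    by_cases h2 : T.Nonempty
    · exact (hW₀ T hT h2).2.2.1
    · rw [Set.not_nonempty_iff_eq_empty.1 h2]
      simp
  let κ := (Order.succ (Cardinal.mk α)).ord.ToType
  let T' : κ → Set α := stratT W₀
  have hT' : ∀ i, IsClosed (T' i) := isClosed_stratT W₀ hc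
  let ι := {i : κ // (T' i).Nonempty}
  refine ⟨ι, inferInstance, inferInstance, fun i => W₀ (T' i.1), fun i => T' i.1, fun i => ?_, fun p => ?_,
    fun i => hT' _, fun i => ⟨(hW₀ _ (hT' _) i.2).2.1, (hW₀ _ (hT' _) i.2).2.2.2⟩⟩
  · ext p
    simp only [T']
    rw [stratT_eq]
    refine ⟨fun hp j hj => hp j.1 hj, fun hp j hj => ?_⟩
    by_cases hj' : (T' j).Nonempty
    · exact hp ⟨j, hj'⟩ hj
    · have he : W₀ (T' j) = ∅ := dif_neg fun H => hj' H.2
      change p ∉ W₀ (T' j)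
      rw [he]
      exact fun h => h
  · by_contra hp
    simp only [not_exists] at hp
    have hmem : ∀ i : κ, p ∈ T' i := by
      intro i
      induction i using WellFoundedLT.induction with
      | ind i ih =>
        simp only [T'] at ih ⊢
        rw [stratT_eq]
        exact fun j hj => hp ⟨j, p, ih j hj⟩
    choose f hf using fun i => (hW₀ (T' i) (hT' i) ⟨p, hmem i⟩).1
    have hinj : Function.Injective f := by
      intro i j hij
      by_contra hne
      rcases lt_or_gt_of_ne hne with hlt | hlt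
      · have h1 := (hW₀ (T' j) (hT' j) ⟨p, hmem j⟩).2.1 (hf j)
        rw [show T' j = _ from stratT_eq W₀ j] at h1
        exact h1 i hlt (hij ▸ hf i)
      · have h1 := (hW₀ (T' i) (hT' i) ⟨p, hmem i⟩).2.1 (hf i)
        rw [show T' i = _ from stratT_eq W₀ i] at h1
        exact h1 j hlt (hij.symm ▸ hf j)
    have h2 := Cardinal.mk_le_of_injective hinj
    rw [show Cardinal.mk κ = _ from Cardinal.mk_ord_toType _] at h2
    exact absurd h2 (Order.lt_succ _).not_ge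

variable {S : Scheme.{u}} {𝒳 𝒵 : AlgSt.Cat S}

theorem isGerbeOver_of_equiv {J : GrothendieckTopology (Over S)} (h𝒵 : IsFibGrpd 𝒵.p) (e : 𝒵 ⥤ᵇ 𝒳)
    (he : IsEquivOver e) : Gerb.IsGerbeOver J e := by
  have hd := isEquivData_of_isEquivOver he
  refine ⟨fun z => ⟨⊤, J.top_mem _, fun V f _ => ?_⟩, fun a a' b hb => ⟨⊤, J.top_mem _, fun V f _ => ?_⟩⟩
  · obtain ⟨x, k, hk⟩ := hd.essSurj z
    haveI := hk
    have hx : 𝒵.p.obj x = 𝒳.p.obj z :=
      (e.w_obj x).symm.trans (IsHomLift.domain_eq 𝒳.p (𝟙 (𝒳.p.obj z)) k.hom)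
    obtain ⟨x', φ, hφ⟩ := Fib44.exists_lift' 𝒵.p h𝒵 hx f
    haveI := hφ
    exact ⟨x', e.map φ ≫ k.hom, inferInstance⟩
  · haveI := hb
    obtain ⟨c, hc⟩ := hd.full b
    haveI : 𝒵.p.IsHomLift (𝟙 (𝒵.p.obj a)) c := by
      rw [← BasedFunctor.isHomLift_iff e, hc]
      exact hb
    obtain ⟨x', φ, hφ⟩ := Fib44.exists_lift' 𝒵.p h𝒵 rfl f
    haveI := hφ
    exact ⟨x', φ, φ ≫ c, hφ, inferInstance, by rw [Functor.map_comp, hc]⟩

theorem isAlgGerbe_of_equiv (hX : IsFibGrpd 𝒳.p) (h𝒵 : IsFibGrpd 𝒵.p) {e : 𝒵 ⥤ᵇ 𝒳} (he : IsEquivOver e)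
    (h : Gerb.IsAlgGerbe Scheme.fppfPrecoverage 𝒳) : Gerb.IsAlgGerbe Scheme.fppfPrecoverage 𝒵 := by
  obtain ⟨X, π, hπ⟩ := h
  exact ⟨X, BasedFunctor.comp e π, Fib44.isGerbeOver_comp h𝒵 hX (isGerbeOver_of_equiv h𝒵 e he) hπ⟩

theorem sm_of_openImm {i : 𝒵 ⥤ᵇ 𝒳} (hi : IsOpenImm i) : Sm i := by
  intro U y
  obtain ⟨F, e, he, ha⟩ := hi U y
  exact ⟨F, e, he, SpFP87.locP_of_repWith F.property.diag (AlgSp.IsAlgSpace.yon_obj U)
    (MorphismProperty.relative_monotone (fun _ _ f hf => by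
      haveI : IsOpenImmersion f.left := hf; exact (inferInstance : Smooth f.left)) _ ha)⟩

theorem isImm_of_openImm {i : 𝒵 ⥤ᵇ 𝒳} (hi : IsOpenImm i) : IsImm i := fun U y => by
  obtain ⟨F, e, he, ha⟩ := hi U y
  exact ⟨F, e, he, SpPts86.repWith_mono (fun _ _ f (_ : IsOpenImmersion f) => (inferInstance : IsImmersion f)) ha⟩

theorem isImm_of_closedImm {i : 𝒵 ⥤ᵇ 𝒳} (hi : IsClosedImm i) : IsImm i := fun U y => by
  obtain ⟨F, e, he, ha⟩ := hi U y
  exact ⟨F, e, he, SpPts86.repWith_mono (fun _ _ f (_ : IsClosedImmersion f) => (inferInstance : IsImmersion f)) ha⟩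

/-- An open gerbe of a reduced closed substack is a stratum. -/
theorem exists_stratum (h : IsAlgStack Scheme.fppfPrecoverage 𝒳) {Q : 𝒳.obj → Prop}
    (hQ : IsClosedSubstack 𝒳 Q Scheme.fppfPrecoverage)
    (hred : SmoothLocally (fun T => IsReduced T) (fullSub 𝒳 Q)) {P : (fullSub 𝒳 Q).obj → Prop}
    (hP : IsOpenSubstack (fullSub 𝒳 Q) P Scheme.fppfPrecoverage)
    (hg : Gerb.IsAlgGerbe Scheme.fppfPrecoverage (fullSub (fullSub 𝒳 Q) P)) :
    ∃ Q' : 𝒳.obj → Prop, IsLocClosedSubstack 𝒳 Q' Scheme.fppfPrecoverage ∧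
      SmoothLocally (fun T => IsReduced T) (fullSub 𝒳 Q') ∧
      Gerb.IsAlgGerbe Scheme.fppfPrecoverage (fullSub 𝒳 Q') ∧
      (IsQuasiCompact (fullSub (fullSub 𝒳 Q) P) → IsQuasiCompact (fullSub 𝒳 Q')) ∧
      Set.range (Points.map (subIncl 𝒳 Q')) =
        Points.map (subIncl 𝒳 Q) '' Set.range (Points.map (subIncl (fullSub 𝒳 Q) P)) := by
  obtain ⟨-, hZ, hcl⟩ := hQ
  obtain ⟨-, hA, hop⟩ := hP
  let i := BasedFunctor.comp (subIncl (fullSub 𝒳 Q) P) (subIncl 𝒳 Q)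
  have hi : IsImm i := repByAlgSpWith_repWith_comp @IsImmersion hA.isStack.1 hZ.isStack.1
    (isImm_of_openImm hop) (isImm_of_closedImm hcl)
  obtain ⟨Q', ⟨hlc, ⟨E, hE, ⟨β⟩⟩, -, -⟩, -⟩ := exists_unique_image hA h i hi
  obtain ⟨G, hG, -, -⟩ := isEquivOver_inverse hE
  refine ⟨Q', hlc, fun U x hx => ?_, isAlgGerbe_of_equiv hA.isStack.1 hlc.2.1.isStack.1 hG hg,
    isQuasiCompact_of_equiv hE, ?_⟩
  · refine hred U (BasedFunctor.comp (BasedFunctor.comp x G) (subIncl (fullSub 𝒳 Q) P)) ?_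
    exact sm_comp (isFibGrpd_overCat U) hA.isStack.1
      ((repByAlgSpWith_postcomp_equiv hG).2 hx) (sm_of_openImm hop)
  · rw [← Set.range_comp]
    ext p
    constructor
    · rintro ⟨q, rfl⟩
      obtain ⟨r, rfl⟩ := surjective_of_equiv hE q
      exact ⟨r, by rw [← points_map_comp, points_map_congr β, points_map_comp]; rfl⟩
    · rintro ⟨r, rfl⟩
      exact ⟨Points.map E r, by
        change _ = Points.map (subIncl 𝒳 Q) (Points.map (subIncl (fullSub 𝒳 Q) P) r)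
        rw [← points_map_comp, ← points_map_comp, points_map_congr β]⟩

/-- The strata are relatively open with closed complements. -/
theorem stratum_topology (h : IsAlgStack Scheme.fppfPrecoverage 𝒳) {Q : 𝒳.obj → Prop}
    (hQ : IsClosedSubstack 𝒳 Q Scheme.fppfPrecoverage) {T : Set (Points 𝒳)}
    (hT : Set.range (Points.map (subIncl 𝒳 Q)) = T) {A : Set (Points (fullSub 𝒳 Q))} (hA : IsOpen A) :
    IsClosed (T \ Points.map (subIncl 𝒳 Q) '' A) ∧
      IsOpen ((Subtype.val : T → Points 𝒳) ⁻¹' (Points.map (subIncl 𝒳 Q) '' A)) ∧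
      (Dense A → Dense ((Subtype.val : T → Points 𝒳) ⁻¹' (Points.map (subIncl 𝒳 Q) '' A))) := by
  have hemb := isClosedEmbedding_subIncl h hQ
  subst hT
  let e := hemb.isEmbedding.toHomeomorph
  have hpre : (Subtype.val : Set.range (Points.map (subIncl 𝒳 Q)) → Points 𝒳) ⁻¹'
      (Points.map (subIncl 𝒳 Q) '' A) = e '' A := by
    ext ⟨p, hp⟩
    constructor
    · rintro ⟨a, ha, hap⟩
      exact ⟨a, ha, Subtype.ext hap⟩
    · rintro ⟨a, ha, hap⟩
      exact ⟨a, ha, congrArg Subtype.val hap⟩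
  refine ⟨?_, hpre ▸ e.isOpenMap _ hA, fun hd => hpre ▸ e.surjective.denseRange.dense_image e.continuous hd⟩
  rw [← Set.image_univ, ← Set.image_sdiff hemb.injective, ← Set.compl_eq_univ_sdiff]
  exact hemb.isClosedMap _ hA.isClosed_compl

theorem stratification (h : IsAlgStack Scheme.fppfPrecoverage 𝒳)
    (C : (𝒳.obj → Prop) → Prop) (D : Set (Points 𝒳) → Set (Points 𝒳) → Prop)
    (hCD : ∀ (T : Set (Points 𝒳)) (Q : 𝒳.obj → Prop), IsClosedSubstack 𝒳 Q Scheme.fppfPrecoverage →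
      Set.range (Points.map (subIncl 𝒳 Q)) = T → SmoothLocally (fun X => IsReduced X) (fullSub 𝒳 Q) →
      T.Nonempty → ∃ Q' : 𝒳.obj → Prop, C Q' ∧ (Set.range (Points.map (subIncl 𝒳 Q'))).Nonempty ∧
        Set.range (Points.map (subIncl 𝒳 Q')) ⊆ T ∧
        IsClosed (T \ Set.range (Points.map (subIncl 𝒳 Q'))) ∧ D T (Set.range (Points.map (subIncl 𝒳 Q')))) :
    ∃ (I : Type (u + 1)) (_ : LinearOrder I) (_ : WellFoundedLT I) (Q : I → 𝒳.obj → Prop)
      (T : I → Set (Points 𝒳)),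
      (∀ i, T i = {p | ∀ i', i' < i → p ∉ Set.range (Points.map (subIncl 𝒳 (Q i')))}) ∧
      (∀ i, C (Q i)) ∧ (∀ p : Points 𝒳, ∃ i, p ∈ Set.range (Points.map (subIncl 𝒳 (Q i)))) ∧
      (∀ i, IsClosed (T i)) ∧
      (∀ i, Set.range (Points.map (subIncl 𝒳 (Q i))) ⊆ T i ∧
        D (T i) (Set.range (Points.map (subIncl 𝒳 (Q i))))) := by
  obtain ⟨ι, ho, hw, W, T, h1, h2, h3, h4⟩ := exists_strata
    (fun T W => ∃ Q' : 𝒳.obj → Prop, C Q' ∧ Set.range (Points.map (subIncl 𝒳 Q')) = W ∧ D T W)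
    (fun T hT hne => by
      obtain ⟨Q, hQ, hQT, hred⟩ := exists_reduced_closedSubstack h T hT
      obtain ⟨Q', hC, h1, h2, h3, h4⟩ := hCD T Q hQ hQT hred hne
      exact ⟨_, h1, h2, h3, Q', hC, rfl, h4⟩)
  choose Q hC hQW hD using fun i => (h4 i).2
  refine ⟨ι, ho, hw, Q, T, fun i => ?_, hC, fun p => ?_, h3, fun i => ?_⟩
  · simp only [hQW]
    exact h1 i
  · simp only [hQW]
    exact h2 p
  · rw [hQW i]
    exact ⟨(h4 i).1, hD i⟩

theorem exists_dense_stratification (h : IsAlgStack Scheme.fppfPrecoverage 𝒳)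
    (hI : IsQuasiCompactMor Scheme.fppfPrecoverage (inertiaToBase (toSelf 𝒳))) :
    ∃ (I : Type (u + 1)) (_ : LinearOrder I) (_ : WellFoundedLT I) (Q : I → 𝒳.obj → Prop)
      (T : I → Set (Points 𝒳)),
      (∀ i, T i = {p | ∀ i', i' < i → p ∉ Set.range (Points.map (subIncl 𝒳 (Q i')))}) ∧
      (∀ i, IsLocClosedSubstack 𝒳 (Q i) Scheme.fppfPrecoverage ∧
        SmoothLocally (fun X => IsReduced X) (fullSub 𝒳 (Q i)) ∧
        Gerb.IsAlgGerbe Scheme.fppfPrecoverage (fullSub 𝒳 (Q i))) ∧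
      (∀ p : Points 𝒳, ∃ i, p ∈ Set.range (Points.map (subIncl 𝒳 (Q i)))) ∧
      (∀ i, IsClosed (T i)) ∧
      (∀ i, Set.range (Points.map (subIncl 𝒳 (Q i))) ⊆ T i ∧
        IsOpen ((Subtype.val : T i → Points 𝒳) ⁻¹' Set.range (Points.map (subIncl 𝒳 (Q i)))) ∧
        Dense ((Subtype.val : T i → Points 𝒳) ⁻¹' Set.range (Points.map (subIncl 𝒳 (Q i))))) :=
  stratification h
    (fun Q => IsLocClosedSubstack 𝒳 Q Scheme.fppfPrecoverage ∧
      SmoothLocally (fun X => IsReduced X) (fullSub 𝒳 Q) ∧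
      Gerb.IsAlgGerbe Scheme.fppfPrecoverage (fullSub 𝒳 Q))
    (fun T W => IsOpen ((Subtype.val : T → Points 𝒳) ⁻¹' W) ∧ Dense ((Subtype.val : T → Points 𝒳) ⁻¹' W))
    (by
      intro T Q hQ hQT hred hne
      obtain ⟨P, hP, hd, hg⟩ := exists_dense_open_gerbe hQ.2.1 hred (isQuasiCompactMor_inertia_sub Q hI)
      obtain ⟨Q', h1, h2, h3, -, h5⟩ := exists_stratum h hQ hred hP hg
      obtain ⟨t1, t2, t3⟩ := stratum_topology h hQ hQT (isOpen_range_substack hQ.2.1 hP)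
      refine ⟨Q', ⟨h1, h2, h3⟩, ?_, h5 ▸ hQT ▸ Set.image_subset_range _ _, h5 ▸ t1, h5 ▸ ⟨t2, t3 hd⟩⟩
      obtain ⟨p, hp⟩ := hne
      obtain ⟨q, -⟩ := hQT.symm ▸ hp
      haveI : Nonempty (Points (fullSub 𝒳 Q)) := ⟨q⟩
      rw [h5]
      exact hd.nonempty.image _)

theorem exists_qc_stratification (h : IsAlgStack Scheme.fppfPrecoverage 𝒳)
    (hI : IsQuasiCompactMor Scheme.fppfPrecoverage (inertiaToBase (toSelf 𝒳))) :
    ∃ (I : Type (u + 1)) (_ : LinearOrder I) (_ : WellFoundedLT I) (Q : I → 𝒳.obj → Prop)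
      (T : I → Set (Points 𝒳)),
      (∀ i, T i = {p | ∀ i', i' < i → p ∉ Set.range (Points.map (subIncl 𝒳 (Q i')))}) ∧
      (∀ i, IsLocClosedSubstack 𝒳 (Q i) Scheme.fppfPrecoverage ∧
        SmoothLocally (fun X => IsReduced X) (fullSub 𝒳 (Q i)) ∧
        IsQuasiCompact (fullSub 𝒳 (Q i)) ∧
        Gerb.IsAlgGerbe Scheme.fppfPrecoverage (fullSub 𝒳 (Q i))) ∧
      (∀ p : Points 𝒳, ∃ i, p ∈ Set.range (Points.map (subIncl 𝒳 (Q i)))) ∧
      (∀ i, IsClosed (T i)) ∧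
      (∀ i, Set.range (Points.map (subIncl 𝒳 (Q i))) ⊆ T i ∧
        IsOpen ((Subtype.val : T i → Points 𝒳) ⁻¹' Set.range (Points.map (subIncl 𝒳 (Q i))))) :=
  stratification h
    (fun Q => IsLocClosedSubstack 𝒳 Q Scheme.fppfPrecoverage ∧
      SmoothLocally (fun X => IsReduced X) (fullSub 𝒳 Q) ∧ IsQuasiCompact (fullSub 𝒳 Q) ∧
      Gerb.IsAlgGerbe Scheme.fppfPrecoverage (fullSub 𝒳 Q))
    (fun T W => IsOpen ((Subtype.val : T → Points 𝒳) ⁻¹' W))
    (by
      intro T Q hQ hQT hred hne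
      obtain ⟨p, hp⟩ := hne
      obtain ⟨q, -⟩ := hQT.symm ▸ hp
      obtain ⟨P, hP, hnP, hq, hg⟩ :=
        exists_qc_open_gerbe hQ.2.1 hred (isQuasiCompactMor_inertia_sub Q hI) ⟨q⟩
      obtain ⟨Q', h1, h2, h3, h4, h5⟩ := exists_stratum h hQ hred hP hg
      obtain ⟨t1, t2, -⟩ := stratum_topology h hQ hQT (isOpen_range_substack hQ.2.1 hP)
      refine ⟨Q', ⟨h1, h2, h4 hq, h3⟩, ?_, h5 ▸ hQT ▸ Set.image_subset_range _ _, h5 ▸ t1, h5 ▸ t2⟩
      rw [h5]
      exact hnP.image _)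

end Groth.Agent.Gerb44
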